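import Cfsg.Agent.Lib.HNRec.Fusion.SylowChecks
import Mathlib.GroupTheory.Sylow

/-!
# A Sylow 2-subgroup of the group of triples and its involutions
-/

set_option autoImplicit false
set_option linter.style.haveILetI false
set_option maxRecDepth 100000

namespace CfsgLib.HNRec.Fusion

open CfsgLib.HNxyz CfsgLib.HNIndex
open scoped Pointwise

theorem okW_iff {w : List ℕ} : okW w = true ↔ ∀ g ∈ w, g < 6 := by
  simp [okW, List.all_eq_true]

theorem gWord_ok {j : ℕ} (hj : j < 4) : ∀ g ∈ gWord j, g < 6 := by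
  have h := List.all_eq_true.1 gen_checks j (List.mem_range.2 hj)
  rw [genOk, Bool.and_eq_true] at h
  exact okW_iff.1 h.1

theorem gstep_eq {j i : ℕ} (hj : j < 4) (hi : i < 1408) : gstep j i = img (gWord j) i := by
  have h := List.all_eq_true.1 gen_checks j (List.mem_range.2 hj)
  rw [genOk, Bool.and_eq_true] at h
  exact (Nat.eq_of_beq_eq_true (List.all_eq_true.1 h.2 i (List.mem_range.2 hi))).symm

theorem sWord_ok {s : List ℕ} (hs : ∀ j ∈ s, j < 4) : ∀ g ∈ sWord s, g < 6 := by
  intro g hg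
  simp only [sWord, List.mem_flatten, List.mem_map] at hg
  obtain ⟨_, ⟨j, hj, rfl⟩, hg⟩ := hg
  exact gWord_ok (hs j hj) g hg

theorem gfold_eq : ∀ {s : List ℕ}, (∀ j ∈ s, j < 4) → ∀ {i : ℕ}, i < 1408 → gfold s i = img (sWord s) i
  | [], _, _, _ => rfl
  | j :: s, hs, i, hi => by
    have hj := hs j List.mem_cons_self
    rw [gfold, show sWord (j :: s) = gWord j ++ sWord s from rfl, img_append, gstep_eq hj hi,
      gfold_eq (fun k hk => hs k (List.mem_cons_of_mem _ hk)) (img_lt (gWord_ok hj) hi)]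

theorem ok_append {u v : List ℕ} (hu : ∀ g ∈ u, g < 6) (hv : ∀ g ∈ v, g < 6) : ∀ g ∈ u ++ v, g < 6 :=
  fun g hg => (List.mem_append.1 hg).elim (hu g) (hv g)

theorem kW_append (u v : List ℕ) : kW (u ++ v) = (kW u).map (img v) := by
  simp [kW, List.map_map, img_append]

theorem elem_facts {i : ℕ} (hi : i < 2048) :
    (∀ j ∈ seqAt i, j < 4) ∧ kW (sWord (seqAt i)) = keyAt i ∧
      ∀ j < 4, nextAt i j < 2048 ∧ kW (sWord (seqAt i) ++ gWord j) = keyAt (nextAt i j) := by
  have h := List.all_eq_true.1 elem_checks i (List.mem_range.2 hi)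
  simp only [elemOk, Bool.and_eq_true, List.all_eq_true, Nat.blt_eq, beqL_iff, List.mem_range] at h
  obtain ⟨⟨h1, h2⟩, h3⟩ := h
  have hk : kW (sWord (seqAt i)) = keyAt i := by
    rw [← h2]
    exact List.map_congr_left fun p hp => (gfold_eq h1 (base_lt p hp)).symm
  refine ⟨h1, hk, fun j hj => ⟨(h3 j hj).1, ?_⟩⟩
  rw [← (h3 j hj).2, kW_append, hk]
  refine List.map_congr_left fun p hp => (gstep_eq hj ?_).symm
  rw [← hk, kW, List.mem_map] at hp
  obtain ⟨q, hq, rfl⟩ := hp
  exact img_lt (sWord_ok h1) (base_lt q hq)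

theorem seq_ok {i : ℕ} (hi : i < 2048) : ∀ g ∈ sWord (seqAt i), g < 6 := sWord_ok (elem_facts hi).1

theorem keyAt_inj {i j : ℕ} (hi : i < 2048) (hj : j < 2048) (h : keyAt i = keyAt j) : i = j := by
  have hmono : ∀ n, n < 2048 → ∀ m, m < n → pack (keyAt m) < pack (keyAt n) := by
    intro n
    induction n with
    | zero => omega
    | succ n ih =>
      intro hn m hm
      have hs : pack (keyAt n) < pack (keyAt (n + 1)) := by
        simpa using List.all_eq_true.1 sorted_checks n (List.mem_range.2 (by omega))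
      rcases Nat.lt_or_eq_of_le (Nat.le_of_lt_succ hm) with hlt | rfl
      · exact lt_trans (ih (by omega) m hlt) hs
      · exact hs
  rcases lt_trichotomy i j with hlt | rfl | hlt
  · have := hmono j hj i hlt; rw [h] at this; omega
  · rfl
  · have := hmono i hi j hlt; rw [h] at this; omega

theorem rep_ok {r : ℕ} (hr : r < 5) : ∀ g ∈ repW r, g < 6 :=
  okW_iff.1 (List.all_eq_true.1 rep_checks.1 r (List.mem_range.2 hr))

variable {G : Type} [Group G] {a b c : G}

theorem mW_of_kW (h : XYZRels a b c) {u v : List ℕ} (hu : ∀ g ∈ u, g < 6) (hv : ∀ g ∈ v, g < 6)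
    (e : kW u = kW v) : mW a b c u = mW a b c v := by
  refine mW_eq h ?_
  simp only [same, Bool.and_eq_true, List.all_eq_true, Nat.blt_eq, Nat.beq_eq]
  exact ⟨⟨hu, hv⟩, List.map_inj_left.1 e⟩

theorem kW_of_mW {u v : List ℕ} (hu : ∀ g ∈ u, g < 6) (hv : ∀ g ∈ v, g < 6)
    (e : mW a b c u = mW a b c v) : kW u = kW v := by
  refine List.map_congr_left fun p hp => ?_
  have h := congrArg (rho a b c) e
  rw [rho_mW, rho_mW] at h
  have h2 := congrArg (fun σ : Equiv.Perm (Fin 1408) => ((σ⁻¹ ⟨p, base_lt p hp⟩ : Fin 1408) : ℕ)) h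
  simpa only [img_spec hu, img_spec hv] using h2

theorem mW_append (u v : List ℕ) : mW a b c (u ++ v) = mW a b c u * mW a b c v := evalW_append _ u v

variable (a b c)

/-- The element at a position. -/
noncomputable def el (i : ℕ) : Mg a b c := mW a b c (sWord (seqAt i))

/-- The Sylow 2-subgroup. -/
noncomputable def syl : Subgroup (Mg a b c) :=
  Subgroup.closure {m | ∃ j < 4, m = mW a b c (gWord j)}

/-- A representative of a class. -/
noncomputable def rep (r : ℕ) : Mg a b c := mW a b c (repW r)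

variable {a b c}

theorem el_one (h : XYZRels a b c) : el a b c onePos = 1 := by
  have h1 := one_checks
  rw [Nat.blt_eq, beqL_iff] at h1
  exact mW_of_kW h (seq_ok h1.1) (v := []) (by simp) ((elem_facts h1.1).2.1.trans h1.2)

theorem el_inj {i j : ℕ} (hi : i < 2048) (hj : j < 2048) (e : el a b c i = el a b c j) : i = j :=
  keyAt_inj hi hj (by
    rw [← (elem_facts hi).2.1, ← (elem_facts hj).2.1]
    exact kW_of_mW (seq_ok hi) (seq_ok hj) e)

theorem el_step (h : XYZRels a b c) {i j : ℕ} (hi : i < 2048) (hj : j < 4) :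
    el a b c i * mW a b c (gWord j) = el a b c (nextAt i j) := by
  obtain ⟨-, -, h3⟩ := elem_facts hi
  obtain ⟨hn, he⟩ := h3 j hj
  rw [el, ← mW_append]
  refine mW_of_kW h ?_ (seq_ok hn) (he.trans (elem_facts hn).2.1.symm)
  exact ok_append (seq_ok hi) (gWord_ok hj)

theorem mW_sWord_mem : ∀ {s : List ℕ}, (∀ j ∈ s, j < 4) → mW a b c (sWord s) ∈ syl a b c
  | [], _ => by simp [mW, sWord, evalW_nil]
  | j :: s, hs => by
    rw [show sWord (j :: s) = gWord j ++ sWord s from rfl, mW_append]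
    exact mul_mem (Subgroup.subset_closure ⟨j, hs j List.mem_cons_self, rfl⟩)
      (mW_sWord_mem fun k hk => hs k (List.mem_cons_of_mem _ hk))

theorem syl_exact (h : XYZRels a b c) {m : Mg a b c} :
    m ∈ syl a b c ↔ ∃ i < 2048, el a b c i = m := by
  constructor
  · intro hm
    haveI := m_finite h
    rw [← Subgroup.mem_toSubmonoid, syl, Subgroup.closure_toSubmonoid_of_finite] at hm
    refine Submonoid.closure_induction_right (motive := fun x _ => ∃ i < 2048, el a b c i = x) ?_ ?_ hm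
    · exact ⟨onePos, Nat.blt_eq.mp one_checks.1, el_one h⟩
    · rintro x - y ⟨j, hj, rfl⟩ ⟨i, hi, rfl⟩
      exact ⟨nextAt i j, ((elem_facts hi).2.2 j hj).1, (el_step h hi hj).symm⟩
  · rintro ⟨i, hi, rfl⟩
    exact mW_sWord_mem (elem_facts hi).1

theorem el_mem (h : XYZRels a b c) {i : ℕ} (hi : i < 2048) : el a b c i ∈ syl a b c :=
  (syl_exact h).2 ⟨i, hi, rfl⟩

/-- The elements are numbered. -/
noncomputable def elEquiv (h : XYZRels a b c) : Fin 2048 ≃ syl a b c :=
  Equiv.ofBijective (fun i => ⟨el a b c i, el_mem h i.2⟩)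
    ⟨fun i j e => Fin.ext (el_inj i.2 j.2 (congrArg Subtype.val e)), fun m => by
      obtain ⟨i, hi, e⟩ := (syl_exact h).1 m.2
      exact ⟨⟨i, hi⟩, Subtype.ext e⟩⟩

theorem card_syl (h : XYZRels a b c) : Nat.card (syl a b c) = 2 ^ 11 := by
  rw [← Nat.card_congr (elEquiv h)]
  simp

/-- The Sylow subgroup as such. -/
noncomputable def sylow (h : XYZRels a b c) : Sylow 2 (Mg a b c) :=
  haveI := m_finite h
  haveI : Fact (Nat.Prime 2) := ⟨Nat.prime_two⟩
  Sylow.ofCard (syl a b c) (by
    rw [card_syl h, m_card h, show (177408000 : ℕ) = 2 ^ 11 * 86625 from by norm_num,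
      Nat.factorization_mul (by norm_num) (by norm_num), Finsupp.add_apply,
      Nat.Prime.factorization_pow Nat.prime_two,
      Nat.factorization_eq_zero_of_not_dvd (show ¬ (2 : ℕ) ∣ 86625 by norm_num)]
    simp)

theorem sqKey_eq {i : ℕ} (hi : i < 2048) :
    sqKey i = kW (sWord (seqAt i) ++ sWord (seqAt i)) := by
  obtain ⟨h1, h2, -⟩ := elem_facts hi
  rw [kW_append, h2]
  refine List.map_congr_left fun p hp => gfold_eq h1 ?_
  rw [← h2, kW, List.mem_map] at hp
  obtain ⟨q, hq, rfl⟩ := hp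
  exact img_lt (seq_ok hi) (base_lt q hq)

theorem sq_eq_iff (h : XYZRels a b c) {i : ℕ} (hi : i < 2048) {w : List ℕ} (hw : ∀ g ∈ w, g < 6) :
    el a b c i * el a b c i = mW a b c w ↔ sqKey i = kW w := by
  have hok : ∀ g ∈ sWord (seqAt i) ++ sWord (seqAt i), g < 6 := ok_append (seq_ok hi) (seq_ok hi)
  rw [el, ← mW_append, sqKey_eq hi]
  exact ⟨kW_of_mW hok hw, mW_of_kW h hok hw⟩

theorem invol_cases (h : XYZRels a b c) {i : ℕ} (hi : i < 2048) (h1 : el a b c i ≠ 1)
    (h2 : el a b c i * el a b c i = 1) :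
    ∃ r < 5, ∃ m : Mg a b c, m * el a b c i * m⁻¹ = rep a b c r := by
  have hk : sqKey i = base := by
    have := (sq_eq_iff h hi (w := []) (by simp)).1 h2
    simpa [kW, img] using this
  have hs := List.all_eq_true.1 square_checks i (List.mem_range.2 hi)
  simp only [squareOk, Bool.or_eq_true, Bool.not_eq_true', invPos, List.any_map, List.any_eq_true,
    Function.comp_apply, Nat.beq_eq] at hs
  rcases hs with (hs | hs) | ⟨e, he, hei⟩
  · rw [beqL_iff.2 hk] at hs
    exact absurd hs (by decide)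
  · exact absurd (hs ▸ el_one h) h1
  · have hc := List.all_eq_true.1 invol_checks e he
    simp only [involOk, Bool.and_eq_true, Nat.blt_eq, beqL_iff] at hc
    obtain ⟨⟨⟨-, hr⟩, hc1⟩, hc2⟩ := hc
    have hcw := okW_iff.1 hc1
    have hinv : ∀ g ∈ HNIndex.invW e.2.2, g < 6 := invW_lt hcw
    have hok : ∀ g ∈ cjWord e.2.1 e.2.2, g < 6 := ok_append (ok_append hinv (rep_ok hr)) hcw
    have he' : el a b c i = mW a b c (cjWord e.2.1 e.2.2) :=
      mW_of_kW h (seq_ok hi) hok (by rw [(elem_facts hi).2.1, hc2, hei])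
    refine ⟨e.2.1, hr, mW a b c e.2.2, ?_⟩
    rw [he', cjWord, mW_append, mW_append,
      show mW a b c (HNIndex.invW e.2.2) = (mW a b c e.2.2)⁻¹ from evalW_invW _ _ _ hinv, rep]
    group

/-- Every involution is conjugate to one of the five representatives. -/
theorem exists_rep (h : XYZRels a b c) {s : Mg a b c} (h1 : s ≠ 1) (h2 : s * s = 1) :
    ∃ r < 5, ∃ m : Mg a b c, m * s * m⁻¹ = rep a b c r := by
  haveI := m_finite h
  haveI : Fact (Nat.Prime 2) := ⟨Nat.prime_two⟩
  have hp : IsPGroup 2 (Subgroup.zpowers s) :=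
    IsPGroup.of_card (n := 1) (by rw [Nat.card_zpowers, orderOf_eq_prime (by rw [pow_two, h2]) h1, pow_one])
  obtain ⟨Q, hQ⟩ := hp.exists_le_sylow
  obtain ⟨g, hg⟩ := MulAction.exists_smul_eq (Mg a b c) Q (sylow h)
  have hs : g * s * g⁻¹ ∈ syl a b c := by
    have : MulAut.conj g • s ∈ MulAut.conj g • (Q : Subgroup (Mg a b c)) :=
      Subgroup.smul_mem_pointwise_smul _ _ _ (hQ (Subgroup.mem_zpowers s))
    rw [← Sylow.pointwise_smul_def, ← Sylow.smul_def, hg] at this
    exact this
  obtain ⟨i, hi, e⟩ := (syl_exact h).1 hs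
  obtain ⟨r, hr, m, hm⟩ := invol_cases h hi
    (by rw [e]; exact fun h' => h1 (conj_eq_one_iff.1 h'))
    (by rw [e]; calc g * s * g⁻¹ * (g * s * g⁻¹) = g * (s * s) * g⁻¹ := by group
                 _ = 1 := by rw [h2]; group)
  refine ⟨r, hr, m * g, ?_⟩
  rw [← hm, e]; group

/-- The first three representatives are central in the Sylow subgroup. -/
theorem rep_central (h : XYZRels a b c) {r : ℕ} (hr : r < 3) {m : Mg a b c} (hm : m ∈ syl a b c) :
    Commute (rep a b c r) m := by
  refine Subgroup.closure_induction (p := fun x _ => Commute (rep a b c r) x) ?_ (Commute.one_right _)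
    (fun _ _ _ _ hx hy => hx.mul_right hy) (fun _ _ hx => hx.inv_right) hm
  rintro x ⟨j, hj, rfl⟩
  have e := List.all_eq_true.1 (List.all_eq_true.1 rep_checks.2.1 r (List.mem_range.2 hr)) j
    (List.mem_range.2 hj)
  rw [beqL_iff] at e
  show mW a b c (repW r) * mW a b c (gWord j) = mW a b c (gWord j) * mW a b c (repW r)
  rw [← mW_append, ← mW_append]
  exact (mW_of_kW h (ok_append (gWord_ok hj) (rep_ok (by omega)))
    (ok_append (rep_ok (by omega)) (gWord_ok hj)) e).symm

theorem card_roots (h : XYZRels a b c) {r : ℕ} (hr : r < 5) :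
    Nat.card {m : Mg a b c // m ∈ syl a b c ∧ m * m = rep a b c r} = rootsOf r := by
  classical
  have key : ∀ i : Fin 2048, beqL (sqKey i) (kW (repW r)) = true ↔
      (el a b c i * el a b c i = rep a b c r) := fun i => by
    rw [beqL_iff, rep, sq_eq_iff h i.2 (rep_ok hr)]
  have e : Nat.card {i : Fin 2048 // beqL (sqKey i) (kW (repW r)) = true} =
      Nat.card {m : Mg a b c // m ∈ syl a b c ∧ m * m = rep a b c r} :=
    Nat.card_congr
      (((elEquiv h).subtypeEquiv (q := fun m : syl a b c => (m : Mg a b c) * m = rep a b c r) key).trans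
        (Equiv.subtypeSubtypeEquivSubtypeInter (fun m => m ∈ syl a b c) fun m => m * m = rep a b c r))
  rw [← e, Nat.card_eq_fintype_card, Fintype.card_subtype, rootsOf]
  rw [← List.toFinset_card_of_nodup ((List.nodup_range (n := 2048)).filter _)]
  refine Finset.card_bij (fun i _ => (i : ℕ)) ?_ (fun i _ j _ e => Fin.ext e) ?_
  · intro i hi
    simp only [List.mem_toFinset, List.mem_filter, List.mem_range]
    exact ⟨i.2, (Finset.mem_filter.1 hi).2⟩
  · intro n hn
    simp only [List.mem_toFinset, List.mem_filter, List.mem_range] at hn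
    exact ⟨⟨n, hn.1⟩, Finset.mem_filter.2 ⟨Finset.mem_univ _, hn.2⟩, rfl⟩

theorem rep_zero (h : XYZRels a b c) : rep a b c 0 = mW a b c [0, 0] :=
  mW_of_kW h (rep_ok (by decide)) (by decide) (beqL_iff.1 rep_checks.2.2.1)

theorem rep_three (h : XYZRels a b c) : rep a b c 3 = mW a b c [4] :=
  mW_of_kW h (rep_ok (by decide)) (by decide) (beqL_iff.1 rep_checks.2.2.2)

end CfsgLib.HNRec.Fusion
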