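import Cfsg.Agent.Lib.HNIndex.Fix
import Cfsg.Agent.Lib.HNIndex.Cover
import Cfsg.Agent.Lib.HNRec.Fusion.SylowData

/-!
# The checkable conditions on the Sylow 2-subgroup of the model
-/

set_option autoImplicit false

namespace CfsgLib.HNRec.Fusion

open CfsgLib.HNxyz CfsgLib.HNIndex

/-- The word of a generator. -/
def gWord (j : ℕ) : List ℕ := gWords.getD j []

/-- The packed images of a generator. -/
def gCells : ℕ → List ℕ
  | 0 => gCells0
  | 1 => gCells1
  | 2 => gCells2
  | _ => gCells3

/-- The image of a point under a generator. -/
def gstep (j i : ℕ) : ℕ := ((gCells j).getD (i / 32) 0 >>> (11 * (i % 32))) % 2048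

/-- The image of a point under a sequence of generators. -/
def gfold : List ℕ → ℕ → ℕ
  | [], i => i
  | j :: s, i => gfold s (gstep j i)

/-- The word of a sequence of generators. -/
def sWord (s : List ℕ) : List ℕ := (s.map gWord).flatten

/-- The images of the six points under a word. -/
def kW (w : List ℕ) : List ℕ := base.map (img w)

/-- An entry of a table in blocks of 32. -/
def blockAt (T : List (List (List ℕ))) (i : ℕ) : List ℕ := (T.getD (i / 32) []).getD (i % 32) []

/-- The sequence of an element. -/
def seqAt (i : ℕ) : List ℕ := blockAt seqs i

/-- The key of an element. -/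
def keyAt (i : ℕ) : List ℕ := blockAt keys i

/-- The position of the product with a generator. -/
def nextAt (i j : ℕ) : ℕ := (blockAt nexts i).getD j 0

/-- Six images as one number. -/
def pack (l : List ℕ) : ℕ := l.foldl (fun acc p => acc * 2048 + p) 0

/-- Equality of lists of numbers. -/
def beqL : List ℕ → List ℕ → Bool
  | [], [] => true
  | p :: u, q :: v => Nat.beq p q && beqL u v
  | _, _ => false

theorem beqL_iff : ∀ {u v : List ℕ}, beqL u v = true ↔ u = v
  | [], [] => by simp [beqL]
  | [], q :: v => by simp [beqL]
  | p :: u, [] => by simp [beqL]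
  | p :: u, q :: v => by simp [beqL, beqL_iff]

/-- The key of the square of an element. -/
def sqKey (i : ℕ) : List ℕ := (keyAt i).map (gfold (seqAt i))

/-- The word of a representative. -/
def repW (r : ℕ) : List ℕ := repWords.getD r []

/-- The word of a conjugate of a representative. -/
def cjWord (r : ℕ) (c : List ℕ) : List ℕ := HNIndex.invW c ++ repW r ++ c

/-- A valid word. -/
def okW (w : List ℕ) : Bool := w.all fun g => Nat.blt g 6

/-- The positions of the listed involutions. -/
def invPos : List ℕ := invols.map (·.1)

/-- Each element is neutral, listed, or squares to something else. -/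
def squareOk (i : ℕ) : Bool :=
  !beqL (sqKey i) base || Nat.beq i onePos || invPos.any (Nat.beq i)

/-- A generator agrees with its word. -/
def genOk (j : ℕ) : Bool :=
  okW (gWord j) && (List.range 1408).all fun i => Nat.beq (img (gWord j) i) (gstep j i)

/-- An element agrees with its key, and its products with the generators are listed. -/
def elemOk (i : ℕ) : Bool :=
  (seqAt i).all (fun j => Nat.blt j 4) && beqL (base.map (gfold (seqAt i))) (keyAt i) &&
    (List.range 4).all fun j =>
      Nat.blt (nextAt i j) 2048 && beqL ((keyAt i).map (gstep j)) (keyAt (nextAt i j))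

/-- A listed involution is the conjugate of its representative. -/
def involOk (e : ℕ × ℕ × List ℕ) : Bool :=
  Nat.blt e.1 2048 && Nat.blt e.2.1 5 && okW e.2.2 && beqL (kW (cjWord e.2.1 e.2.2)) (keyAt e.1)

/-- The number of square roots of a representative among the elements. -/
def rootsOf (r : ℕ) : ℕ :=
  let k := kW (repW r)
  ((List.range 2048).filter fun i => beqL (sqKey i) k).length

end CfsgLib.HNRec.Fusion
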