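import Cfsg.Agent.Lib.HNRec.Fusion.OpenTableDefs
import Cfsg.Agent.Lib.HNRec.Fusion.OpenGlueData

/-!
# The checks of the local facts on the involutions centralising the element of order three
-/

set_option autoImplicit false
set_option maxRecDepth 100000

namespace CfsgLib.HNRec.Fusion

open CfsgLib.HNxyz CfsgLib.HNIndex

/-- The position of an involution in the list of elements. -/
def oPos (i : ℕ) : ℕ := openInvPos.getD i 0

/-- The sequence of an involution. -/
def oSeq (i : ℕ) : List ℕ := openSeq (oPos i)

/-- The key of an involution. -/
def oKey (i : ℕ) : List ℕ := openKey (oPos i)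

/-- The product of two involutions. -/
def oMul (i j : ℕ) : ℕ := (openMuls.getD i []).getD j 84

/-- The class of an involution. -/
def oCls (i : ℕ) : ℕ := (openInvs.getD i ([], 0, [])).2.1

/-- The class is fused with the central involution. -/
def oFus (k : ℕ) : Bool := Nat.blt k 83 && !Nat.beq (oCls k) 2 && !Nat.beq (oCls k) 3

/-- The two involutions commute. -/
def oCm (i j : ℕ) : Bool := Nat.blt (oMul i j) 84

/-- An entry of the table is right. -/
def oMulOk (i j : ℕ) : Bool :=
  let u := (oKey i).map (openFold (oSeq j))
  let v := (oKey j).map (openFold (oSeq i))
  if oCm i j then beqL u v && beqL u (if Nat.blt (oMul i j) 83 then oKey (oMul i j) else base)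
  else !beqL u v

/-- The first kind, relative to `w`. -/
def oA (w x : ℕ) : Bool := oCm x w && oFus x && oFus (oMul x w)

/-- The second kind, relative to `w`. -/
def oB (w y : ℕ) : Bool := oCm y w && oFus y && !oFus (oMul y w)

/-- The position is outside the four-group of `y` and `s`. -/
def oOut (y s z : ℕ) : Bool :=
  Nat.blt z 83 && !Nat.beq z y && !Nat.beq z s && !Nat.beq z (oMul y s)

/-- A four-group commuting with `y` and `s` and meeting theirs trivially. -/
def oHas (y s : ℕ) : Bool :=
  let l := (List.range 83).filter fun i => oCm i y && oCm i s && oOut y s i
  l.any fun i => l.any fun j => oCm i j && oOut y s (oMul i j)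

/-- The images of six points under a power of a product of two involutions. -/
def oPow (x y : ℕ) : ℕ → List ℕ
  | 0 => base
  | n + 1 => (oPow x y n).map (openFold (oSeq x ++ oSeq y))

/-- The middle of `x` and `y` is `t` or `t * s`. -/
def oMid (x y : ℕ) : Bool :=
  (List.range 12).any fun n => beqL (oPow x y n) (oKey openT) || beqL (oPow x y n) (oKey openTS)

/-- The product has order at most eleven. -/
def oShort (x y : ℕ) : Bool := (List.range 11).any fun n => beqL (oPow x y (n + 1)) base

/-- The involutions of the first kind at `s`. -/
def oAs : List ℕ := (List.range 83).filter (oA openS)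

/-- The involutions of the second kind at `s` other than `t`. -/
def oBs : List ℕ := (List.range 83).filter fun y => oB openS y && !Nat.beq y openT

/-- The element of order five commutes with an involution. -/
def oFCm (i : ℕ) : Bool :=
  beqL ((openKey openF).map (openFold (oSeq i))) ((oKey i).map (openFold (openSeq openF)))

theorem oPos_checks : Nat.beq openInvs.length 83 = true ∧ Nat.beq openInvPos.length 83 = true ∧
    ((List.range 83).all fun i => Nat.blt (oPos i) 1440 &&
      (List.range 83).all fun j => Nat.beq i j || !Nat.beq (oPos i) (oPos j)) = true := by
  decide +kernel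

theorem oMul_checks : ((List.range 83).all fun i => (List.range 83).all fun j => oMulOk i j) = true := by
  decide +kernel

theorem oBase_checks :
    ((List.range 83).all fun i => Nat.beq (oMul i i) 83 && !beqL (oKey i) base) = true ∧
    beqL (oKey openT) (kW [0, 0]) = true ∧ Nat.blt openT 83 = true ∧ Nat.blt openS 83 = true ∧
    Nat.beq (oMul openT openS) openTS = true ∧ Nat.blt openTS 83 = true ∧
    oFus openS = false ∧ oFus openTS = false ∧ Nat.blt openSwap 1440 = true ∧
    beqL ((openKey openSwap).map (openFold (oSeq openTS)))
      ((oKey openS).map (openFold (openSeq openSwap))) = true := by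
  decide +kernel

theorem oOnly_checks : ((List.range 83).all fun s =>
    oFus s || oFus (oMul openT s) || !oHas openT s || Nat.beq s openS || Nat.beq s openTS) = true := by
  decide +kernel

theorem oRank_checks : ((List.range 83).all fun y => !oB openS y || oHas y openS) = true := by
  decide +kernel

theorem oUfr_checks : ((List.range 83).all fun w => oFus w || !oFus (oMul openT w) ||
    (let lb := (List.range 83).filter (oB w)
     Nat.beq lb.length 4 && lb.all (fun y => oHas y w) &&
      ((List.range 83).filter (oA w)).all fun x => lb.all fun y => oCm x y)) = true := by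
  decide +kernel

theorem oCount_checks : Nat.beq oAs.length 30 = true ∧ Nat.beq oBs.length 15 = true ∧
    (oAs.all fun x => !(oFus (oMul x openT) && oFus (oMul (oMul x openT) openS))) = true ∧
    ((List.range 83).all fun r => !(oCm r openS && oFus (oMul openT r)) ||
      (oFus r && oFus (oMul r openS)) || (oB openS r && !Nat.beq r openT) ||
        (oB openS (oMul r openS) && !Nat.beq (oMul r openS) openT)) = true := by
  decide +kernel

theorem oMid_checks : (oBs.all fun y => oAs.all (fun x => oShort x y) &&
    Nat.beq (oAs.filter fun x => oMid x y).length 26) = true := by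
  decide +kernel

theorem oF_checks : Nat.blt openF 1440 = true ∧ Nat.blt openInv 83 = true ∧
    beqL (base.map (openFold (List.replicate 5 (openSeq openF)).flatten)) base = true ∧
    (!beqL (openKey openF) base) = true ∧
    oFCm openS = true ∧ oFCm openT = true ∧
    ((List.range 83).all fun r => !(oCm r openS && oFCm r) ||
      Nat.beq r openT || Nat.beq r openS || Nat.beq r openTS) = true ∧
    (oBs.all fun y => !oFCm y) = true ∧ oA openS openInv = true ∧
    beqL ((oKey openInv).map (openFold (openSeq openF ++ oSeq openInv ++ openSeq openF))) base = true ∧
    Nat.ble 4 ((List.range 83).filter fun y => oB openS y && oCm y openInv).length = true := by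
  decide +kernel

end CfsgLib.HNRec.Fusion
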