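import Mathlib.GroupTheory.Perm.Cycle.Type
import Mathlib.Combinatorics.Enumerative.DoubleCounting
import Mathlib.GroupTheory.OrderOfElement
import Mathlib.GroupTheory.Index
import Mathlib.Data.Set.Card
import Mathlib.Tactic

/-!
# A counting argument against the open fusion pattern

Let `e` have order three and `s` be an involution outside the class of `t`, all three commuting.
In `K = C(e) ∩ C(s)` the elements of the class of `t` fall into those whose product with `s` is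
again in the class and a conjugacy class `B` of the others.  The local data at `t` give `|B| = 52`
and an element of order five with 7, 17, 27 or 37 fixed points on `B`, one orbit of its centraliser,
which does not divide the order of `K`.
-/

set_option autoImplicit false
set_option linter.style.haveILetI false
set_option maxHeartbeats 1600000

namespace CfsgLib.HNRec.Fusion

variable {G : Type} [Group G]

/-- An involution commuting with two elements. -/
def InvC (t e x : G) : Prop := x ≠ 1 ∧ x * x = 1 ∧ Commute x t ∧ Commute x e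

/-- Two elements generating a four-group that meets that of `y` and `s` trivially. -/
def Spread (y s i j : G) : Prop :=
  ∀ z, z = i ∨ z = j ∨ z = i * j → z ≠ 1 ∧ z ≠ y ∧ z ≠ s ∧ z ≠ y * s

/-- A four-group of this kind commuting with `y` and `s`. -/
def HasSpread (t e y s : G) : Prop :=
  ∃ i j, InvC t e i ∧ InvC t e j ∧ Commute i j ∧ Commute i y ∧ Commute j y ∧ Commute i s ∧
    Commute j s ∧ Spread y s i j

/-- `r` is the involution in the group generated by `x * y`. -/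
def Mid (x y r : G) : Prop := r ≠ 1 ∧ r * r = 1 ∧ ∃ n : ℕ, (x * y) ^ n = r

/-- An involution at `t` and `e` whose product with `s` stays in the class of `t`. -/
def LiftA (t e s x : G) : Prop := InvC t e x ∧ Commute x s ∧ IsConj t x ∧ IsConj t (x * s)

/-- An involution at `t` and `e` whose product with `s` leaves the class of `t`. -/
def LiftB (t e s y : G) : Prop := InvC t e y ∧ Commute y s ∧ IsConj t y ∧ ¬ IsConj t (y * s)

/-- The local facts at the involution. -/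
structure OpenFacts (t e s f : G) : Prop where
  t1 : t ≠ 1
  tt : t * t = 1
  te : Commute e t
  ee : e ^ 3 = 1
  e1 : e ≠ 1
  sI : InvC t e s
  sF : ¬ IsConj t s ∧ ¬ IsConj t (t * s)
  conj3 : ∀ x : G, Commute x t → x ^ 3 = 1 → x ≠ 1 → ∃ m, Commute m t ∧ m * x * m⁻¹ = e
  only_s : ∀ s' : G, InvC t e s' → ¬ IsConj t s' → ¬ IsConj t (t * s') → HasSpread t e t s' →
    s' = s ∨ s' = t * s
  swap : ∃ m, Commute m t ∧ Commute m e ∧ m * (t * s) * m⁻¹ = s
  rankB : ∀ y, LiftB t e s y → HasSpread t e y s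
  ufr : ∀ w, InvC t e w → ¬ IsConj t w → IsConj t (t * w) →
    (∀ x y, LiftA t e w x → LiftB t e w y → Commute x y) ∧
      {y | LiftB t e w y}.ncard = 4 ∧ ∀ y, LiftB t e w y → HasSpread t e y w
  a30 : {x | LiftA t e s x}.ncard = 30
  a_t : ∀ x, LiftA t e s x → ¬ (IsConj t (x * t) ∧ IsConj t (x * t * s))
  p15 : {y | LiftB t e s y ∧ y ≠ t}.ncard = 15
  a26 : ∀ y, LiftB t e s y → y ≠ t →
    {x | LiftA t e s x ∧ (Mid x y t ∨ Mid x y (t * s))}.ncard = 26
  mid : ∀ r, InvC t e r → Commute r s → IsConj t (t * r) → (IsConj t r ∧ IsConj t (r * s)) ∨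
    (LiftB t e s r ∧ r ≠ t) ∨ (LiftB t e s (r * s) ∧ r * s ≠ t)
  ff : Commute f t ∧ Commute f e ∧ Commute f s ∧ f ^ 5 = 1 ∧ f ≠ 1
  f_mid : ∀ r, InvC t e r → Commute r s → Commute r f → r = t ∨ r = s ∨ r = t * s
  f_fix : ∀ y, LiftB t e s y → y ≠ t → ¬ Commute y f
  inverting : ∃ i, LiftA t e s i ∧ i * f * i = f⁻¹ ∧ 4 ≤ {y | LiftB t e s y ∧ Commute y i}.ncard
  cardC : Nat.card (Subgroup.centralizer ({t, e, s} : Set G)) ∣ 1440

theorem fus_cj (t g x : G) : IsConj t (g * x * g⁻¹) ↔ IsConj t x := by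
  have h : IsConj x (g * x * g⁻¹) := isConj_iff.2 ⟨g, rfl⟩
  exact ⟨fun e => e.trans h.symm, fun e => e.trans h⟩

theorem fus_invol {t x : G} (t1 : t ≠ 1) (tt : t * t = 1) (h : IsConj t x) : x ≠ 1 ∧ x * x = 1 := by
  obtain ⟨g, rfl⟩ := isConj_iff.1 h
  refine ⟨fun e => t1 (conj_eq_one_iff.1 e), ?_⟩
  rw [show g * t * g⁻¹ * (g * t * g⁻¹) = g * (t * t) * g⁻¹ by group, tt]; group

theorem commute_cj {g x y : G} (h : Commute x y) : Commute (g * x * g⁻¹) (g * y * g⁻¹) :=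
  (Commute.conj_iff g).2 h

theorem cj_mul (g x y : G) : g * (x * y) * g⁻¹ = g * x * g⁻¹ * (g * y * g⁻¹) := by group

theorem cj_pow (g x : G) : ∀ n : ℕ, (g * x * g⁻¹) ^ n = g * x ^ n * g⁻¹ := fun n => conj_pow

theorem cj_inj {g x y : G} (h : g * x * g⁻¹ = g * y * g⁻¹) : x = y :=
  mul_left_cancel (mul_right_cancel h)

theorem cj_back (g x : G) : g * (g⁻¹ * x * g) * g⁻¹ = x := by group

theorem mid_cj {x y r : G} (g : G) :
    Mid (g * x * g⁻¹) (g * y * g⁻¹) (g * r * g⁻¹) ↔ Mid x y r := by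
  have h1 : g * r * g⁻¹ = 1 ↔ r = 1 := conj_eq_one_iff
  have h2 : g * r * g⁻¹ * (g * r * g⁻¹) = 1 ↔ r * r = 1 := by rw [← cj_mul]; exact conj_eq_one_iff
  constructor
  · rintro ⟨a1, a2, n, hn⟩
    rw [← cj_mul, cj_pow] at hn
    exact ⟨fun e => a1 (h1.2 e), h2.1 a2, n, cj_inj hn⟩
  · rintro ⟨a1, a2, n, hn⟩
    exact ⟨fun e => a1 (h1.1 e), h2.2 a2, n, by rw [← cj_mul, cj_pow, hn]⟩

theorem mid_unique [Finite G] {x y r r' : G} (h : Mid x y r) (h' : Mid x y r') : r = r' := by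
  obtain ⟨a1, a2, n, hn⟩ := h
  obtain ⟨b1, b2, n', hn'⟩ := h'
  have key : ∀ {z : G}, z ≠ 1 → z * z = 1 → z ∈ Subgroup.zpowers (x * y) →
      z = (x * y) ^ (orderOf (x * y) / 2) := by
    intro z z1 z2 hz
    obtain ⟨k₀, hk₀⟩ := mem_powers_iff_mem_zpowers.2 hz
    have hk₀' : (x * y) ^ k₀ = z := hk₀
    obtain ⟨k, hk1, rfl⟩ : ∃ k < orderOf (x * y), (x * y) ^ k = z :=
      ⟨k₀ % orderOf (x * y), Nat.mod_lt _ (orderOf_pos _), by rw [pow_mod_orderOf, hk₀']⟩
    rw [← pow_add] at z2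
    have hd := orderOf_dvd_of_pow_eq_one z2
    have hk0 : k ≠ 0 := fun e => z1 (by rw [e, pow_zero])
    obtain ⟨m, hm⟩ := hd
    have : m = 1 := by
      rcases m with _ | _ | m
      · omega
      · rfl
      · nlinarith
    subst this
    rw [show orderOf (x * y) / 2 = k by omega]
  have hm : ∀ {z : G} {k : ℕ}, (x * y) ^ k = z → z ∈ Subgroup.zpowers (x * y) := fun e =>
    e ▸ pow_mem (Subgroup.mem_zpowers _) _
  rw [key a1 a2 (hm hn), key b1 b2 (hm hn')]

/-- Two involutions are conjugate by a power of their product, or have a middle involution. -/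
theorem dihedral [Finite G] {x y : G} (hx : x * x = 1) (hy : y * y = 1) :
    (∃ n : ℕ, (x * y) ^ n * x * ((x * y) ^ n)⁻¹ = y) ∨
      ∃ r, Mid x y r ∧ Commute r x ∧ Commute r y ∧
        ∃ n : ℕ, ((x * y) ^ n * x * ((x * y) ^ n)⁻¹ = y * r) ∨
          ((x * y) ^ n * y * ((x * y) ^ n)⁻¹ = y * r) := by
  set d := x * y with hd
  have xi : x⁻¹ = x := inv_eq_of_mul_eq_one_right hx
  have yi : y⁻¹ = y := inv_eq_of_mul_eq_one_right hy
  have e1 : d * x * d = x := by
    calc x * y * x * (x * y) = x * (y * (x * x) * y) := by group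
      _ = x := by rw [hx, mul_one, hy, mul_one]
  have e2 : d * y * d = y := by
    calc x * y * y * (x * y) = x * (y * y) * x * y := by group
      _ = y := by rw [hy, mul_one, hx, one_mul]
  have hyd : y = d⁻¹ * x := by rw [hd, mul_inv_rev, mul_assoc, inv_mul_cancel, mul_one, yi]
  have flip : ∀ {z : G}, d * z * d = z → ∀ k : ℕ, d ^ k * z * d ^ k = z := by
    intro z hz k
    induction k with
    | zero => simp
    | succ k ih =>
      calc d ^ (k + 1) * z * d ^ (k + 1) = d ^ k * (d * z * d) * d ^ k := by group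
        _ = z := by rw [hz, ih]
  have conj_eq : ∀ {z : G}, d * z * d = z → ∀ k : ℕ, d ^ k * z * (d ^ k)⁻¹ = d ^ (2 * k) * z := by
    intro z hz k
    rw [mul_inv_eq_iff_eq_mul]
    calc d ^ k * z = d ^ k * (d ^ k * z * d ^ k) := by rw [flip hz k]
      _ = d ^ (2 * k) * z * d ^ k := by rw [two_mul, pow_add]; group
  have hpos : 0 < orderOf d := orderOf_pos d
  rcases Nat.even_or_odd (orderOf d) with ⟨h, hh⟩ | ⟨h, hh⟩
  · right
    set r := d ^ h with hr
    have hr2 : r * r = 1 := by rw [hr, ← pow_add, ← hh, pow_orderOf_eq_one]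
    have hr1 : r ≠ 1 := fun e => by
      have := Nat.le_of_dvd (by omega) (orderOf_dvd_of_pow_eq_one e); omega
    have ri : r⁻¹ = r := inv_eq_of_mul_eq_one_right hr2
    have hcomm : ∀ {z : G}, d * z * d = z → Commute r z := by
      intro z hz
      show r * z = z * r
      calc r * z = r * z * r * r⁻¹ := by group
        _ = z * r := by rw [hr, flip hz h, ← hr, ri]
    refine ⟨r, ⟨hr1, hr2, h, rfl⟩, hcomm e1, hcomm e2, ?_⟩
    rcases Nat.even_or_odd h with ⟨k, hk⟩ | ⟨k, hk⟩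
    · refine ⟨k, Or.inr ?_⟩
      rw [conj_eq e2, ← (hcomm e2).eq, hr, hk, two_mul]
    · refine ⟨k, Or.inl ?_⟩
      rw [conj_eq e1, ← (hcomm e2).eq, hr, hk, pow_succ, mul_assoc, hyd, mul_inv_cancel_left]
  · left
    refine ⟨h, ?_⟩
    rw [conj_eq e1, hyd]
    congr 1
    refine eq_inv_of_mul_eq_one_left ?_
    rw [← pow_succ, ← hh, pow_orderOf_eq_one]

theorem mem_cent_pair {u v x : G} :
    x ∈ Subgroup.centralizer ({u, v} : Set G) ↔ Commute x u ∧ Commute x v := by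
  rw [Subgroup.mem_centralizer_iff]
  refine ⟨fun h => ⟨(h u (by simp)).symm, (h v (by simp)).symm⟩, ?_⟩
  rintro ⟨h1, h2⟩ z (rfl | rfl)
  exacts [h1.eq.symm, h2.eq.symm]

theorem mem_cent_three {u v w x : G} :
    x ∈ Subgroup.centralizer ({u, v, w} : Set G) ↔ Commute x u ∧ Commute x v ∧ Commute x w := by
  rw [Subgroup.mem_centralizer_iff]
  refine ⟨fun h => ⟨(h u (by simp)).symm, (h v (by simp)).symm, (h w (by simp)).symm⟩, ?_⟩
  rintro ⟨h1, h2, h3⟩ z (rfl | rfl | rfl)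
  exacts [h1.eq.symm, h2.eq.symm, h3.eq.symm]

/-- The conjugates of an element under a subgroup, times its stabiliser. -/
theorem card_cj_orbit [Finite G] (H : Subgroup G) (x : G) :
    Nat.card H =
      {y | ∃ h ∈ H, h * x * h⁻¹ = y}.ncard * Nat.card ↥(H ⊓ Subgroup.centralizer ({x} : Set G)) := by
  classical
  set S := {y | ∃ h ∈ H, h * x * h⁻¹ = y}
  choose σ hσ hσ' using fun y : S => y.2
  let F : H → S × ↥(H ⊓ Subgroup.centralizer ({x} : Set G)) := fun g =>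
    let y : S := ⟨g.1 * x * g.1⁻¹, g.1, g.2, rfl⟩
    ⟨y, (σ y)⁻¹ * g.1, Subgroup.mem_inf.2 ⟨mul_mem (inv_mem (hσ y)) g.2,
      Subgroup.mem_centralizer_singleton_iff.2 (by
        have := hσ' y
        calc (σ y)⁻¹ * g.1 * x = (σ y)⁻¹ * (g.1 * x * g.1⁻¹) * g.1 := by group
          _ = (σ y)⁻¹ * (σ y * x * (σ y)⁻¹) * g.1 := by rw [this]
          _ = x * ((σ y)⁻¹ * g.1) := by group)⟩⟩
  have hF : Function.Bijective F := by
    constructor
    · intro g g' e
      have e1 : (⟨g.1 * x * g.1⁻¹, g.1, g.2, rfl⟩ : S) = ⟨g'.1 * x * g'.1⁻¹, g'.1, g'.2, rfl⟩ :=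
        congrArg Prod.fst e
      have e2 := congrArg (fun p => (p.2 : G)) e
      simp only [F] at e2
      rw [e1] at e2
      exact Subtype.ext (mul_left_cancel e2)
    · rintro ⟨y, u⟩
      obtain ⟨hu, hu'⟩ := Subgroup.mem_inf.1 u.2
      have hux : u.1 * x * u.1⁻¹ = x := by
        rw [Subgroup.mem_centralizer_singleton_iff.1 hu']; group
      refine ⟨⟨σ y * u.1, mul_mem (hσ y) hu⟩, ?_⟩
      have hy : (σ y * u.1) * x * (σ y * u.1)⁻¹ = y.1 := by
        rw [show σ y * u.1 * x * (σ y * u.1)⁻¹ = σ y * (u.1 * x * u.1⁻¹) * (σ y)⁻¹ by group, hux, hσ']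
      have hy' : (⟨_, σ y * u.1, mul_mem (hσ y) hu, rfl⟩ : S) = y := Subtype.ext hy
      refine Prod.ext hy' (Subtype.ext ?_)
      simp only [F]
      rw [hy', inv_mul_cancel_left]
  rw [Nat.card_congr (Equiv.ofBijective F hF), Nat.card_prod, Nat.card_coe_set_eq]

/-- The elements fixed by a permutation of prime power order. -/
theorem ncard_fixed_modEq [Finite G] {p : ℕ} [Fact p.Prime] (g : G) (hg : g ^ p = 1) (S : Set G)
    (hS : ∀ y ∈ S, g * y * g⁻¹ ∈ S) :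
    {y ∈ S | Commute y g}.ncard ≡ S.ncard [MOD p] := by
  classical
  haveI := Fintype.ofFinite G
  have hi : ∀ k : ℕ, ∀ y ∈ S, g ^ k * y * (g ^ k)⁻¹ ∈ S := by
    intro k
    induction k with
    | zero => intro y hy; simpa using hy
    | succ k ih =>
      intro y hy
      have := hS _ (ih y hy)
      rw [pow_succ', mul_inv_rev]
      simpa [mul_assoc] using this
  have hp : 0 < p := (Fact.out : p.Prime).pos
  have ginv : g⁻¹ = g ^ (p - 1) := by
    refine inv_eq_of_mul_eq_one_right ?_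
    rw [← pow_succ', show p - 1 + 1 = p by omega, hg]
  let σ : Equiv.Perm S :=
    { toFun := fun y => ⟨g * y.1 * g⁻¹, hS _ y.2⟩
      invFun := fun y => ⟨g⁻¹ * y.1 * g, by
        have := hi (p - 1) y.1 y.2
        rwa [← ginv, inv_inv] at this⟩
      left_inv := fun y => Subtype.ext (by group)
      right_inv := fun y => Subtype.ext (by group) }
  have hpow : ∀ (k : ℕ) (y : S), ((σ ^ k) y : G) = g ^ k * y.1 * (g ^ k)⁻¹ := by
    intro k
    induction k with
    | zero => simp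
    | succ k ih =>
      intro y
      rw [pow_succ', Equiv.Perm.mul_apply]
      show g * ((σ ^ k) y : G) * g⁻¹ = _
      rw [ih]; group
  have hσ : σ ^ p ^ 1 = 1 := by
    refine Equiv.ext fun y => Subtype.ext ?_
    rw [pow_one, hpow, hg]; simp
  have h := Equiv.Perm.card_compl_support_modEq hσ
  rw [← Nat.card_eq_fintype_card, Nat.card_coe_set_eq] at h
  convert h using 1
  rw [← Set.ncard_coe_finset, ← Set.ncard_image_of_injective _ Subtype.val_injective]
  congr 1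
  ext y
  simp only [Finset.coe_compl, Set.mem_setOf_eq, Set.mem_image, Set.mem_compl_iff, Finset.mem_coe,
    Equiv.Perm.mem_support, not_not, Subtype.exists, exists_and_right, exists_eq_right]
  constructor
  · rintro ⟨hy, hc⟩
    exact ⟨hy, Subtype.ext (mul_inv_eq_iff_eq_mul.2 hc.eq.symm)⟩
  · rintro ⟨hy, hc⟩
    exact ⟨hy, (mul_inv_eq_iff_eq_mul.1 (congrArg Subtype.val hc)).symm⟩

variable {t e s f : G}

/-- The elements of `C(e) ∩ C(s)` staying in the class of `t` after multiplication by `s`. -/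
def KA (t e s : G) : Set G := {x | Commute x e ∧ Commute x s ∧ IsConj t x ∧ IsConj t (x * s)}

/-- The class of `t` in `C(e) ∩ C(s)`. -/
def KB (t e s : G) : Set G := {y | ∃ k ∈ Subgroup.centralizer ({e, s} : Set G), k * t * k⁻¹ = y}

namespace OpenFacts

variable (D : OpenFacts t e s f)
include D

theorem mem_frame [Finite G] {y : G} (hy : IsConj t y) (hye : Commute y e) :
    ∃ g, g * y * g⁻¹ = t ∧ g * e * g⁻¹ = e := by
  obtain ⟨g, hg⟩ := isConj_iff.1 hy.symm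
  have h3 : (g * e * g⁻¹) ^ 3 = 1 := by rw [cj_pow, D.ee]; group
  have h1 : g * e * g⁻¹ ≠ 1 := fun h => D.e1 (conj_eq_one_iff.1 h)
  obtain ⟨m, hm, hme⟩ := D.conj3 _ (hg ▸ (commute_cj (g := g) hye).symm) h3 h1
  refine ⟨m * g, ?_, ?_⟩
  · rw [show m * g * y * (m * g)⁻¹ = m * (g * y * g⁻¹) * m⁻¹ by group, hg, hm.eq]; group
  · rw [show m * g * e * (m * g)⁻¹ = m * (g * e * g⁻¹) * m⁻¹ by group, hme]

theorem invC_cj {g x y : G} (hy : g * y * g⁻¹ = t) (he : g * e * g⁻¹ = e) (hx1 : x ≠ 1)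
    (hx2 : x * x = 1) (hxy : Commute x y) (hxe : Commute x e) : InvC t e (g * x * g⁻¹) := by
  refine ⟨fun h => hx1 (conj_eq_one_iff.1 h), ?_, hy ▸ commute_cj hxy, by
    have := commute_cj (g := g) hxe
    rwa [he] at this⟩
  rw [← cj_mul, hx2]; group

theorem mem_B [Finite G] {y : G} (hye : Commute y e) (hys : Commute y s) (hF : IsConj t y)
    (hn : ¬ IsConj t (y * s))
    (hr : ∃ i j, Commute i e ∧ Commute j e ∧ i * i = 1 ∧ j * j = 1 ∧ Commute i j ∧ Commute i y ∧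
      Commute j y ∧ Commute i s ∧ Commute j s ∧ Spread y s i j) :
    y ∈ KB t e s := by
  obtain ⟨g, hg, hge⟩ := D.mem_frame hF hye
  obtain ⟨i, j, hie, hje, hi2, hj2, hij, hiy, hjy, his, hjs, hsp⟩ := hr
  set s' := g * s * g⁻¹ with hs'
  have hts : t * s' = g * (y * s) * g⁻¹ := by rw [cj_mul, hg]
  have h1 := D.only_s s' (D.invC_cj hg hge D.sI.1 D.sI.2.1 hys.symm D.sI.2.2.2)
    (by rw [hs', fus_cj]; exact D.sF.1) (by rw [hts, fus_cj]; exact hn)
    ⟨g * i * g⁻¹, g * j * g⁻¹, D.invC_cj hg hge (hsp i (Or.inl rfl)).1 hi2 hiy hie,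
      D.invC_cj hg hge (hsp j (Or.inr (Or.inl rfl))).1 hj2 hjy hje, commute_cj hij, hg ▸ commute_cj hiy,
      hg ▸ commute_cj hjy, commute_cj his, commute_cj hjs, by
        intro z hz
        have hz' : z = g * (g⁻¹ * z * g) * g⁻¹ := (cj_back g z).symm
        have hw : g⁻¹ * z * g = i ∨ g⁻¹ * z * g = j ∨ g⁻¹ * z * g = i * j := by
          rcases hz with rfl | rfl | rfl
          · left; group
          · right; left; group
          · right; right; group
        obtain ⟨n1, n2, n3, n4⟩ := hsp _ hw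
        rw [hz', hts]
        refine ⟨fun h => n1 (conj_eq_one_iff.1 h), fun h => n2 ?_, fun h => n3 (cj_inj h),
          fun h => n4 (cj_inj h)⟩
        exact cj_inj (h.trans hg.symm)⟩
  have key : ∀ {w : G}, w * y * w⁻¹ = t → w * e * w⁻¹ = e → w * s * w⁻¹ = s → y ∈ KB t e s := by
    intro w h1 h2 h3
    refine ⟨w⁻¹, mem_cent_pair.2 ⟨?_, ?_⟩, by rw [← h1]; group⟩
    · exact (Commute.inv_left (mul_inv_eq_iff_eq_mul.1 h2))
    · exact (Commute.inv_left (mul_inv_eq_iff_eq_mul.1 h3))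
  rcases h1 with h1 | h1
  · exact key hg hge h1
  · obtain ⟨m, hmt, hme, hms⟩ := D.swap
    refine key (w := m * g) ?_ ?_ ?_
    · rw [show m * g * y * (m * g)⁻¹ = m * (g * y * g⁻¹) * m⁻¹ by group, hg, hmt.eq]; group
    · rw [show m * g * e * (m * g)⁻¹ = m * (g * e * g⁻¹) * m⁻¹ by group, hge, hme.eq]; group
    · rw [show m * g * s * (m * g)⁻¹ = m * (g * s * g⁻¹) * m⁻¹ by group, ← hs', h1, hms]

theorem B_props {y : G} (hy : y ∈ KB t e s) :
    Commute y e ∧ Commute y s ∧ IsConj t y ∧ ¬ IsConj t (y * s) := by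
  obtain ⟨k, hk, rfl⟩ := hy
  obtain ⟨hke, hks⟩ := mem_cent_pair.1 hk
  have e1 : k * e * k⁻¹ = e := by rw [hke.eq]; group
  have e2 : k * s * k⁻¹ = s := by rw [hks.eq]; group
  refine ⟨e1 ▸ commute_cj D.te.symm, e2 ▸ commute_cj D.sI.2.2.1.symm, (fus_cj t k t).2 (IsConj.refl t), ?_⟩
  rw [← e2, ← cj_mul, fus_cj]
  exact D.sF.2

theorem liftB_mem [Finite G] {y : G} (h : LiftB t e s y) : y ∈ KB t e s := by
  obtain ⟨⟨-, -, hyt, hye⟩, hys, hF, hn⟩ := h
  obtain ⟨i, j, hi, hj, hij, hiy, hjy, his, hjs, hsp⟩ :=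
    D.rankB y ⟨⟨(fus_invol D.t1 D.tt hF).1, (fus_invol D.t1 D.tt hF).2, hyt, hye⟩, hys, hF, hn⟩
  exact D.mem_B hye hys hF hn ⟨i, j, hi.2.2.2, hj.2.2.2, hi.2.1, hj.2.1, hij, hiy, hjy, his, hjs, hsp⟩

/-- The elements of the first kind seen from one of them. -/
theorem frameA [Finite G] {r : G} (hr : r ∈ KA t e s) :
    ∃ g, g * r * g⁻¹ = t ∧ g * e * g⁻¹ = e ∧ InvC t e (g * s * g⁻¹) ∧
      ¬ IsConj t (g * s * g⁻¹) ∧ IsConj t (t * (g * s * g⁻¹)) := by
  obtain ⟨hre, hrs, hF, hFs⟩ := hr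
  obtain ⟨g, hg, hge⟩ := D.mem_frame hF hre
  refine ⟨g, hg, hge, D.invC_cj hg hge D.sI.1 D.sI.2.1 hrs.symm D.sI.2.2.2, ?_, ?_⟩
  · rw [fus_cj]; exact D.sF.1
  · rw [← hg, ← cj_mul, fus_cj, hg]; exact hFs

theorem liftA_cj {g r x : G} (hg : g * r * g⁻¹ = t) (hge : g * e * g⁻¹ = e) (hx : x ∈ KA t e s)
    (hxr : Commute x r) : LiftA t e (g * s * g⁻¹) (g * x * g⁻¹) := by
  obtain ⟨hxe, hxs, hF, hFs⟩ := hx
  obtain ⟨h1, h2⟩ := fus_invol D.t1 D.tt hF
  exact ⟨D.invC_cj hg hge h1 h2 hxr hxe, commute_cj hxs, (fus_cj _ _ _).2 hF,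
    by rw [← cj_mul, fus_cj]; exact hFs⟩

theorem liftB_cj {g r y : G} (hg : g * r * g⁻¹ = t) (hge : g * e * g⁻¹ = e) (hy : y ∈ KB t e s)
    (hyr : Commute y r) : LiftB t e (g * s * g⁻¹) (g * y * g⁻¹) := by
  obtain ⟨hye, hys, hF, hn⟩ := D.B_props hy
  obtain ⟨h1, h2⟩ := fus_invol D.t1 D.tt hF
  exact ⟨D.invC_cj hg hge h1 h2 hyr hye, commute_cj hys, (fus_cj _ _ _).2 hF,
    by rw [← cj_mul, fus_cj]; exact hn⟩

theorem commute_AB [Finite G] {r x y : G} (hr : r ∈ KA t e s) (hx : x ∈ KA t e s)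
    (hy : y ∈ KB t e s) (hxr : Commute x r) (hyr : Commute y r) : Commute x y := by
  obtain ⟨g, hg, hge, hw1, hw2, hw3⟩ := D.frameA hr
  have := (D.ufr _ hw1 hw2 hw3).1 _ _ (D.liftA_cj hg hge hx hxr) (D.liftB_cj hg hge hy hyr)
  exact (Commute.conj_iff g).1 this

/-- An element of the first kind commutes with four of the class. -/
theorem card_BA [Finite G] {x : G} (hx : x ∈ KA t e s) :
    {y | y ∈ KB t e s ∧ Commute y x}.ncard = 4 := by
  obtain ⟨g, hg, hge, hw1, hw2, hw3⟩ := D.frameA hx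
  obtain ⟨-, h4, hrk⟩ := D.ufr _ hw1 hw2 hw3
  rw [← h4, ← Set.ncard_image_of_injective {y | y ∈ KB t e s ∧ Commute y x}
    (f := fun z => g * z * g⁻¹) (fun _ _ h => cj_inj h)]
  congr 1
  ext z
  constructor
  · rintro ⟨y, ⟨hy, hyx⟩, rfl⟩
    exact D.liftB_cj hg hge hy hyx
  · intro hz
    obtain ⟨i, j, hi, hj, hij, hiz, hjz, hiw, hjw, hsp⟩ := hrk z hz
    set y := g⁻¹ * z * g with hy
    have hyz : g * y * g⁻¹ = z := cj_back g z
    have back : ∀ {u v : G}, Commute u (g * v * g⁻¹) → Commute (g⁻¹ * u * g) v := by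
      intro u v h
      have h' := commute_cj (g := g⁻¹) h
      rwa [inv_inv, show g⁻¹ * (g * v * g⁻¹) * g = v by group] at h'
    obtain ⟨⟨-, -, hzt, hze⟩, hzw, hzF, hzn⟩ := hz
    have hyy : ∀ {u : G}, Commute u z → Commute (g⁻¹ * u * g) y := fun h => back (hyz.symm ▸ h)
    refine ⟨y, ⟨D.mem_B (back (hge.symm ▸ hze)) (back hzw) ?_ ?_ ⟨g⁻¹ * i * g, g⁻¹ * j * g,
      back (hge.symm ▸ hi.2.2.2), back (hge.symm ▸ hj.2.2.2), ?_, ?_, back ((cj_back g j).symm ▸ hij),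
      hyy hiz, hyy hjz, back hiw, back hjw, ?_⟩, back (hg.symm ▸ hzt)⟩, hyz⟩
    · rw [← fus_cj t g, hyz]; exact hzF
    · rw [← fus_cj t g, cj_mul, hyz]; exact hzn
    · refine cj_inj (g := g) ?_
      rw [cj_mul, cj_back, hi.2.1]; group
    · refine cj_inj (g := g) ?_
      rw [cj_mul, cj_back, hj.2.1]; group
    · intro u hu
      have hw : g * u * g⁻¹ = i ∨ g * u * g⁻¹ = j ∨ g * u * g⁻¹ = i * j := by
        rcases hu with rfl | rfl | rfl
        · exact Or.inl (cj_back g i)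
        · exact Or.inr (Or.inl (cj_back g j))
        · exact Or.inr (Or.inr (by rw [cj_mul, cj_back, cj_back]))
      obtain ⟨n1, n2, n3, n4⟩ := hsp _ hw
      refine ⟨fun h => n1 (conj_eq_one_iff.2 h), fun h => n2 (by rw [h, hyz]),
        fun h => n3 (by rw [h]), fun h => n4 (by rw [h, cj_mul, hyz])⟩

theorem t_mem_B : t ∈ KB t e s := ⟨1, one_mem _, by group⟩

theorem liftA_iff {x : G} : LiftA t e s x ↔ x ∈ KA t e s ∧ Commute x t := by
  constructor
  · rintro ⟨⟨-, -, hxt, hxe⟩, hxs, h1, h2⟩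
    exact ⟨⟨hxe, hxs, h1, h2⟩, hxt⟩
  · rintro ⟨⟨hxe, hxs, h1, h2⟩, hxt⟩
    exact ⟨⟨(fus_invol D.t1 D.tt h1).1, (fus_invol D.t1 D.tt h1).2, hxt, hxe⟩, hxs, h1, h2⟩

theorem liftB_iff [Finite G] {y : G} : LiftB t e s y ↔ y ∈ KB t e s ∧ Commute y t := by
  refine ⟨fun h => ⟨D.liftB_mem h, h.1.2.2.1⟩, fun ⟨hy, hyt⟩ => ?_⟩
  obtain ⟨hye, hys, h1, h2⟩ := D.B_props hy
  exact ⟨⟨(fus_invol D.t1 D.tt h1).1, (fus_invol D.t1 D.tt h1).2, hyt, hye⟩, hys, h1, h2⟩

theorem cj_mem {k : G} (hk : k ∈ Subgroup.centralizer ({e, s} : Set G)) (x : G) :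
    (k * x * k⁻¹ ∈ KA t e s ↔ x ∈ KA t e s) ∧ (k * x * k⁻¹ ∈ KB t e s ↔ x ∈ KB t e s) := by
  obtain ⟨hke, hks⟩ := mem_cent_pair.1 hk
  have e1 : k * e * k⁻¹ = e := by rw [hke.eq]; group
  have e2 : k * s * k⁻¹ = s := by rw [hks.eq]; group
  constructor
  · simp only [KA, Set.mem_setOf_eq, fus_cj]
    rw [show Commute (k * x * k⁻¹) e ↔ Commute x e from by
        conv_lhs => rw [← e1]
        exact Commute.conj_iff k,
      show Commute (k * x * k⁻¹) s ↔ Commute x s from by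
        conv_lhs => rw [← e2]
        exact Commute.conj_iff k,
      show k * x * k⁻¹ * s = k * (x * s) * k⁻¹ by rw [cj_mul, e2], fus_cj]
  · constructor
    · rintro ⟨l, hl, h⟩
      exact ⟨k⁻¹ * l, mul_mem (inv_mem hk) hl, by
        rw [show k⁻¹ * l * t * (k⁻¹ * l)⁻¹ = k⁻¹ * (l * t * l⁻¹) * k by group, h]; group⟩
    · rintro ⟨l, hl, rfl⟩
      exact ⟨k * l, mul_mem hk hl, by group⟩

theorem card_AB [Finite G] {y : G} (hy : y ∈ KB t e s) :
    {x | x ∈ KA t e s ∧ Commute x y}.ncard = 30 := by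
  obtain ⟨k, hk, rfl⟩ := hy
  rw [← D.a30, ← Set.ncard_image_of_injective {x | LiftA t e s x} (f := fun z => k * z * k⁻¹)
    (fun _ _ h => cj_inj h)]
  congr 1
  ext z
  constructor
  · rintro ⟨hz, hc⟩
    refine ⟨k⁻¹ * z * k, (D.liftA_iff).2 ⟨?_, ?_⟩, cj_back k z⟩
    · rw [← (D.cj_mem hk _).1, cj_back]; exact hz
    · refine (Commute.conj_iff k).1 ?_
      rw [cj_back]; exact hc
  · rintro ⟨x, hx, rfl⟩
    obtain ⟨hA, hc⟩ := D.liftA_iff.1 hx
    exact ⟨(D.cj_mem hk x).1.2 hA, commute_cj hc⟩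

/-- Every element of the first kind has exactly one middle in the class, relative to `t`. -/
theorem exists_middle [Finite G] {x : G} (hx : x ∈ KA t e s) :
    ∃ r, r ∈ KB t e s ∧ Commute r t ∧ r ≠ t ∧ Commute r x ∧ (Mid x t r ∨ Mid x t (r * s)) := by
  obtain ⟨hxe, hxs, hF, hFs⟩ := hx
  have hx2 := (fus_invol D.t1 D.tt hF).2
  have hKx : x ∈ Subgroup.centralizer ({e, s} : Set G) := mem_cent_pair.2 ⟨hxe, hxs⟩
  have hKt : t ∈ Subgroup.centralizer ({e, s} : Set G) :=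
    mem_cent_pair.2 ⟨D.te.symm, D.sI.2.2.1.symm⟩
  have hpow : ∀ n : ℕ, (x * t) ^ n ∈ Subgroup.centralizer ({e, s} : Set G) :=
    fun n => pow_mem (mul_mem hKx hKt) n
  rcases dihedral (x := x) (y := t) hx2 D.tt with ⟨n, hn⟩ | ⟨r, hr, hrx, hrt, n, hn⟩
  · have := (D.cj_mem (hpow n) x).1.2 ⟨hxe, hxs, hF, hFs⟩
    rw [hn] at this
    exact absurd this.2.2.2 D.sF.2
  obtain ⟨hr1, hr2, m, hm⟩ := hr
  have hrK := mem_cent_pair.1 (hm ▸ hpow m)
  have htr : IsConj t (t * r) := by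
    rcases hn with hn | hn <;> rw [← hn, fus_cj]
    exact hF
  rcases D.mid r ⟨hr1, hr2, hrt, hrK.1⟩ hrK.2 htr with ⟨h1, h2⟩ | h | h
  · exfalso
    have hxt : Commute x t :=
      D.commute_AB ⟨hrK.1, hrK.2, h1, h2⟩ ⟨hxe, hxs, hF, hFs⟩ D.t_mem_B hrx.symm hrt.symm
    have hxt2 : (x * t) * (x * t) = 1 := by
      rw [mul_assoc, ← mul_assoc t, ← hxt.eq, mul_assoc x t t, D.tt, mul_one, hx2]
    have hr' : r = x * t := by
      refine mid_unique ⟨hr1, hr2, m, hm⟩ ⟨fun h => ?_, hxt2, 1, pow_one _⟩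
      have hxt' : x = t := by rw [mul_eq_one_iff_eq_inv.1 h, inv_eq_of_mul_eq_one_right D.tt]
      exact D.sF.2 (hxt' ▸ hFs)
    exact D.a_t x (D.liftA_iff.2 ⟨⟨hxe, hxs, hF, hFs⟩, hxt⟩) ⟨hr' ▸ h1, hr' ▸ h2⟩
  · exact ⟨r, D.liftB_mem h.1, hrt, h.2, hrx, Or.inl ⟨hr1, hr2, m, hm⟩⟩
  · refine ⟨r * s, D.liftB_mem h.1, h.1.1.2.2.1, h.2, hrx.mul_left hxs.symm, Or.inr ?_⟩
    rw [mul_assoc, D.sI.2.1, mul_one]
    exact ⟨hr1, hr2, m, hm⟩

theorem middle_unique [Finite G] {x r r' : G} (hr : r ∈ KB t e s) (hr' : r' ∈ KB t e s)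
    (h : Mid x t r ∨ Mid x t (r * s)) (h' : Mid x t r' ∨ Mid x t (r' * s)) : r = r' := by
  have key : ∀ {u v : G}, u ∈ KB t e s → v ∈ KB t e s → u = v * s → False := fun hu hv e' =>
    (D.B_props hv).2.2.2 (e' ▸ (D.B_props hu).2.2.1)
  rcases h with h | h <;> rcases h' with h' | h'
  · exact mid_unique h h'
  · exact (key hr hr' (mid_unique h h')).elim
  · exact (key hr' hr (mid_unique h' h)).elim
  · exact mul_right_cancel (mid_unique h h')

theorem card_fiber [Finite G] {r : G} (hr : r ∈ KB t e s) (hrt : Commute r t) (hne : r ≠ t) :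
    {x | x ∈ KA t e s ∧ Commute r x ∧ (Mid x t r ∨ Mid x t (r * s))}.ncard = 26 := by
  obtain ⟨l, hl, hlr⟩ := hr
  set k := l⁻¹ with hkdef
  have hk : k ∈ Subgroup.centralizer ({e, s} : Set G) := inv_mem hl
  have hkr : k * r * k⁻¹ = t := by rw [← hlr, hkdef]; group
  have hks : k * s * k⁻¹ = s := by rw [(mem_cent_pair.1 hk).2.eq]; group
  set y := k * t * k⁻¹ with hy
  have hyB : LiftB t e s y :=
    D.liftB_iff.2 ⟨(D.cj_mem hk t).2.2 D.t_mem_B, hkr ▸ commute_cj hrt.symm⟩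
  have hyt : y ≠ t := fun h => hne (cj_inj (g := k) (hkr.trans h.symm))
  rw [← D.a26 y hyB hyt, ← Set.ncard_image_of_injective _ (f := fun z => k * z * k⁻¹)
    (fun _ _ h => cj_inj h)]
  congr 1
  have hmid : ∀ x : G, (Mid (k * x * k⁻¹) y t ∨ Mid (k * x * k⁻¹) y (t * s)) ↔
      (Mid x t r ∨ Mid x t (r * s)) := by
    intro x
    rw [← mid_cj (x := x) (y := t) (r := r) k, ← mid_cj (x := x) (y := t) (r := r * s) k, cj_mul,
      hkr, hks]
  ext z
  constructor
  · rintro ⟨x, ⟨hA, hc, hm⟩, rfl⟩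
    exact ⟨D.liftA_iff.2 ⟨(D.cj_mem hk x).1.2 hA, hkr ▸ commute_cj hc.symm⟩, (hmid x).2 hm⟩
  · rintro ⟨hA, hm⟩
    obtain ⟨hA, hc⟩ := D.liftA_iff.1 hA
    have hz : k * (k⁻¹ * z * k) * k⁻¹ = z := cj_back k z
    refine ⟨k⁻¹ * z * k, ⟨?_, ?_, (hmid _).1 (hz.symm ▸ hm)⟩, hz⟩
    · rw [← (D.cj_mem hk _).1, hz]; exact hA
    · refine ((Commute.conj_iff k).1 ?_).symm
      rw [hz, hkr]; exact hc

theorem card_A [Finite G] : (KA t e s).ncard = 390 := by
  classical
  haveI := Fintype.ofFinite G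
  let R : G → G → Prop := fun x r => Commute r x ∧ (Mid x t r ∨ Mid x t (r * s))
  set S := {y | LiftB t e s y ∧ y ≠ t} with hS
  have h := Finset.card_mul_eq_card_mul (r := R) (s := (KA t e s).toFinset) (t := S.toFinset)
    (m := 1) (n := 26) ?_ ?_
  · rw [← Set.ncard_eq_toFinset_card', ← Set.ncard_eq_toFinset_card', D.p15] at h
    omega
  · intro x hx
    rw [Set.mem_toFinset] at hx
    obtain ⟨r, hr, hrt, hne, hrx, hm⟩ := D.exists_middle hx
    rw [Finset.card_eq_one]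
    refine ⟨r, Finset.eq_singleton_iff_unique_mem.2 ⟨?_, fun r' hr' => ?_⟩⟩
    · rw [Finset.mem_bipartiteAbove, Set.mem_toFinset]
      exact ⟨⟨D.liftB_iff.2 ⟨hr, hrt⟩, hne⟩, hrx, hm⟩
    · rw [Finset.mem_bipartiteAbove, Set.mem_toFinset] at hr'
      exact D.middle_unique (D.liftB_mem hr'.1.1) hr hr'.2.2 hm
  · intro r hr
    rw [Set.mem_toFinset] at hr
    obtain ⟨hr', hne⟩ := hr
    obtain ⟨hrB, hrt⟩ := D.liftB_iff.1 hr'
    rw [← D.card_fiber hrB hrt hne, Set.ncard_eq_toFinset_card']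
    congr 1
    ext x
    simp [Finset.mem_bipartiteBelow, R]
    tauto

theorem card_B [Finite G] : (KB t e s).ncard = 52 := by
  classical
  haveI := Fintype.ofFinite G
  have h := Finset.card_mul_eq_card_mul (r := fun x y : G => Commute y x)
    (s := (KA t e s).toFinset) (t := (KB t e s).toFinset) (m := 4) (n := 30) ?_ ?_
  · rw [← Set.ncard_eq_toFinset_card', ← Set.ncard_eq_toFinset_card', D.card_A] at h
    omega
  · intro x hx
    rw [Set.mem_toFinset] at hx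
    rw [← D.card_BA hx, Set.ncard_eq_toFinset_card']
    congr 1
    ext y
    simp [Finset.mem_bipartiteAbove]
  · intro y hy
    rw [Set.mem_toFinset] at hy
    rw [← D.card_AB hy, Set.ncard_eq_toFinset_card']
    congr 1
    ext x
    simp [Finset.mem_bipartiteBelow]
    exact fun _ => ⟨Commute.symm, Commute.symm⟩

/-- The local facts are contradictory. -/
theorem contradiction [Finite G] : False := by
  classical
  set K := Subgroup.centralizer ({e, s} : Set G) with hK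
  obtain ⟨hft, hfe, hfs, hf5, hf1⟩ := D.ff
  -- the order of K
  have hKcard : Nat.card K ∣ 52 * 1440 := by
    have h := card_cj_orbit K t
    change Nat.card K = (KB t e s).ncard * _ at h
    rw [h, D.card_B]
    refine Nat.mul_dvd_mul_left _ ((Subgroup.card_dvd_of_le ?_).trans D.cardC)
    intro x hx
    obtain ⟨h1, h2⟩ := Subgroup.mem_inf.1 hx
    exact mem_cent_three.2 ⟨Subgroup.mem_centralizer_singleton_iff.1 h2, mem_cent_pair.1 h1⟩
  -- the part of the class fixed by f is one orbit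
  set H := K ⊓ Subgroup.centralizer ({f} : Set G) with hH
  set Bf := {y | y ∈ KB t e s ∧ Commute y f} with hBf
  have horb : {y | ∃ h ∈ H, h * t * h⁻¹ = y} = Bf := by
    ext y
    constructor
    · rintro ⟨h, hh, rfl⟩
      obtain ⟨h1, h2⟩ := Subgroup.mem_inf.1 hh
      refine ⟨⟨h, h1, rfl⟩, ?_⟩
      have : h * f * h⁻¹ = f := by rw [Subgroup.mem_centralizer_singleton_iff.1 h2]; group
      exact this ▸ commute_cj hft.symm
    · rintro ⟨hy, hyf⟩
      obtain ⟨hye, hys, hyF, hyn⟩ := D.B_props hy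
      have hy2 := (fus_invol D.t1 D.tt hyF).2
      have hpow : ∀ n : ℕ, (t * y) ^ n ∈ H := fun n => pow_mem (mul_mem
        (Subgroup.mem_inf.2 ⟨mem_cent_pair.2 ⟨D.te.symm, D.sI.2.2.1.symm⟩,
          Subgroup.mem_centralizer_singleton_iff.2 hft.symm.eq⟩)
        (Subgroup.mem_inf.2 ⟨mem_cent_pair.2 ⟨hye, hys⟩,
          Subgroup.mem_centralizer_singleton_iff.2 hyf.eq⟩)) n
      rcases dihedral (x := y) (y := t) hy2 D.tt with ⟨n, hn⟩ | ⟨r, ⟨hr1, hr2, m, hm⟩, hry, hrt, n, hn⟩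
      · have hmem : (y * t) ^ n ∈ H := by
          rw [← inv_mem_iff, ← inv_pow, mul_inv_rev, inv_eq_of_mul_eq_one_right hy2,
            inv_eq_of_mul_eq_one_right D.tt]
          exact hpow n
        exact ⟨((y * t) ^ n)⁻¹, inv_mem hmem, cj_inj (g := (y * t) ^ n) (by rw [hn]; group)⟩
      · exfalso
        have hyt : ∀ k : ℕ, (y * t) ^ k ∈ H := fun k => by
          rw [← inv_mem_iff, ← inv_pow, mul_inv_rev, inv_eq_of_mul_eq_one_right hy2,
            inv_eq_of_mul_eq_one_right D.tt]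
          exact hpow k
        obtain ⟨hrK, hrf⟩ := Subgroup.mem_inf.1 (hm ▸ hyt m)
        have htr : IsConj t (t * r) := by
          rcases hn with hn | hn <;> rw [← hn, fus_cj]
          exact hyF
        rcases D.f_mid r ⟨hr1, hr2, hrt, (mem_cent_pair.1 hrK).1⟩ (mem_cent_pair.1 hrK).2
          (Subgroup.mem_centralizer_singleton_iff.1 hrf) with rfl | rfl | rfl
        · rw [D.tt] at htr; exact (fus_invol D.t1 D.tt htr).1 rfl
        · exact D.sF.2 htr
        · rw [← mul_assoc, D.tt, one_mul] at htr; exact D.sF.1 htr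
  have hdvd : Bf.ncard ∣ 52 * 1440 := by
    refine Nat.dvd_trans ?_ ((Subgroup.card_dvd_of_le (inf_le_left : H ≤ K)).trans hKcard)
    rw [card_cj_orbit H t, horb]
    exact Dvd.intro _ rfl
  -- the part outside the centraliser of t
  set Out := {y | y ∈ KB t e s ∧ ¬ Commute y t} with hOut
  have hin : {y | y ∈ KB t e s ∧ Commute y t}.ncard = 16 := by
    have e1 : {y | y ∈ KB t e s ∧ Commute y t} = insert t {y | LiftB t e s y ∧ y ≠ t} := by
      ext y
      simp only [Set.mem_setOf_eq, Set.mem_insert_iff, D.liftB_iff]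
      by_cases hyt : y = t
      · simp [hyt, D.t_mem_B]
      · simp [hyt]
    rw [e1, Set.ncard_insert_of_notMem (by simp) (Set.toFinite _), D.p15]
  have hout : Out.ncard = 36 := by
    have e1 : Out = KB t e s \ {y | y ∈ KB t e s ∧ Commute y t} := by
      ext y; simp [hOut]
    rw [e1, Set.ncard_sdiff (fun y hy => hy.1) (Set.toFinite _), D.card_B, hin]
  set Fx := {y ∈ Out | Commute y f} with hFx
  have hBfix : Bf = insert t Fx := by
    ext y
    simp only [hBf, hFx, hOut, Set.mem_setOf_eq, Set.mem_insert_iff]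
    constructor
    · rintro ⟨hy, hyf⟩
      by_cases hyt : Commute y t
      · refine Or.inl (by_contra fun hne => D.f_fix y (D.liftB_iff.2 ⟨hy, hyt⟩) hne hyf)
      · exact Or.inr ⟨⟨hy, hyt⟩, hyf⟩
    · rintro (rfl | ⟨⟨hy, -⟩, hyf⟩)
      · exact ⟨D.t_mem_B, hft.symm⟩
      · exact ⟨hy, hyf⟩
  have hk : Bf.ncard = Fx.ncard + 1 := by
    rw [hBfix, Set.ncard_insert_of_notMem (by simp [hFx, hOut]) (Set.toFinite _)]
  have hfK : f ∈ K := mem_cent_pair.2 ⟨hfe, hfs⟩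
  have hstab : ∀ {g : G}, g ∈ K → Commute g t → ∀ y ∈ Out, g * y * g⁻¹ ∈ Out := by
    rintro g hg hgt y ⟨hy, hyt⟩
    refine ⟨(D.cj_mem hg y).2.2 hy, fun h => hyt ?_⟩
    refine (Commute.conj_iff g).1 ?_
    rwa [show g * t * g⁻¹ = t by rw [hgt.eq]; group]
  have h5 : Fx.ncard ≡ 36 [MOD 5] := by
    haveI : Fact (Nat.Prime 5) := ⟨by norm_num⟩
    exact hout ▸ ncard_fixed_modEq f hf5 Out (hstab hfK hft)
  obtain ⟨i, hi, hinv, h4⟩ := D.inverting
  obtain ⟨hiA, hit⟩ := D.liftA_iff.1 hi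
  have hi2 := (fus_invol D.t1 D.tt hiA.2.2.1).2
  have hiK : i ∈ K := mem_cent_pair.2 ⟨hiA.1, hiA.2.1⟩
  have h2 : Fx.ncard ≡ 0 [MOD 2] := by
    haveI : Fact (Nat.Prime 2) := ⟨Nat.prime_two⟩
    have hmaps : ∀ y ∈ Fx, i * y * i⁻¹ ∈ Fx := by
      rintro y ⟨hy, hyf⟩
      refine ⟨hstab hiK hit y hy, ?_⟩
      have hf' : i * f * i⁻¹ = f⁻¹ := by rw [inv_eq_of_mul_eq_one_right hi2]; exact hinv
      have := commute_cj (g := i) hyf
      rw [hf'] at this
      exact Commute.inv_right_iff.1 this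
    have h := ncard_fixed_modEq i (by rw [pow_two, hi2]) Fx hmaps
    have hempty : {y ∈ Fx | Commute y i} = ∅ := by
      rw [Set.eq_empty_iff_forall_notMem]
      rintro y ⟨⟨⟨hy, hyt⟩, -⟩, hyi⟩
      have hsub : {z | LiftB t e s z ∧ Commute z i} ⊆ {z | z ∈ KB t e s ∧ Commute z i} :=
        fun z hz => ⟨(D.liftB_iff.1 hz.1).1, hz.2⟩
      have heq := Set.eq_of_subset_of_ncard_le hsub (by rw [D.card_BA hiA]; exact h4) (Set.toFinite _)
      have : y ∈ {z | LiftB t e s z ∧ Commute z i} := heq ▸ (⟨hy, hyi⟩ : y ∈ {z | z ∈ KB t e s ∧ Commute z i})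
      exact hyt this.1.1.2.2.1
    rw [hempty, Set.ncard_empty] at h
    exact h.symm
  have hle : Fx.ncard ≤ 36 := hout ▸ Set.ncard_le_ncard (Set.sep_subset _ _) (Set.toFinite _)
  rw [hk] at hdvd
  unfold Nat.ModEq at h5 h2
  generalize Fx.ncard = n at *
  obtain rfl | rfl | rfl | rfl : n = 6 ∨ n = 16 ∨ n = 26 ∨ n = 36 := by omega
  all_goals revert hdvd; decide

end OpenFacts

end CfsgLib.HNRec.Fusion
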