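import Cfsg.Agent.Lib.HNRec.Fusion.OpenTableDefs

/-!
# The checks on the centraliser of an element of order three
-/

set_option autoImplicit false
set_option maxRecDepth 100000

namespace CfsgLib.HNRec.Fusion

open CfsgLib.HNxyz CfsgLib.HNIndex

theorem openGen_checks : (List.range 4).all openGenOk = true := by decide +kernel

theorem openElem_checks : (List.range 1440).all openElemOk = true := by decide +kernel

theorem openOne_checks : Nat.blt openOne 1440 = true ∧ beqL (openKey openOne) base = true := by decide +kernel

theorem openSorted_checks :
    (List.range 1439).all (fun i => Nat.blt (pack (openKey i)) (pack (openKey (i + 1)))) = true := by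
  decide +kernel

theorem openSquare_checks : (List.range 1440).all openSquareOk = true := by decide +kernel

theorem openInv_checks : Nat.beq openInvs.length openInvPos.length = true ∧
    (openInvs.zip openInvPos).all openInvOk = true := by decide +kernel

theorem openE_checks : okW openE = true ∧ okW openE2 = true ∧
    beqL (kW (openE ++ openE ++ openE)) base = true ∧ (!beqL (kW openE) base) = true ∧
    beqL (kW (openE2 ++ openE2 ++ openE2)) base = true ∧ (!beqL (kW openE2) base) = true ∧
    beqL (kW (openE ++ openE2)) (kW (openE2 ++ openE)) = true ∧
    (!beqL (kW openE2) (kW openE)) = true ∧ (!beqL (kW openE2) (kW (openE ++ openE))) = true := by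
  decide +kernel

theorem openThree_checks : openThree.all openThreeOk = true ∧
    ((List.range 3).all fun i => (List.range 3).all fun j =>
      (Nat.beq i 0 && Nat.beq j 0) || openThree.any fun p => Nat.beq p.1 i && Nat.beq p.2.1 j) = true := by
  decide +kernel

end CfsgLib.HNRec.Fusion
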