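import Cfsg.Agent.Lib.HNRec.Fusion.OpenBound
import Cfsg.Agent.Lib.HNRec.Fusion.OpenTableChecks

/-!
# The centraliser of an element of order three in the group of triples

It has order 1440 (the bound is in OpenBound); its involutions are listed with their
classes; every element of order three is conjugate to the chosen one.
-/

set_option autoImplicit false
set_option maxRecDepth 100000
set_option linter.style.haveILetI false

namespace CfsgLib.HNRec.Fusion

open CfsgLib.HNxyz CfsgLib.HNIndex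
open scoped Pointwise

theorem openG_facts {j : ℕ} (hj : j < 4) : (∀ g ∈ openG j, g < 6) ∧
    kW (openG j ++ openE) = kW (openE ++ openG j) ∧ ∀ i < 1408, openStep j i = img (openG j) i := by
  have h := List.all_eq_true.1 openGen_checks j (List.mem_range.2 hj)
  rw [openGenOk, Bool.and_eq_true, Bool.and_eq_true] at h
  exact ⟨okW_iff.1 h.1.1, beqL_iff.1 h.1.2, fun i hi =>
    (Nat.eq_of_beq_eq_true (List.all_eq_true.1 h.2 i (List.mem_range.2 hi))).symm⟩

theorem openWord_ok {s : List ℕ} (hs : ∀ j ∈ s, j < 4) : ∀ g ∈ openWord s, g < 6 := by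
  intro g hg
  simp only [openWord, List.mem_flatten, List.mem_map] at hg
  obtain ⟨_, ⟨j, hj, rfl⟩, hg⟩ := hg
  exact (openG_facts (hs j hj)).1 g hg

theorem openFold_eq : ∀ {s : List ℕ}, (∀ j ∈ s, j < 4) → ∀ {i : ℕ}, i < 1408 →
    openFold s i = img (openWord s) i
  | [], _, _, _ => rfl
  | j :: s, hs, i, hi => by
    have hj := openG_facts (hs j List.mem_cons_self)
    rw [openFold, show openWord (j :: s) = openG j ++ openWord s from rfl, img_append, hj.2.2 i hi,
      openFold_eq (fun k hk => hs k (List.mem_cons_of_mem _ hk)) (img_lt hj.1 hi)]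

theorem openElem_facts {i : ℕ} (hi : i < 1440) :
    (∀ j ∈ openSeq i, j < 4) ∧ kW (openWord (openSeq i)) = openKey i ∧
      ∀ j < 4, openNext i j < 1440 ∧ kW (openWord (openSeq i) ++ openG j) = openKey (openNext i j) := by
  have h := List.all_eq_true.1 openElem_checks i (List.mem_range.2 hi)
  simp only [openElemOk, Bool.and_eq_true, List.all_eq_true, Nat.blt_eq, beqL_iff, List.mem_range] at h
  obtain ⟨⟨h1, h2⟩, h3⟩ := h
  have hk : kW (openWord (openSeq i)) = openKey i := by
    rw [← h2]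
    exact List.map_congr_left fun p hp => (openFold_eq h1 (base_lt p hp)).symm
  refine ⟨h1, hk, fun j hj => ⟨(h3 j hj).1, ?_⟩⟩
  rw [← (h3 j hj).2, kW_append, hk]
  refine List.map_congr_left fun p hp => ((openG_facts hj).2.2 p ?_).symm
  rw [← hk, kW, List.mem_map] at hp
  obtain ⟨q, hq, rfl⟩ := hp
  exact img_lt (openWord_ok h1) (base_lt q hq)

theorem openKey_inj {i j : ℕ} (hi : i < 1440) (hj : j < 1440) (h : openKey i = openKey j) : i = j := by
  have hmono : ∀ n, n < 1440 → ∀ m, m < n → pack (openKey m) < pack (openKey n) := by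
    intro n
    induction n with
    | zero => omega
    | succ n ih =>
      intro hn m hm
      have hs : pack (openKey n) < pack (openKey (n + 1)) := by
        simpa using List.all_eq_true.1 openSorted_checks n (List.mem_range.2 (by omega))
      rcases Nat.lt_or_eq_of_le (Nat.le_of_lt_succ hm) with hlt | rfl
      · exact lt_trans (ih (by omega) m hlt) hs
      · exact hs
  rcases lt_trichotomy i j with hlt | rfl | hlt
  · have := hmono j hj i hlt; rw [h] at this; omega
  · rfl
  · have := hmono i hi j hlt; rw [h] at this; omega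

variable {G : Type} [Group G] {a b c : G}

theorem openE_ok : ∀ g ∈ openE, g < 6 := okW_iff.1 openE_checks.1

theorem openE2_ok : ∀ g ∈ openE2, g < 6 := okW_iff.1 openE_checks.2.1

theorem mW_nil' : mW a b c ([] : List ℕ) = 1 := evalW_nil _

theorem kW_nil : kW [] = base := by simp [kW, img]

theorem open_cube (h : XYZRels a b c) {w : List ℕ} (hw : ∀ g ∈ w, g < 6)
    (e : beqL (kW (w ++ w ++ w)) base = true) : mW a b c w ^ 3 = 1 := by
  rw [show mW a b c w ^ 3 = mW a b c (w ++ w ++ w) by
    rw [mW_append, mW_append, pow_succ, pow_two]]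
  exact (mW_of_kW h (ok_append (ok_append hw hw) hw) (v := []) (by simp)
    ((beqL_iff.1 e).trans kW_nil.symm)).trans mW_nil'

theorem open_ne {u v : List ℕ} (hu : ∀ g ∈ u, g < 6) (hv : ∀ g ∈ v, g < 6)
    (e : (!beqL (kW u) (kW v)) = true) : mW a b c u ≠ mW a b c v := by
  intro h
  rw [beqL_iff.2 (kW_of_mW hu hv h)] at e
  exact absurd e (by decide)

theorem openE_cube (h : XYZRels a b c) : mW a b c openE ^ 3 = 1 :=
  open_cube h openE_ok openE_checks.2.2.1

theorem openE_ne_one : mW a b c openE ≠ 1 := by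
  rw [← mW_nil' (a := a) (b := b) (c := c)]
  exact open_ne openE_ok (by simp) (by rw [kW_nil]; exact openE_checks.2.2.2.1)

/-- The element at a position. -/
noncomputable def openEl (a b c : G) (i : ℕ) : Mg a b c := mW a b c (openWord (openSeq i))

theorem openEl_one (h : XYZRels a b c) : openEl a b c openOne = 1 := by
  have h1 := openOne_checks
  rw [Nat.blt_eq, beqL_iff] at h1
  exact (mW_of_kW h (openWord_ok (openElem_facts h1.1).1) (v := []) (by simp)
    ((openElem_facts h1.1).2.1.trans (h1.2.trans kW_nil.symm))).trans mW_nil'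

theorem openEl_inj {i j : ℕ} (hi : i < 1440) (hj : j < 1440) (e : openEl a b c i = openEl a b c j) :
    i = j :=
  openKey_inj hi hj (by
    rw [← (openElem_facts hi).2.1, ← (openElem_facts hj).2.1]
    exact kW_of_mW (openWord_ok (openElem_facts hi).1) (openWord_ok (openElem_facts hj).1) e)

/-- The subgroup of the generators. -/
noncomputable def openSub (a b c : G) : Subgroup (Mg a b c) :=
  Subgroup.closure {m | ∃ j < 4, m = mW a b c (openG j)}

theorem openWord_mem : ∀ {s : List ℕ}, (∀ j ∈ s, j < 4) → mW a b c (openWord s) ∈ openSub a b c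
  | [], _ => by simp [mW, openWord, evalW_nil]
  | j :: s, hs => by
    rw [show openWord (j :: s) = openG j ++ openWord s from rfl, mW_append]
    exact mul_mem (Subgroup.subset_closure ⟨j, hs j List.mem_cons_self, rfl⟩)
      (openWord_mem fun k hk => hs k (List.mem_cons_of_mem _ hk))

theorem openSub_exact (h : XYZRels a b c) {m : Mg a b c} :
    m ∈ openSub a b c ↔ ∃ i < 1440, openEl a b c i = m := by
  constructor
  · intro hm
    haveI := m_finite h
    rw [← Subgroup.mem_toSubmonoid, openSub, Subgroup.closure_toSubmonoid_of_finite] at hm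
    refine Submonoid.closure_induction_right (motive := fun x _ => ∃ i < 1440, openEl a b c i = x) ?_ ?_ hm
    · exact ⟨openOne, Nat.blt_eq.mp openOne_checks.1, openEl_one h⟩
    · rintro x - y ⟨j, hj, rfl⟩ ⟨i, hi, rfl⟩
      obtain ⟨h1, -, h3⟩ := openElem_facts hi
      obtain ⟨hn, he⟩ := h3 j hj
      refine ⟨openNext i j, hn, ?_⟩
      rw [openEl, openEl, ← mW_append]
      exact (mW_of_kW h (ok_append (openWord_ok h1) (openG_facts hj).1) (openWord_ok (openElem_facts hn).1)
        (he.trans (openElem_facts hn).2.1.symm)).symm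
  · rintro ⟨i, hi, rfl⟩
    exact openWord_mem (openElem_facts hi).1

theorem card_openSub (h : XYZRels a b c) : Nat.card (openSub a b c) = 1440 := by
  let f : Fin 1440 → openSub a b c := fun i => ⟨openEl a b c i, (openSub_exact h).2 ⟨i, i.2, rfl⟩⟩
  have hf : Function.Bijective f :=
    ⟨fun i j e => Fin.ext (openEl_inj i.2 j.2 (congrArg Subtype.val e)), fun m => by
      obtain ⟨i, hi, e⟩ := (openSub_exact h).1 m.2
      exact ⟨⟨i, hi⟩, Subtype.ext e⟩⟩
  rw [← Nat.card_eq_of_bijective f hf]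
  simp

theorem openSub_le (h : XYZRels a b c) : openSub a b c ≤ Subgroup.centralizer {mW a b c openE} := by
  rw [openSub, Subgroup.closure_le]
  rintro m ⟨j, hj, rfl⟩
  rw [SetLike.mem_coe, Subgroup.mem_centralizer_singleton_iff, ← mW_append, ← mW_append]
  exact mW_of_kW h (ok_append (openG_facts hj).1 openE_ok) (ok_append openE_ok (openG_facts hj).1)
    (openG_facts hj).2.1

theorem openSub_eq (h : XYZRels a b c) :
    openSub a b c = Subgroup.centralizer {mW a b c openE} := by
  haveI := m_finite h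
  refine Subgroup.eq_of_le_of_card_ge (openSub_le h) ?_
  rw [card_openSub h]
  exact card_sqC_le h

theorem open_card (h : XYZRels a b c) :
    Nat.card (Subgroup.centralizer {mW a b c openE} : Subgroup (Mg a b c)) = 1440 := by
  rw [← openSub_eq h, card_openSub h]

theorem openInv_facts {p : List ℕ × ℕ × List ℕ} (hp : p ∈ openInvs) :
    (∀ g ∈ p.1, g < 6) ∧ okW p.2.2 = true ∧ p.2.1 < 5 ∧ kW p.1 = kW (cjWord p.2.1 p.2.2) := by
  obtain ⟨n, hn, rfl⟩ := List.getElem_of_mem hp
  obtain ⟨hl, hall⟩ := openInv_checks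
  rw [Nat.beq_eq] at hl
  have hz : (openInvs[n], openInvPos[n]'(hl ▸ hn)) ∈ openInvs.zip openInvPos := by
    refine List.mem_iff_getElem.2 ⟨n, by simp [List.length_zip, ← hl, hn], ?_⟩
    rw [List.getElem_zip]
  have := List.all_eq_true.1 hall _ hz
  simp only [openInvOk, Bool.and_eq_true, beqL_iff, Nat.blt_eq] at this
  obtain ⟨⟨⟨⟨h1, h2⟩, h3⟩, h4⟩, h5⟩ := this
  exact ⟨okW_iff.1 h1, h2, h3, h4.trans h5.symm⟩

theorem open_invol (h : XYZRels a b c)
    {m : Mg a b c} (h1 : m ≠ 1) (h2 : m * m = 1) (hc : Commute m (mW a b c openE)) :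
    ∃ p ∈ openInvs, m = mW a b c p.1 := by
  have hm : m ∈ openSub a b c := openSub_eq h ▸ Subgroup.mem_centralizer_singleton_iff.2 hc.eq
  obtain ⟨i, hi, rfl⟩ := (openSub_exact h).1 hm
  obtain ⟨hs, hkey, -⟩ := openElem_facts hi
  have hsq : (openKey i).map (openFold (openSeq i)) = base := by
    have hok := openWord_ok hs
    have e2 : kW (openWord (openSeq i) ++ openWord (openSeq i)) = kW [] := by
      refine kW_of_mW (a := a) (b := b) (c := c) (ok_append hok hok) (by simp) ?_
      rw [mW_append, mW_nil']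
      exact h2
    rw [kW_append, hkey, kW_nil] at e2
    refine Eq.trans (List.map_congr_left fun p hp => openFold_eq hs ?_) e2
    rw [← hkey, kW, List.mem_map] at hp
    obtain ⟨q, hq, rfl⟩ := hp
    exact img_lt hok (base_lt q hq)
  have hall := List.all_eq_true.1 openSquare_checks i (List.mem_range.2 hi)
  simp only [openSquareOk, Bool.or_eq_true, Bool.not_eq_true', List.any_eq_true, Nat.beq_eq] at hall
  rcases hall with (e | e) | ⟨x, hx, e⟩
  · rw [beqL_iff.2 hsq] at e
    exact absurd e (by decide)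
  · exact absurd (e ▸ openEl_one h) h1
  · subst e
    obtain ⟨n, hn, hn'⟩ := List.getElem_of_mem hx
    obtain ⟨hl, hall⟩ := openInv_checks
    rw [Nat.beq_eq] at hl
    have hn2 : n < openInvs.length := hl ▸ hn
    have hz : (openInvs[n], i) ∈ openInvs.zip openInvPos := by
      refine List.mem_iff_getElem.2 ⟨n, by simp [List.length_zip, hl, hn], ?_⟩
      rw [List.getElem_zip, hn']
    have := List.all_eq_true.1 hall _ hz
    simp only [openInvOk, Bool.and_eq_true, beqL_iff, Nat.blt_eq] at this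
    obtain ⟨⟨⟨⟨k1, -⟩, -⟩, k4⟩, -⟩ := this
    exact ⟨_, List.getElem_mem hn2, mW_of_kW h (openWord_ok hs) (okW_iff.1 k1) (hkey.trans k4.symm)⟩

theorem open_order_three (h : XYZRels a b c) {m : Mg a b c} (h3 : m ^ 3 = 1) (h1 : m ≠ 1) :
    ∃ g, g * m * g⁻¹ = mW a b c openE := by
  haveI := m_finite h
  haveI : Fact (Nat.Prime 3) := ⟨Nat.prime_three⟩
  obtain ⟨-, -, -, -, k5, k6, k7, k8, k9⟩ := openE_checks
  set e := mW a b c openE with he
  set f := mW a b c openE2 with hf
  have he3 : e ^ 3 = 1 := openE_cube h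
  have hf3 : f ^ 3 = 1 := open_cube h openE2_ok k5
  have hef : Commute e f := by
    show e * f = f * e
    rw [he, hf, ← mW_append, ← mW_append]
    exact mW_of_kW h (ok_append openE_ok openE2_ok) (ok_append openE2_ok openE_ok) (beqL_iff.1 k7)
  have hoe : orderOf e = 3 := orderOf_eq_prime he3 openE_ne_one
  have hof : orderOf f = 3 := orderOf_eq_prime hf3 (by
    rw [← mW_nil' (a := a) (b := b) (c := c), hf]
    exact open_ne openE2_ok (by simp) (by rw [kW_nil]; exact k6))
  let φ : Subgroup.zpowers e × Subgroup.zpowers f →* Mg a b c :=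
    { toFun := fun p => (p.1 : Mg a b c) * p.2
      map_one' := by simp
      map_mul' := by
        intro p q
        obtain ⟨i, hi⟩ := Subgroup.mem_zpowers_iff.1 q.1.2
        obtain ⟨j, hj⟩ := Subgroup.mem_zpowers_iff.1 p.2.2
        have hcm : Commute (p.2 : Mg a b c) (q.1 : Mg a b c) := by
          rw [← hi, ← hj]; exact (hef.symm.zpow_zpow j i)
        simp only [Prod.fst_mul, Prod.snd_mul, Subgroup.coe_mul]
        calc (p.1 : Mg a b c) * q.1 * (p.2 * q.2) = p.1 * ((q.1 : Mg a b c) * p.2) * q.2 := by group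
          _ = p.1 * ((p.2 : Mg a b c) * q.1) * q.2 := by rw [hcm.eq]
          _ = p.1 * p.2 * (q.1 * q.2) := by group }
  have hdis : ∀ i : ℤ, f ≠ e ^ i := by
    intro i hi
    have hi' : f = e ^ (i % 3) := by
      rw [hi, show i % 3 = i % (orderOf e : ℤ) by rw [hoe]; rfl, zpow_mod_orderOf]
    have hlo := Int.emod_nonneg i (show (3 : ℤ) ≠ 0 by norm_num)
    have hhi := Int.emod_lt_of_pos i (show (0 : ℤ) < 3 by norm_num)
    interval_cases hm : (i % 3)
    · rw [zpow_zero, hf, ← mW_nil' (a := a) (b := b) (c := c)] at hi'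
      exact open_ne openE2_ok (by simp) (by rw [kW_nil]; exact k6) hi'
    · rw [zpow_one] at hi'; exact open_ne openE2_ok openE_ok k8 hi'
    · rw [show (2 : ℤ) = 1 + 1 from rfl, zpow_add, zpow_one, hf, he, ← mW_append] at hi'
      exact open_ne openE2_ok (ok_append openE_ok openE_ok) k9 hi'
  have hinj : Function.Injective φ := by
    rw [← MonoidHom.ker_eq_bot_iff, eq_bot_iff]
    rintro ⟨⟨x, hx⟩, ⟨y, hy⟩⟩ hxy
    have hxy' : x * y = 1 := hxy
    obtain ⟨i, rfl⟩ := Subgroup.mem_zpowers_iff.1 hx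
    obtain ⟨j, rfl⟩ := Subgroup.mem_zpowers_iff.1 hy
    have hj : f ^ j = e ^ (-i) := by rw [zpow_neg]; exact eq_inv_of_mul_eq_one_right hxy'
    have hj1 : f ^ j = 1 := by
      by_contra hne
      have hgen := mem_zpowers_of_prime_card (G := Subgroup.zpowers f) (p := 3)
        (by rw [Nat.card_zpowers, hof]) (g := ⟨f ^ j, zpow_mem (Subgroup.mem_zpowers f) j⟩)
        (g' := ⟨f, Subgroup.mem_zpowers f⟩) (fun e' => hne (congrArg Subtype.val e'))
      obtain ⟨k, hk⟩ := Subgroup.mem_zpowers_iff.1 hgen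
      have hk' : (f ^ j) ^ k = f := congrArg Subtype.val hk
      rw [hj, ← zpow_mul] at hk'
      exact hdis _ hk'.symm
    rw [hj1, mul_one] at hxy'
    exact Subgroup.mem_bot.2 (Prod.ext (Subtype.ext hxy') (Subtype.ext hj1))
  have hP : Nat.card φ.range = 3 ^ (Nat.card (Mg a b c)).factorization 3 := by
    rw [← Nat.card_congr (MonoidHom.ofInjective hinj).toEquiv, Nat.card_prod, Nat.card_zpowers,
      Nat.card_zpowers, hoe, hof, m_card h, show (177408000 : ℕ) = 3 ^ 2 * 19712000 from by norm_num,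
      Nat.factorization_mul (by norm_num) (by norm_num), Finsupp.add_apply,
      Nat.Prime.factorization_pow Nat.prime_three,
      Nat.factorization_eq_zero_of_not_dvd (show ¬ (3 : ℕ) ∣ 19712000 by norm_num)]
    simp
  have hp : IsPGroup 3 (Subgroup.zpowers m) :=
    IsPGroup.of_card (n := 1) (by rw [Nat.card_zpowers, orderOf_eq_prime h3 h1, pow_one])
  obtain ⟨Q, hQ⟩ := hp.exists_le_sylow
  obtain ⟨g, hg⟩ := MulAction.exists_smul_eq (Mg a b c) Q (Sylow.ofCard _ hP)
  have hmem : g * m * g⁻¹ ∈ φ.range := by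
    have : MulAut.conj g • m ∈ MulAut.conj g • (Q : Subgroup (Mg a b c)) :=
      Subgroup.smul_mem_pointwise_smul _ _ _ (hQ (Subgroup.mem_zpowers m))
    rw [← Sylow.pointwise_smul_def, ← Sylow.smul_def, hg] at this
    exact this
  obtain ⟨⟨⟨x, hx⟩, ⟨y, hy⟩⟩, hxy⟩ := hmem
  have hxy' : x * y = g * m * g⁻¹ := hxy
  have hpw : ∀ {z x : Mg a b c}, orderOf z = 3 → x ∈ Subgroup.zpowers z → ∃ i < 3, x = z ^ i := by
    intro z x hz hx
    obtain ⟨i, rfl⟩ := Subgroup.mem_zpowers_iff.1 hx
    refine ⟨(i % 3).toNat, ?_, ?_⟩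
    · have := Int.emod_lt_of_pos i (show (0 : ℤ) < 3 by norm_num); omega
    · have h0 := Int.emod_nonneg i (show (3 : ℤ) ≠ 0 by norm_num)
      rw [← zpow_natCast z, Int.toNat_of_nonneg h0,
        show i % 3 = i % (orderOf z : ℤ) by rw [hz]; rfl, zpow_mod_orderOf]
  obtain ⟨i, hi, rfl⟩ := hpw hoe hx
  obtain ⟨j, hj, rfl⟩ := hpw hof hy
  have hne0 : ¬ (i = 0 ∧ j = 0) := by
    rintro ⟨rfl, rfl⟩
    rw [pow_zero, pow_zero, one_mul] at hxy'
    exact h1 (conj_eq_one_iff.1 hxy'.symm)
  obtain ⟨t1, t2⟩ := openThree_checks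
  have ht := List.all_eq_true.1 (List.all_eq_true.1 t2 i (List.mem_range.2 hi)) j (List.mem_range.2 hj)
  simp only [Bool.or_eq_true, Bool.and_eq_true, List.any_eq_true, Nat.beq_eq] at ht
  obtain ⟨p, hp', hpi, hpj⟩ := ht.resolve_left hne0
  have hok := List.all_eq_true.1 t1 p hp'
  simp only [openThreeOk, Bool.and_eq_true, beqL_iff] at hok
  obtain ⟨⟨⟨hc, -⟩, -⟩, hk⟩ := hok
  subst hpi hpj
  have hcW := okW_iff.1 hc
  have hrep : ∀ (w : List ℕ), (∀ g ∈ w, g < 6) → ∀ n : ℕ,
      (∀ g ∈ (List.replicate n w).flatten, g < 6) ∧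
        mW a b c (List.replicate n w).flatten = mW a b c w ^ n := by
    intro w hw n
    induction n with
    | zero => exact ⟨by simp, by simp [mW_nil']⟩
    | succ n ih =>
      rw [List.replicate_succ, List.flatten_cons]
      exact ⟨ok_append hw ih.1, by rw [mW_append, ih.2, ← pow_succ']⟩
  obtain ⟨e1, e1'⟩ := hrep openE openE_ok p.1
  obtain ⟨e2, e2'⟩ := hrep openE2 openE2_ok p.2.1
  have hev := mW_of_kW (a := a) (b := b) (c := c) h
    (ok_append (ok_append (invW_lt hcW) openE_ok) hcW) (ok_append e1 e2) hk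
  rw [mW_append, mW_append, mW_append, e1', e2',
    show mW a b c (HNIndex.invW p.2.2) = (mW a b c p.2.2)⁻¹ from evalW_invW _ _ _ (invW_lt hcW),
    ← he, ← hf, hxy'] at hev
  refine ⟨mW a b c p.2.2 * g, ?_⟩
  calc mW a b c p.2.2 * g * m * (mW a b c p.2.2 * g)⁻¹
      = mW a b c p.2.2 * (g * m * g⁻¹) * (mW a b c p.2.2)⁻¹ := by group
    _ = e := by rw [← hev]; group

end CfsgLib.HNRec.Fusion
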