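import Cfsg.Agent.Lib.HNRec.Fusion.Reduce
import Cfsg.Agent.Lib.HNRec.Fusion.OpenTable
import Cfsg.Agent.Lib.HNRec.Fusion.OpenGlueChecks
import Cfsg.Agent.Lib.HNRec.Fusion.OpenKill

/-!
# The fusion of U1 and X0 without the class of `c` is impossible
-/

set_option autoImplicit false
set_option maxRecDepth 100000
set_option linter.style.haveILetI false

namespace CfsgLib.HNRec.Fusion

open CfsgLib.HNxyz CfsgLib.HNIndex

variable {G : Type} [Group G] {t a b c : G}

theorem openWord_append (u v : List ℕ) : openWord (u ++ v) = openWord u ++ openWord v := by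
  simp [openWord]

theorem mW_iff (h : XYZRels a b c) {u v : List ℕ} (hu : ∀ g ∈ u, g < 6) (hv : ∀ g ∈ v, g < 6) :
    mW a b c u = mW a b c v ↔ kW u = kW v :=
  ⟨kW_of_mW hu hv, mW_of_kW h hu hv⟩

theorem openKey_fold {i : ℕ} (hi : i < 1440) {s : List ℕ} (hs : ∀ j ∈ s, j < 4) :
    (openKey i).map (openFold s) = kW (openWord (openSeq i) ++ openWord s) := by
  obtain ⟨h1, h2, -⟩ := openElem_facts hi
  rw [kW_append, h2]
  refine List.map_congr_left fun p hp => openFold_eq hs ?_
  rw [← h2, kW, List.mem_map] at hp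
  obtain ⟨q, hq, rfl⟩ := hp
  exact img_lt (openWord_ok h1) (base_lt q hq)

theorem oPos_lt {i : ℕ} (hi : i < 83) : oPos i < 1440 := by
  have h := List.all_eq_true.1 oPos_checks.2.2 i (List.mem_range.2 hi)
  rw [Bool.and_eq_true, Nat.blt_eq] at h
  exact h.1

theorem oSeq_ok {i : ℕ} (hi : i < 83) : ∀ j ∈ oSeq i, j < 4 := (openElem_facts (oPos_lt hi)).1

/-- A listed involution in the group. -/
noncomputable def oG (a b c : G) (i : ℕ) : G := pr a b c (openEl a b c (oPos i))

theorem oG_mul_iff (hK : Coord t a b c) {i j k : ℕ} (hi : i < 83) (hj : j < 83) (hk : k < 83) :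
    oG a b c i * oG a b c j = oG a b c k ↔ (oKey i).map (openFold (oSeq j)) = oKey k := by
  rw [oG, oG, oG, ← map_mul, (pr_inj hK).eq_iff, openEl, openEl, openEl, ← mW_append,
    mW_iff hK.rels (ok_append (openWord_ok (openElem_facts (oPos_lt hi)).1)
      (openWord_ok (openElem_facts (oPos_lt hj)).1)) (openWord_ok (openElem_facts (oPos_lt hk)).1),
    (openElem_facts (oPos_lt hk)).2.1]
  rw [oKey, openKey_fold (oPos_lt hi) (oSeq_ok hj)]
  rfl

theorem oG_inj (hK : Coord t a b c) {i j : ℕ} (hi : i < 83) (hj : j < 83)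
    (e : oG a b c i = oG a b c j) : i = j := by
  have e' := openEl_inj (oPos_lt hi) (oPos_lt hj) (pr_inj hK e)
  have h := List.all_eq_true.1 oPos_checks.2.2 i (List.mem_range.2 hi)
  rw [Bool.and_eq_true] at h
  have h2 := List.all_eq_true.1 h.2 j (List.mem_range.2 hj)
  rw [Bool.or_eq_true, Nat.beq_eq] at h2
  rcases h2 with h2 | h2
  · exact h2
  · rw [Bool.not_eq_true', Bool.eq_false_iff] at h2
    exact absurd (beq_true e') h2

theorem oMul_facts (hK : Coord t a b c) {i j : ℕ} (hi : i < 83) (hj : j < 83) :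
    (oCm i j = true ↔ Commute (oG a b c i) (oG a b c j)) ∧
      (oMul i j < 83 → oG a b c i * oG a b c j = oG a b c (oMul i j)) ∧
      (oMul i j = 83 → oG a b c i * oG a b c j = 1) := by
  have h := List.all_eq_true.1 (List.all_eq_true.1 oMul_checks i (List.mem_range.2 hi)) j
    (List.mem_range.2 hj)
  have hwi := openWord_ok (openElem_facts (oPos_lt hi)).1
  have hwj := openWord_ok (openElem_facts (oPos_lt hj)).1
  have hc : Commute (oG a b c i) (oG a b c j) ↔
      (oKey i).map (openFold (oSeq j)) = (oKey j).map (openFold (oSeq i)) := by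
    show _ * _ = _ * _ ↔ _
    rw [oG, oG, ← map_mul, ← map_mul, (pr_inj hK).eq_iff, openEl, openEl, ← mW_append, ← mW_append,
      mW_iff hK.rels (ok_append hwi hwj) (ok_append hwj hwi), oKey, oKey,
      openKey_fold (oPos_lt hi) (oSeq_ok hj), openKey_fold (oPos_lt hj) (oSeq_ok hi)]
    rfl
  rw [oMulOk] at h
  by_cases hcm : oCm i j = true
  · simp only [hcm, if_true, Bool.and_eq_true, beqL_iff] at h
    refine ⟨⟨fun _ => hc.2 h.1, fun _ => hcm⟩, fun hlt => ?_, fun h83 => ?_⟩
    · rw [oG_mul_iff hK hi hj hlt, h.2, if_pos (by rw [Nat.blt_eq]; exact hlt)]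
    · have e : (oKey i).map (openFold (oSeq j)) = base := by
        rw [h.2, if_neg (by rw [Nat.blt_eq]; omega)]
      rw [oKey, openKey_fold (oPos_lt hi) (oSeq_ok hj), ← kW_nil,
        ← mW_iff (a := a) (b := b) (c := c) hK.rels (ok_append hwi (openWord_ok (oSeq_ok hj))) (by simp),
        mW_append, mW_nil'] at e
      rw [oG, oG, ← map_mul, openEl, openEl]
      exact (congrArg (pr a b c) e).trans (map_one _)
  · simp only [hcm, if_false, Bool.not_eq_true', Bool.false_eq_true] at h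
    refine ⟨⟨fun e => absurd e hcm, fun e => ?_⟩, fun hlt => ?_, fun h83 => ?_⟩
    · rw [beqL_iff.2 (hc.1 e)] at h; exact absurd h (by decide)
    all_goals refine absurd ?_ hcm; rw [oCm, Nat.blt_eq]; omega

theorem oCm_lt {i j : ℕ} (h : oCm i j = true) : oMul i j < 83 ∨ oMul i j = 83 := by
  rw [oCm, Nat.blt_eq] at h; omega

theorem oG_invol (hK : Coord t a b c) {i : ℕ} (hi : i < 83) :
    oG a b c i * oG a b c i = 1 ∧ oG a b c i ≠ 1 ∧ Commute (oG a b c i) t ∧
      Commute (oG a b c i) (evalW (elt a b c) openE) := by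
  have h := List.all_eq_true.1 oBase_checks.1 i (List.mem_range.2 hi)
  rw [Bool.and_eq_true, Nat.beq_eq] at h
  obtain ⟨h1, -, -⟩ := openElem_facts (oPos_lt hi)
  refine ⟨(oMul_facts hK hi hi).2.2 h.1, fun e => ?_, pr_comm hK _, ?_⟩
  · rw [oG, ← map_one (pr a b c), (pr_inj hK).eq_iff, openEl, ← mW_nil',
      mW_iff hK.rels (openWord_ok h1) (by simp), (openElem_facts (oPos_lt hi)).2.1, kW_nil,
      ← beqL_iff] at e
    have h2 := h.2
    rw [oKey, e] at h2
    exact absurd h2 (by decide)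
  · have hm := openSub_le hK.rels ((openSub_exact hK.rels).2 ⟨oPos i, oPos_lt hi, rfl⟩)
    have := congrArg (pr a b c) (Subgroup.mem_centralizer_singleton_iff.1 hm)
    rw [map_mul, map_mul, pr_mW] at this
    exact this

theorem openInv_row {n : ℕ} (hn : n < 83) :
    ∃ p ∈ openInvs, openInvs[n]? = some p ∧ openInvOk (p, oPos n) = true := by
  obtain ⟨hl, hall⟩ := openInv_checks
  rw [Nat.beq_eq] at hl
  have h83 := oPos_checks.1
  rw [Nat.beq_eq] at h83
  have hn1 : n < openInvs.length := by omega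
  have hn2 : n < openInvPos.length := by omega
  refine ⟨openInvs[n], List.getElem_mem hn1, List.getElem?_eq_getElem hn1, ?_⟩
  rw [oPos, List.getD_eq_getElem _ _ hn2]
  refine List.all_eq_true.1 hall _ (List.mem_iff_getElem.2 ⟨n, by simp [List.length_zip]; omega, ?_⟩)
  exact List.getElem_zip

theorem exists_oG (hK : Coord t a b c) {g : G} (h : InvC t (evalW (elt a b c) openE) g) :
    ∃ i < 83, g = oG a b c i := by
  obtain ⟨h1, h2, h3, h4⟩ := h
  obtain ⟨m, rfl⟩ := exists_pr hK h3.eq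
  obtain ⟨p, hp, hmp⟩ := open_invol hK.rels (m := m) (fun e => h1 (by rw [e, map_one]))
    (pr_inj hK (by rw [map_mul, map_one, h2]))
    (pr_inj hK (by rw [map_mul, map_mul, pr_mW]; exact h4.eq))
  obtain ⟨n, hn, rfl⟩ := List.getElem_of_mem hp
  have h83 := oPos_checks.1
  rw [Nat.beq_eq] at h83
  refine ⟨n, by omega, ?_⟩
  obtain ⟨p, -, hp', hok⟩ := openInv_row (n := n) (by omega)
  obtain rfl : openInvs[n] = p := Option.some.inj ((List.getElem?_eq_getElem hn).symm.trans hp')
  simp only [openInvOk, Bool.and_eq_true, beqL_iff, okW_iff, Nat.blt_eq] at hok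
  obtain ⟨⟨⟨⟨hw, -⟩, -⟩, hk⟩, -⟩ := hok
  obtain ⟨g1, g2, -⟩ := openElem_facts (oPos_lt (i := n) (by omega))
  rw [hmp, oG, openEl]
  exact congrArg _ ((mW_iff hK.rels hw (openWord_ok g1)).2 (hk.trans g2.symm))

section Fused

variable [Finite G] (hK : Coord t a b c) (hc : ¬ IsConj t c) (h1 : IsConj t (repG a b c 1))
  (h4 : IsConj t (repG a b c 4))
include hK hc h1 h4

theorem oFus_iff {i : ℕ} (hi : i < 83) : IsConj t (oG a b c i) ↔ oFus i = true := by
  obtain ⟨p, -, hp, hok⟩ := openInv_row hi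
  simp only [openInvOk, Bool.and_eq_true, beqL_iff, Nat.blt_eq] at hok
  obtain ⟨⟨⟨⟨-, hcw⟩, hr⟩, -⟩, hk⟩ := hok
  obtain ⟨g1, g2, -⟩ := openElem_facts (oPos_lt hi)
  have hcls : oCls i = p.2.1 := by rw [oCls, List.getD_eq_getElem?_getD, hp, Option.getD_some]
  have hW : ∀ g ∈ cjWord p.2.1 p.2.2, g < 6 :=
    ok_append (ok_append (invW_lt (okW_iff.1 hcw)) (repW_ok hr)) (okW_iff.1 hcw)
  have e : oG a b c i = (evalW (elt a b c) p.2.2)⁻¹ * repG a b c p.2.1 * evalW (elt a b c) p.2.2 := by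
    rw [← eval_cjWord a b c hcw, ← pr_mW, oG, openEl,
      (mW_iff hK.rels (openWord_ok g1) hW).2 (g2.trans hk.symm)]
  have e2 : IsConj t (oG a b c i) ↔ IsConj t (repG a b c p.2.1) := by
    rw [e]
    have := fus_cj t (evalW (elt a b c) p.2.2)⁻¹ (repG a b c p.2.1)
    rwa [inv_inv] at this
  rw [e2]
  simp only [oFus, hcls, Bool.and_eq_true, Nat.blt_eq, hi, true_and, Bool.not_eq_true',
    Bool.eq_false_iff, ne_eq, Nat.beq_eq]
  generalize p.2.1 = r at hr
  interval_cases r
  · exact iff_of_true (by rw [repG_zero hK]) (by decide)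
  · exact iff_of_true h1 (by decide)
  · exact iff_of_false (not_fused_two hK) (by decide)
  · exact iff_of_false (by rw [repG_three hK]; exact hc) (by decide)
  · exact iff_of_true h4 (by decide)

theorem oFus_mul {i j : ℕ} (hi : i < 83) (hj : j < 83) (hcm : oCm i j = true) :
    IsConj t (oG a b c i * oG a b c j) ↔ oFus (oMul i j) = true := by
  rcases oCm_lt hcm with h | h
  · rw [(oMul_facts hK hi hj).2.1 h]
    exact oFus_iff hK hc h1 h4 h
  · rw [(oMul_facts hK hi hj).2.2 h, h]
    refine ⟨fun e => absurd rfl (fus_invol hK.ne (t_sq hK) e).1, fun e => absurd e ?_⟩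
    simp [oFus]

theorem oA_iff {w x : ℕ} (hw : w < 83) (hx : x < 83) :
    LiftA t (evalW (elt a b c) openE) (oG a b c w) (oG a b c x) ↔ oA w x = true := by
  obtain ⟨x2, x1, xt, xe⟩ := oG_invol hK hx
  simp only [oA, Bool.and_eq_true]
  constructor
  · rintro ⟨-, hc', hf, hf'⟩
    have hcm := (oMul_facts hK hx hw).1.2 hc'
    exact ⟨⟨hcm, (oFus_iff hK hc h1 h4 hx).1 hf⟩, (oFus_mul hK hc h1 h4 hx hw hcm).1 hf'⟩
  · rintro ⟨⟨hcm, hf⟩, hf'⟩
    exact ⟨⟨x1, x2, xt, xe⟩, (oMul_facts hK hx hw).1.1 hcm, (oFus_iff hK hc h1 h4 hx).2 hf,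
      (oFus_mul hK hc h1 h4 hx hw hcm).2 hf'⟩

theorem oB_iff {w y : ℕ} (hw : w < 83) (hy : y < 83) :
    LiftB t (evalW (elt a b c) openE) (oG a b c w) (oG a b c y) ↔ oB w y = true := by
  obtain ⟨x2, x1, xt, xe⟩ := oG_invol hK hy
  simp only [oB, Bool.and_eq_true, Bool.not_eq_true', Bool.eq_false_iff]
  constructor
  · rintro ⟨-, hc', hf, hf'⟩
    have hcm := (oMul_facts hK hy hw).1.2 hc'
    exact ⟨⟨hcm, (oFus_iff hK hc h1 h4 hy).1 hf⟩, fun e => hf' ((oFus_mul hK hc h1 h4 hy hw hcm).2 e)⟩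
  · rintro ⟨⟨hcm, hf⟩, hf'⟩
    exact ⟨⟨x1, x2, xt, xe⟩, (oMul_facts hK hy hw).1.1 hcm, (oFus_iff hK hc h1 h4 hy).2 hf,
      fun e => hf' ((oFus_mul hK hc h1 h4 hy hw hcm).1 e)⟩

end Fused

theorem oG_T (hK : Coord t a b c) : oG a b c openT = t := by
  have hT : openT < 83 := Nat.blt_eq.mp oBase_checks.2.2.1
  obtain ⟨g1, g2, -⟩ := openElem_facts (oPos_lt hT)
  rw [oG, openEl, (mW_iff hK.rels (openWord_ok g1) (v := [0, 0]) (by decide)).2
    (g2.trans (beqL_iff.1 oBase_checks.2.1)), pr_mW, eval_t hK]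

theorem oG_TS (hK : Coord t a b c) : t * oG a b c openS = oG a b c openTS := by
  obtain ⟨-, -, hT, hS, hm, hTS, -⟩ := oBase_checks
  rw [Nat.blt_eq] at hT hS hTS
  rw [Nat.beq_eq] at hm
  rw [← hm, ← (oMul_facts hK hT hS).2.1 (by omega), oG_T hK]

theorem oHas_spec (hK : Coord t a b c) {y s : ℕ} (hy : y < 83) (hs : s < 83) (hys : oCm y s = true)
    (h : oHas y s = true) :
    HasSpread t (evalW (elt a b c) openE) (oG a b c y) (oG a b c s) := by
  simp only [oHas, List.any_eq_true, List.mem_filter, List.mem_range, Bool.and_eq_true] at h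
  obtain ⟨i, ⟨hi, ⟨hiy, his⟩, hio⟩, j, ⟨hj, ⟨hjy, hjs⟩, hjo⟩, hij, hko⟩ := h
  have hinv : ∀ {i : ℕ}, i < 83 → InvC t (evalW (elt a b c) openE) (oG a b c i) := fun hi =>
    ⟨(oG_invol hK hi).2.1, (oG_invol hK hi).1, (oG_invol hK hi).2.2⟩
  have hz : ∀ {z : ℕ}, oOut y s z = true → oG a b c z ≠ 1 ∧ oG a b c z ≠ oG a b c y ∧
      oG a b c z ≠ oG a b c s ∧ oG a b c z ≠ oG a b c y * oG a b c s := by
    intro z hz
    simp only [oOut, Bool.and_eq_true, Nat.blt_eq, Bool.not_eq_true', Bool.eq_false_iff, ne_eq,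
      Nat.beq_eq] at hz
    obtain ⟨⟨⟨hz, n1⟩, n2⟩, n3⟩ := hz
    refine ⟨(oG_invol hK hz).2.1, fun e => n1 (oG_inj hK hz hy e), fun e => n2 (oG_inj hK hz hs e),
      fun e => ?_⟩
    rcases oCm_lt hys with h | h
    · rw [(oMul_facts hK hy hs).2.1 h] at e
      exact n3 (oG_inj hK hz h e)
    · rw [(oMul_facts hK hy hs).2.2 h] at e
      exact (oG_invol hK hz).2.1 e
  have hk : oMul i j < 83 := by
    simp only [oOut, Bool.and_eq_true, Nat.blt_eq] at hko
    exact hko.1.1.1
  refine ⟨oG a b c i, oG a b c j, hinv hi, hinv hj, (oMul_facts hK hi hj).1.1 hij,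
    (oMul_facts hK hi hy).1.1 hiy, (oMul_facts hK hj hy).1.1 hjy, (oMul_facts hK hi hs).1.1 his,
    (oMul_facts hK hj hs).1.1 hjs, ?_⟩
  intro z hzz
  rcases hzz with rfl | rfl | rfl
  · exact hz hio
  · exact hz hjo
  · rw [(oMul_facts hK hi hj).2.1 hk]
    exact hz hko

theorem ncard_oG (hK : Coord t a b c) {P : G → Prop} {p : ℕ → Bool}
    (hP : ∀ g, P g → InvC t (evalW (elt a b c) openE) g)
    (hp : ∀ i < 83, (P (oG a b c i) ↔ p i = true)) :
    {g | P g}.ncard = ((List.range 83).filter p).length := by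
  classical
  have e : {g | P g} = ((((List.range 83).filter p).toFinset.image (oG a b c) : Finset G) : Set G) := by
    ext g
    simp only [Finset.coe_image, List.coe_toFinset, Set.mem_image, List.mem_filter, List.mem_range]
    constructor
    · intro hg
      obtain ⟨i, hi, rfl⟩ := exists_oG hK (hP g hg)
      exact ⟨i, ⟨hi, (hp i hi).1 hg⟩, rfl⟩
    · rintro ⟨i, ⟨hi, hpi⟩, rfl⟩
      exact (hp i hi).2 hpi
  rw [e, Set.ncard_coe_finset, Finset.card_image_of_injOn,
    List.toFinset_card_of_nodup ((List.nodup_range (n := 83)).filter _)]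
  intro i hi j hj he
  simp only [List.coe_toFinset, Set.mem_setOf_eq, List.mem_filter, List.mem_range] at hi hj
  exact oG_inj hK hi.1 hj.1 he

theorem oPow_eq {x y : ℕ} (hx : x < 83) (hy : y < 83) : ∀ n : ℕ,
    oPow x y n = kW (List.replicate n (openWord (oSeq x ++ oSeq y))).flatten
  | 0 => by simp [oPow, kW, img]
  | n + 1 => by
    rw [oPow, oPow_eq hx hy n, List.replicate_succ', List.flatten_append, List.flatten_cons,
      List.flatten_nil, List.append_nil, kW_append]
    refine List.map_congr_left fun p hp => openFold_eq ?_ ?_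
    · intro j hj
      rcases List.mem_append.1 hj with hj | hj
      exacts [oSeq_ok hx j hj, oSeq_ok hy j hj]
    · rw [kW, List.mem_map] at hp
      obtain ⟨q, hq, rfl⟩ := hp
      refine img_lt ?_ (base_lt q hq)
      intro g hg
      simp only [List.mem_flatten, List.mem_replicate] at hg
      obtain ⟨_, ⟨-, rfl⟩, hg⟩ := hg
      refine openWord_ok ?_ g hg
      intro j hj
      rcases List.mem_append.1 hj with hj | hj
      exacts [oSeq_ok hx j hj, oSeq_ok hy j hj]

theorem pow_key (hK : Coord t a b c) {x y k : ℕ} (hx : x < 83) (hy : y < 83) (hk : k < 83) (n : ℕ) :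
    ((oG a b c x * oG a b c y) ^ n = 1 ↔ oPow x y n = base) ∧
      ((oG a b c x * oG a b c y) ^ n = oG a b c k ↔ oPow x y n = oKey k) := by
  set w := openWord (oSeq x ++ oSeq y) with hw
  have hwok : ∀ g ∈ w, g < 6 := openWord_ok fun j hj => by
    rcases List.mem_append.1 hj with hj | hj
    exacts [oSeq_ok hx j hj, oSeq_ok hy j hj]
  have hrep : ∀ m : ℕ, (∀ g ∈ (List.replicate m w).flatten, g < 6) ∧
      mW a b c (List.replicate m w).flatten = mW a b c w ^ m := by
    intro m
    induction m with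
    | zero => exact ⟨by simp, by simp [mW_nil']⟩
    | succ m ih =>
      rw [List.replicate_succ, List.flatten_cons]
      exact ⟨ok_append hwok ih.1, by rw [mW_append, ih.2, ← pow_succ']⟩
  have e : (oG a b c x * oG a b c y) ^ n = pr a b c (mW a b c (List.replicate n w).flatten) := by
    rw [(hrep n).2, map_pow, hw, openWord_append, mW_append, map_mul]; rfl
  rw [e, oPow_eq hx hy, ← hw]
  constructor
  · rw [← map_one (pr a b c), (pr_inj hK).eq_iff, ← mW_nil',
      mW_iff hK.rels (hrep n).1 (by simp), kW_nil]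
  · rw [oG, (pr_inj hK).eq_iff, openEl,
      mW_iff hK.rels (hrep n).1 (openWord_ok (openElem_facts (oPos_lt hk)).1),
      (openElem_facts (oPos_lt hk)).2.1, oKey]

theorem oMid_iff (hK : Coord t a b c) {x y : ℕ} (hx : x < 83) (hy : y < 83)
    (hshort : oShort x y = true) :
    (Mid (oG a b c x) (oG a b c y) t ∨ Mid (oG a b c x) (oG a b c y) (t * oG a b c openS)) ↔
      oMid x y = true := by
  obtain ⟨-, -, hT, -, -, hTS, -⟩ := oBase_checks
  rw [Nat.blt_eq] at hT hTS
  simp only [oShort, List.any_eq_true, List.mem_range, beqL_iff] at hshort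
  obtain ⟨o, ho, hoe⟩ := hshort
  have hper := (pow_key hK hx hy hT (o + 1)).1.2 hoe
  have key : ∀ {k : ℕ}, k < 83 → (Mid (oG a b c x) (oG a b c y) (oG a b c k) ↔
      ∃ n < 12, oPow x y n = oKey k) := by
    intro k hk
    constructor
    · rintro ⟨-, -, n, hn⟩
      refine ⟨n % (o + 1), by have := Nat.mod_lt n (show o + 1 > 0 by omega); omega,
        (pow_key hK hx hy hk _).2.1 ?_⟩
      rw [← hn]
      conv_rhs => rw [← Nat.mod_add_div n (o + 1), pow_add, pow_mul, hper, one_pow, mul_one]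
    · rintro ⟨n, -, hn⟩
      exact ⟨(oG_invol hK hk).2.1, (oG_invol hK hk).1, n, (pow_key hK hx hy hk n).2.2 hn⟩
  rw [oG_TS hK]
  conv_lhs => rw [← oG_T hK (a := a) (b := b) (c := c)]
  rw [key hT, key hTS]
  simp only [oMid, List.any_eq_true, List.mem_range, Bool.or_eq_true, beqL_iff]
  constructor
  · rintro (⟨n, hn, e⟩ | ⟨n, hn, e⟩)
    exacts [⟨n, hn, Or.inl e⟩, ⟨n, hn, Or.inr e⟩]
  · rintro ⟨n, hn, e | e⟩
    exacts [Or.inl ⟨n, hn, e⟩, Or.inr ⟨n, hn, e⟩]

/-- The fusion pattern without the class of `c` is impossible. -/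
theorem open_false [Finite G] (hK : Coord t a b c) (hc : ¬ IsConj t c)
    (h1 : IsConj t (repG a b c 1)) (h4 : IsConj t (repG a b c 4)) : False := by
  haveI := m_finite hK.rels
  obtain ⟨bI, bT, hT, hS, hm, hTS, bS, bTS, hsw, hswap⟩ := oBase_checks
  rw [Nat.blt_eq] at hT hS hTS hsw
  rw [Nat.beq_eq] at hm
  set e := evalW (elt a b c) openE with he
  set s := oG a b c openS with hs
  set f := pr a b c (openEl a b c openF) with hf
  obtain ⟨fl, fi, f5, fne, fS, fT, fmid, ffix, finv, ffi, fcnt⟩ := oF_checks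
  rw [Nat.blt_eq] at fl fi
  obtain ⟨fs1, fs2, -⟩ := openElem_facts fl
  have hFC : ∀ {i : ℕ}, i < 83 → (oFCm i = true ↔ Commute (oG a b c i) f) := by
    intro i hi
    have hwi := openWord_ok (oSeq_ok hi)
    have hwf := openWord_ok fs1
    rw [oFCm, beqL_iff, oKey, openKey_fold fl (oSeq_ok hi), openKey_fold (oPos_lt hi) fs1]
    show kW (openWord (openSeq openF) ++ openWord (oSeq i)) =
      kW (openWord (oSeq i) ++ openWord (openSeq openF)) ↔ _
    rw [← mW_iff hK.rels (ok_append hwf hwi) (ok_append hwi hwf), mW_append, mW_append]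
    show _ ↔ oG a b c i * f = f * oG a b c i
    rw [hf, oG, ← map_mul, ← map_mul, (pr_inj hK).eq_iff]
    exact eq_comm
  have hinv : ∀ {i : ℕ}, i < 83 → InvC t e (oG a b c i) := fun hi =>
    ⟨(oG_invol hK hi).2.1, (oG_invol hK hi).1, (oG_invol hK hi).2.2⟩
  have hA := fun {w x : ℕ} (hw : w < 83) (hx : x < 83) => oA_iff hK hc h1 h4 hw hx
  have hB := fun {w x : ℕ} (hw : w < 83) (hx : x < 83) => oB_iff hK hc h1 h4 hw hx
  have hF := fun {x : ℕ} (hx : x < 83) => oFus_iff hK hc h1 h4 hx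
  have hne : ∀ {i : ℕ}, i < 83 → (oG a b c i ≠ t ↔ (!Nat.beq i openT) = true) := by
    intro i hi
    rw [← oG_T hK, Bool.not_eq_true', Bool.eq_false_iff, ne_eq, not_iff_not, Nat.beq_eq]
    exact ⟨fun e => oG_inj hK hi hT e, fun e => by rw [e]⟩
  have hts : t * s = oG a b c openTS := oG_TS hK
  have htc : ∀ i, Commute (oG a b c i) t := fun i => pr_comm hK _
  have hcT : ∀ {i : ℕ}, i < 83 → oCm openT i = true ∧ oCm i openT = true := fun hi =>
    ⟨(oMul_facts hK hT hi).1.2 (by rw [oG_T hK]; exact (htc _).symm),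
      (oMul_facts hK hi hT).1.2 (by rw [oG_T hK]; exact htc _)⟩
  have hTmul : ∀ {i : ℕ}, i < 83 → (IsConj t (t * oG a b c i) ↔ oFus (oMul openT i) = true) := by
    intro i hi
    have := oFus_mul hK hc h1 h4 hT hi (hcT hi).1
    rwa [oG_T hK] at this
  have hmulT : ∀ {i : ℕ}, i < 83 → (IsConj t (oG a b c i * t) ↔ oFus (oMul i openT) = true) := by
    intro i hi
    have := oFus_mul hK hc h1 h4 hi hT (hcT hi).2
    rwa [oG_T hK] at this
  obtain ⟨c30, c15, cat, cmid⟩ := oCount_checks
  rw [Nat.beq_eq] at c30 c15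
  refine OpenFacts.contradiction (t := t) (e := e) (s := s) (f := f)
    { t1 := hK.ne
      tt := t_sq hK
      te := by rw [he, ← pr_mW]; exact pr_comm hK _
      ee := by rw [he, ← pr_mW, ← map_pow, openE_cube hK.rels, map_one]
      e1 := by
        rw [he, ← pr_mW, ← map_one (pr a b c)]
        exact fun h => openE_ne_one (pr_inj hK h)
      sI := hinv hS
      sF := ⟨by rw [hs, hF hS, bS]; decide, by rw [hts, hF hTS, bTS]; decide⟩
      conj3 := ?_
      only_s := ?_
      swap := ?_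
      rankB := ?_
      ufr := ?_
      a30 := ?_
      a_t := ?_
      p15 := ?_
      a26 := ?_
      mid := ?_
      ff := ?_
      f_mid := ?_
      f_fix := ?_
      inverting := ?_
      cardC := ?_ }
  · intro x hxt h3 hx1
    obtain ⟨m, rfl⟩ := exists_pr hK hxt.eq
    obtain ⟨g, hg⟩ := open_order_three hK.rels (m := m) (pr_inj hK (by rw [map_pow, map_one]; exact h3))
      (fun h => hx1 (by rw [h, map_one]))
    exact ⟨pr a b c g, pr_comm hK g, by rw [← map_inv, ← map_mul, ← map_mul, hg, pr_mW]⟩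
  · intro s' hI hn1 hn2 hsp
    obtain ⟨k, hk, rfl⟩ := exists_oG hK hI
    have h := List.all_eq_true.1 oOnly_checks k (List.mem_range.2 hk)
    simp only [Bool.or_eq_true, Bool.not_eq_true', Nat.beq_eq] at h
    rcases h with (((h | h) | h) | h) | h
    · exact absurd ((hF hk).2 h) hn1
    · exact absurd ((hTmul hk).2 h) hn2
    · exfalso
      obtain ⟨i, j, hi, hj, hij, hit, hjt, his, hjs, hspr⟩ := hsp
      obtain ⟨i, hi83, rfl⟩ := exists_oG hK hi
      obtain ⟨j, hj83, rfl⟩ := exists_oG hK hj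
      have eT := oG_T hK
      have hout : ∀ {z : ℕ}, z < 83 → oG a b c z ≠ 1 ∧ oG a b c z ≠ oG a b c openT ∧
          oG a b c z ≠ oG a b c k ∧ oG a b c z ≠ oG a b c openT * oG a b c k →
          oOut openT k z = true := by
        intro z hz hh
        obtain ⟨-, n1, n2, n3⟩ := hh
        simp only [oOut, Bool.and_eq_true, Nat.blt_eq, Bool.not_eq_true', Bool.eq_false_iff, ne_eq,
          Nat.beq_eq]
        refine ⟨⟨⟨hz, fun e => n1 (by rw [e])⟩, fun e => n2 (by rw [e])⟩, fun e => n3 ?_⟩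
        rw [(oMul_facts hK hT hk).2.1 (e ▸ hz), e]
      have hcij := (oMul_facts hK hi83 hj83).1.2 hij
      have hk83 : oMul i j < 83 := by
        refine (oCm_lt hcij).resolve_right fun e => (hspr _ (Or.inr (Or.inr rfl))).1 ?_
        exact (oMul_facts hK hi83 hj83).2.2 e
      rw [Bool.eq_false_iff] at h
      refine h ?_
      simp only [oHas, List.any_eq_true, List.mem_filter, List.mem_range, Bool.and_eq_true]
      refine ⟨i, ⟨hi83, ⟨(oMul_facts hK hi83 hT).1.2 (eT.symm ▸ hit), (oMul_facts hK hi83 hk).1.2 his⟩,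
        hout hi83 (eT.symm ▸ hspr _ (Or.inl rfl))⟩, j, ⟨hj83, ⟨(oMul_facts hK hj83 hT).1.2 (eT.symm ▸ hjt),
        (oMul_facts hK hj83 hk).1.2 hjs⟩, hout hj83 (eT.symm ▸ hspr _ (Or.inr (Or.inl rfl)))⟩, hcij, hout hk83 ?_⟩
      have := hspr _ (Or.inr (Or.inr rfl))
      rw [(oMul_facts hK hi83 hj83).2.1 hk83] at this
      exact eT.symm ▸ this
    · exact Or.inl (by rw [h])
    · exact Or.inr (by rw [hts, h])
  · obtain ⟨g1, g2, -⟩ := openElem_facts hsw
    refine ⟨pr a b c (openEl a b c openSwap), pr_comm hK _, ?_, ?_⟩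
    · have hm' := openSub_le hK.rels ((openSub_exact hK.rels).2 ⟨openSwap, hsw, rfl⟩)
      have := congrArg (pr a b c) (Subgroup.mem_centralizer_singleton_iff.1 hm')
      rw [map_mul, map_mul, pr_mW] at this
      exact this
    · rw [beqL_iff, oKey, openKey_fold hsw (oSeq_ok hTS), openKey_fold (oPos_lt hS) g1] at hswap
      have h' := congrArg (pr a b c) (mW_of_kW hK.rels
        (ok_append (openWord_ok g1) (openWord_ok (oSeq_ok hTS)))
        (ok_append (openWord_ok (oSeq_ok hS)) (openWord_ok g1)) hswap)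
      rw [mW_append, mW_append, map_mul, map_mul] at h'
      rw [hts, hs, mul_inv_eq_iff_eq_mul]
      exact h'
  · intro y hy
    obtain ⟨i, hi, rfl⟩ := exists_oG hK hy.1
    have hy' := (hB hS hi).1 hy
    have h := List.all_eq_true.1 oRank_checks i (List.mem_range.2 hi)
    rw [hy', Bool.not_true, Bool.false_or] at h
    simp only [oB, Bool.and_eq_true] at hy'
    exact oHas_spec hK hi hS hy'.1.1 h
  · intro w hw hn hf'
    obtain ⟨k, hk, rfl⟩ := exists_oG hK hw
    have h := List.all_eq_true.1 oUfr_checks k (List.mem_range.2 hk)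
    have hf2 := (hTmul hk).1 hf'
    simp only [hf2, Bool.not_true, Bool.or_false, Bool.or_eq_true, Bool.and_eq_true, List.all_eq_true,
      List.mem_filter, List.mem_range, Nat.beq_eq] at h
    obtain ⟨⟨hlen, hhas⟩, hcom⟩ := h.resolve_left fun e => hn ((hF hk).2 e)
    refine ⟨fun x y hx hy => ?_, ?_, fun y hy => ?_⟩
    · obtain ⟨i, hi, rfl⟩ := exists_oG hK hx.1
      obtain ⟨j, hj, rfl⟩ := exists_oG hK hy.1
      exact (oMul_facts hK hi hj).1.1 (hcom i ⟨hi, (hA hk hi).1 hx⟩ j ⟨hj, (hB hk hj).1 hy⟩)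
    · rw [ncard_oG hK (p := oB k) (fun g hg => hg.1) fun i hi => hB hk hi, hlen]
    · obtain ⟨j, hj, rfl⟩ := exists_oG hK hy.1
      have hy' := (hB hk hj).1 hy
      have := hhas j ⟨hj, hy'⟩
      simp only [oB, Bool.and_eq_true] at hy'
      exact oHas_spec hK hj hk hy'.1.1 this
  · rw [ncard_oG hK (p := oA openS) (fun g hg => hg.1) fun i hi => hA hS hi]
    exact c30
  · intro x hx
    obtain ⟨i, hi, rfl⟩ := exists_oG hK hx.1
    have hi' := (hA hS hi).1 hx
    have h := List.all_eq_true.1 cat i (by rw [oAs, List.mem_filter, List.mem_range]; exact ⟨hi, hi'⟩)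
    rintro ⟨n1, n2⟩
    have hcm := (hcT hi).2
    have m1 := (hmulT hi).1 n1
    have hlt : oMul i openT < 83 := by
      refine (oCm_lt hcm).resolve_right fun e => ?_
      rw [e] at m1; simp [oFus] at m1
    have e3 := (oMul_facts hK hi hT).2.1 hlt
    rw [oG_T hK] at e3
    rw [e3] at n2
    have hcm2 : oCm (oMul i openT) openS = true := (oMul_facts hK hlt hS).1.2 (by
      rw [← (oMul_facts hK hi hT).2.1 hlt, oG_T hK]
      exact hx.2.1.mul_left ((htc openS).symm))
    have m2 := (oFus_mul hK hc h1 h4 hlt hS hcm2).1 n2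
    simp [m1, m2] at h
  · rw [ncard_oG hK (p := fun y => oB openS y && !Nat.beq y openT) (fun g hg => hg.1.1) fun i hi => by
      rw [Bool.and_eq_true, hB hS hi, hne hi]]
    exact c15
  · intro y hy hyt
    obtain ⟨j, hj, rfl⟩ := exists_oG hK hy.1
    have hj' : j ∈ oBs := by
      rw [oBs, List.mem_filter, List.mem_range, Bool.and_eq_true]
      exact ⟨hj, (hB hS hj).1 hy, (hne hj).1 hyt⟩
    have h := List.all_eq_true.1 oMid_checks j hj'
    rw [Bool.and_eq_true, List.all_eq_true, Nat.beq_eq] at h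
    rw [ncard_oG hK (p := fun x => oA openS x && oMid x j) (fun g hg => hg.1.1) fun i hi => ?_]
    · rw [← h.2, oAs, List.filter_filter]
      congr 2
      funext x
      rw [Bool.and_comm]
    · rw [Bool.and_eq_true, hA hS hi]
      refine and_congr_right fun hia => oMid_iff hK hi hj (h.1 i ?_)
      rw [oAs, List.mem_filter, List.mem_range]
      exact ⟨hi, hia⟩
  · intro r hr hrs htr
    obtain ⟨k, hk, rfl⟩ := exists_oG hK hr
    have hcs := (oMul_facts hK hk hS).1.2 hrs
    have m1 := (hTmul hk).1 htr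
    have h := List.all_eq_true.1 cmid k (List.mem_range.2 hk)
    simp only [hcs, m1, Bool.and_self, Bool.not_true, Bool.false_or, Bool.or_eq_true,
      Bool.and_eq_true] at h
    rcases h with (⟨p1, p2⟩ | ⟨p1, p2⟩) | ⟨p1, p2⟩
    · exact Or.inl ⟨(hF hk).2 p1, (oFus_mul hK hc h1 h4 hk hS hcs).2 p2⟩
    · exact Or.inr (Or.inl ⟨(hB hS hk).2 p1, (hne hk).2 p2⟩)
    · have hlt : oMul k openS < 83 := by
        have p1' := p1
        simp only [oB, oFus, Bool.and_eq_true, Nat.blt_eq] at p1'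
        exact p1'.1.2.1.1
      rw [hs, (oMul_facts hK hk hS).2.1 hlt]
      exact Or.inr (Or.inr ⟨(hB hS hlt).2 p1, (hne hlt).2 p2⟩)
  · have hFe : Commute f e := by
      have hm' := openSub_le hK.rels ((openSub_exact hK.rels).2 ⟨openF, fl, rfl⟩)
      have := congrArg (pr a b c) (Subgroup.mem_centralizer_singleton_iff.1 hm')
      rw [map_mul, map_mul, pr_mW] at this
      exact this
    refine ⟨pr_comm hK _, hFe, ((hFC hS).1 fS).symm, ?_, ?_⟩
    · have hok : ∀ j ∈ (List.replicate 5 (openSeq openF)).flatten, j < 4 := by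
        intro j hj
        simp only [List.mem_flatten, List.mem_replicate] at hj
        obtain ⟨_, ⟨-, rfl⟩, hj⟩ := hj
        exact fs1 j hj
      have e1 : base.map (openFold (List.replicate 5 (openSeq openF)).flatten) =
          kW (openWord (List.replicate 5 (openSeq openF)).flatten) :=
        List.map_congr_left fun p hp => openFold_eq hok (base_lt p hp)
      rw [beqL_iff, e1, ← kW_nil, ← mW_iff hK.rels (openWord_ok hok) (by simp), mW_nil'] at f5
      have e2 : f ^ 5 = pr a b c (mW a b c (openWord (List.replicate 5 (openSeq openF)).flatten)) := by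
        simp only [List.replicate, List.flatten_cons, List.flatten_nil, List.append_nil, openWord_append,
          mW_append, map_mul, hf, openEl, pow_succ, pow_zero, one_mul, mul_assoc]
      rw [e2, f5, map_one]
    · rw [Bool.not_eq_true', Bool.eq_false_iff] at fne
      intro h
      refine fne (beqL_iff.2 ?_)
      rw [← fs2, ← kW_nil, ← mW_iff hK.rels (openWord_ok fs1) (by simp), mW_nil']
      exact pr_inj hK (h.trans (map_one _).symm)
  · intro r hr hrs hrf
    obtain ⟨k, hk, rfl⟩ := exists_oG hK hr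
    have h := List.all_eq_true.1 fmid k (List.mem_range.2 hk)
    simp only [(oMul_facts hK hk hS).1.2 hrs, (hFC hk).2 hrf, Bool.and_self, Bool.not_true,
      Bool.false_or, Bool.or_eq_true, Nat.beq_eq] at h
    rcases h with (h | h) | h
    · exact Or.inl (by rw [h, oG_T hK])
    · exact Or.inr (Or.inl (by rw [h]))
    · exact Or.inr (Or.inr (by rw [hts, h]))
  · intro y hy hyt hyf
    obtain ⟨j, hj, rfl⟩ := exists_oG hK hy.1
    have h := List.all_eq_true.1 ffix j (by
      rw [oBs, List.mem_filter, List.mem_range, Bool.and_eq_true]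
      exact ⟨hj, (hB hS hj).1 hy, (hne hj).1 hyt⟩)
    rw [(hFC hj).2 hyf] at h
    exact absurd h (by decide)
  · refine ⟨oG a b c openInv, (hA hS fi).2 finv, ?_, ?_⟩
    · have hwi := openWord_ok (oSeq_ok fi)
      have hwf := openWord_ok fs1
      rw [beqL_iff, oKey, openKey_fold (oPos_lt fi) (fun j hj => by
          rcases List.mem_append.1 hj with hj | hj
          · rcases List.mem_append.1 hj with hj | hj
            exacts [fs1 j hj, oSeq_ok fi j hj]
          · exact fs1 j hj), openWord_append, openWord_append, ← kW_nil,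
        ← mW_iff hK.rels (ok_append (openWord_ok (openElem_facts (oPos_lt fi)).1)
          (ok_append (ok_append hwf hwi) hwf)) (by simp), mW_append,
        mW_append, mW_append, mW_nil'] at ffi
      have h' := congrArg (pr a b c) ffi
      rw [map_mul, map_mul, map_mul, map_one] at h'
      refine eq_inv_of_mul_eq_one_left ?_
      rw [← h', hf]
      simp only [oG, openEl, oSeq, mul_assoc]
    · rw [Nat.ble_eq] at fcnt
      rw [ncard_oG hK (p := fun y => oB openS y && oCm y openInv) (fun g hg => hg.1.1) fun i hi => by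
        rw [Bool.and_eq_true, hB hS hi, (oMul_facts hK hi fi).1]]
      exact fcnt
  · rw [← open_card hK.rels, ← Subgroup.card_map_of_injective (pr_inj hK)]
    refine Subgroup.card_dvd_of_le fun x hx => ?_
    obtain ⟨hxt, hxe, -⟩ := mem_cent_three.1 hx
    obtain ⟨m, rfl⟩ := exists_pr hK hxt.eq
    refine ⟨m, Subgroup.mem_centralizer_singleton_iff.2 (pr_inj hK ?_), rfl⟩
    rw [map_mul, map_mul, pr_mW]
    exact hxe.eq

end CfsgLib.HNRec.Fusion
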