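import Cfsg.Agent.Lib.HNRec.Fusion.SylowDefs

/-!
# The checks for the twisted variant
-/

set_option autoImplicit false
set_option maxRecDepth 100000

namespace CfsgLib.HNRec.Fusion

open CfsgLib.HNxyz CfsgLib.HNIndex

/-- The exponent sum of the third letter, modulo four. -/
def zc : List ℕ → ℕ
  | [] => 0
  | g :: w => ((if g = 4 then 1 else if g = 5 then 3 else 0) + zc w) % 4

/-- An element of the Sylow subgroup lies outside the index two subgroup. -/
def oddAt (i : ℕ) : Bool := Nat.beq (zc (sWord (seqAt i)) % 2) 1

/-- The number of roots in the twisted group. -/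
def twRoots (r : ℕ) : ℕ :=
  let k := kW (repW r)
  let k' := kW (repW r ++ [0, 0])
  ((List.range 2048).filter fun i => beqL (sqKey i) (if oddAt i then k' else k)).length

theorem tw_checks :
    ((List.range 2048).all fun i => !beqL (sqKey i) (kW (repW 0)) || !oddAt i) = true ∧
    twRoots 0 = 288 ∧ twRoots 1 = 96 ∧ twRoots 2 = 96 ∧
    (List.range 5).map (fun r => zc (repW r) % 2) = [0, 0, 0, 1, 1] := by
  decide +kernel

theorem zc_rels : ∀ w ∈ xyzRels, zc w = if w = [4, 4] ∨ w = [4, 0, 4, 0] then 2 else 0 := by
  decide +kernel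

end CfsgLib.HNRec.Fusion
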