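import Cfsg.Agent.Lib.HNRec.Fusion.Classes
import Cfsg.Agent.Lib.HNRec.Fusion.TwistChecks
import Mathlib.Algebra.Group.TypeTags.Basic

/-!
# The twisted variant is impossible

The product of the centraliser with a cyclic group of order four, modulo (t, 2), satisfies the
relations of x, y, z.  In the twisted centraliser all involutions lie in the index two subgroup, and
a Sylow subgroup has 288 roots of t against 96 of each other central involution: t is isolated.
-/

set_option autoImplicit false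
set_option maxRecDepth 100000
set_option linter.style.haveILetI false

namespace CfsgLib.HNRec.Fusion

open CfsgLib.HNxyz CfsgLib.HNIndex
open scoped Pointwise

variable {G : Type} [Group G] {t a b c : G}

theorem twist_le (hK : Twist t a b c) : ({a, b, c} : Set G) ⊆ Subgroup.centralizer ({t} : Set G) := by
  rw [hK.cent]; exact Subgroup.subset_closure

variable (t) in
/-- The centraliser. -/
abbrev Cn : Type := ↥(Subgroup.centralizer ({t} : Set G))

/-- The central involution inside the centraliser. -/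
def tC (t : G) : Cn t := ⟨t, Subgroup.mem_centralizer_singleton_iff.2 rfl⟩

/-- The pairs with the cyclic group of order four. -/
abbrev Pairs (t : G) : Type := Cn t × Multiplicative (ZMod 4)

/-- The kernel. -/
def nK (t : G) : Subgroup (Pairs t) := Subgroup.zpowers (tC t, Multiplicative.ofAdd 2)

theorem tC_comm (t : G) (x : Cn t) : x * tC t = tC t * x :=
  Subtype.ext (Subgroup.mem_centralizer_singleton_iff.1 x.2)

instance nK_normal (t : G) : (nK t).Normal := by
  refine ⟨fun n hn g => ?_⟩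
  have hc : ∀ m ∈ nK t, g * m = m * g := by
    intro m hm
    obtain ⟨i, rfl⟩ := Subgroup.mem_zpowers_iff.1 hm
    exact ((show Commute g (tC t, Multiplicative.ofAdd 2) from
      Prod.ext (tC_comm t g.1) (mul_comm _ _)).zpow_right i).eq
  rw [hc n hn, mul_inv_cancel_right]
  exact hn

/-- The untwisted group. -/
abbrev Ht (t : G) : Type := Pairs t ⧸ nK t

/-- The quotient map. -/
def mkH (t : G) : Pairs t →* Ht t := QuotientGroup.mk' (nK t)

/-- The embedding of the centraliser. -/
def iota (t : G) : Cn t →* Ht t := (mkH t).comp (MonoidHom.inl _ _)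

/-- The class of four modulo two. -/
def par2 : Multiplicative (ZMod 4) →* Multiplicative (ZMod 2) :=
  AddMonoidHom.toMultiplicative (ZMod.castHom (show 2 ∣ 4 by decide) (ZMod 2)).toAddMonoidHom

/-- The index two map. -/
def sideH (t : G) : Ht t →* Multiplicative (ZMod 2) :=
  QuotientGroup.lift (nK t) (par2.comp (MonoidHom.snd _ _)) (by
    rw [nK, Subgroup.zpowers_le]
    exact MonoidHom.mem_ker.2 (show par2 (Multiplicative.ofAdd 2) = 1 by decide))

theorem sideH_mk (p : Pairs t) : sideH t (mkH t p) = par2 p.2 := rfl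

theorem sq_tC (ht : t * t = 1) : tC t * tC t = 1 := Subtype.ext ht

theorem mkH_eq (ht : t * t = 1) {p q : Pairs t} (h : mkH t p = mkH t q) :
    q = p ∨ q = p * (tC t, Multiplicative.ofAdd 2) := by
  obtain ⟨i, hi⟩ := Subgroup.mem_zpowers_iff.1 (QuotientGroup.eq.1 h)
  have h2 : ((tC t, Multiplicative.ofAdd 2) : Pairs t) ^ (2 : ℤ) = 1 := by
    rw [zpow_two]
    exact Prod.ext (sq_tC ht) (show Multiplicative.ofAdd (2 : ZMod 4) * Multiplicative.ofAdd 2 = 1 by decide)
  have hq : q = p * ((tC t, Multiplicative.ofAdd 2) : Pairs t) ^ i := by rw [hi]; group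
  rcases Int.even_or_odd' i with ⟨k, rfl | rfl⟩
  · rw [zpow_mul, h2, one_zpow, mul_one] at hq; exact Or.inl hq
  · rw [zpow_add, zpow_mul, h2, one_zpow, one_mul, zpow_one] at hq; exact Or.inr hq

theorem iota_inj (ht : t * t = 1) : Function.Injective (iota t) := by
  intro x y h
  rcases mkH_eq ht (show mkH t (x, 1) = mkH t (y, 1) from h) with e | e
  · exact (congrArg Prod.fst e).symm
  · have := congrArg Prod.snd e
    exact absurd this (show (1 : Multiplicative (ZMod 4)) ≠ 1 * Multiplicative.ofAdd 2 by decide)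

/-- A twisted generator in the untwisted group. -/
def tw (hK : Twist t a b c) : Fin 3 → Pairs t
  | 0 => (⟨a, twist_le hK (Or.inl rfl)⟩, 1)
  | 1 => (⟨b, twist_le hK (Or.inr (Or.inl rfl))⟩, 1)
  | 2 => (⟨c, twist_le hK (Or.inr (Or.inr rfl))⟩, Multiplicative.ofAdd 1)

/-- The value of a word in the pairs. -/
def twP (hK : Twist t a b c) (w : List ℕ) : Pairs t :=
  evalW (elt (tw hK 0) (tw hK 1) (tw hK 2)) w

theorem evalW_z : ∀ w : List ℕ,
    evalW (elt (1 : Multiplicative (ZMod 4)) 1 (Multiplicative.ofAdd 1)) w =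
      Multiplicative.ofAdd ((zc w : ℕ) : ZMod 4)
  | [] => by simp [evalW_nil, zc]
  | g :: w => by
    have h1 : elt (1 : Multiplicative (ZMod 4)) 1 (Multiplicative.ofAdd 1) g =
        Multiplicative.ofAdd (((if g = 4 then 1 else if g = 5 then 3 else 0 : ℕ)) : ZMod 4) := by
      rcases g with _ | _ | _ | _ | _ | _ | g <;> simp [elt] <;> decide
    rw [evalW_cons, evalW_z w, h1, ← ofAdd_add, zc, ZMod.natCast_mod, Nat.cast_add]

theorem twP_fst (hK : Twist t a b c) (w : List ℕ) :
    ((twP hK w).1 : G) = evalW (elt a b c) w :=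
  map_evalW ((Subgroup.centralizer ({t} : Set G)).subtype.comp (MonoidHom.fst _ (Multiplicative (ZMod 4)))) _ _ _ w

theorem twP_snd (hK : Twist t a b c) (w : List ℕ) :
    (twP hK w).2 = Multiplicative.ofAdd ((zc w : ℕ) : ZMod 4) :=
  (map_evalW (MonoidHom.snd (Cn t) (Multiplicative (ZMod 4))) _ _ _ w).trans (evalW_z w)

/-- The three generators of the untwisted group. -/
def hA (hK : Twist t a b c) (i : Fin 3) : Ht t := mkH t (tw hK i)

theorem twist_sq (hK : Twist t a b c) : t * t = 1 := by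
  have h1 := hK.rels.2.2 [0, 0, 2, 0, 0, 3] (by decide) (by decide) (by decide)
  have h2 : c * c = t := hK.rels.1.trans hK.sq
  have h3 : c * a * (c * a) = t := hK.rels.2.1.trans hK.sq
  -- `c a c a = t = c c` gives `a c a = c`, so `c` inverts `a`
  have h4 : a * c * a = c := mul_left_cancel (a := c) (by rw [← h2] at h3; rw [← h3]; group)
  have h5 : c * t * c⁻¹ = t := by rw [← h2]; group
  have h7 : c⁻¹ * a * c = a⁻¹ := by
    calc c⁻¹ * a * c = c⁻¹ * (a * c * a) * a⁻¹ := by group
      _ = a⁻¹ := by rw [h4]; group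
  have h8 : t = a⁻¹ * a⁻¹ := by
    calc t = c⁻¹ * t * c := by rw [← h2]; group
      _ = (c⁻¹ * a * c) * (c⁻¹ * a * c) := by rw [← hK.sq]; group
      _ = a⁻¹ * a⁻¹ := by rw [h7]
  calc t * t = (a⁻¹ * a⁻¹) * t := by rw [← h8]
    _ = 1 := by rw [← hK.sq]; group

theorem hA_rels (hK : Twist t a b c) : XYZRels (hA hK 0) (hA hK 1) (hA hK 2) := by
  intro w hw
  rw [show evalW (elt (hA hK 0) (hA hK 1) (hA hK 2)) w = mkH t (twP hK w) from
    (map_evalW (mkH t) _ _ _ w).symm]
  show QuotientGroup.mk' (nK t) (twP hK w) = 1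
  rw [QuotientGroup.mk'_apply, QuotientGroup.eq_one_iff]
  have h1 := twP_fst hK w
  have h2 := twP_snd hK w
  rw [zc_rels w hw] at h2
  by_cases hs : w = [4, 4] ∨ w = [4, 0, 4, 0]
  · have hval : evalW (elt a b c) w = t := by
      rcases hs with rfl | rfl
      · simpa [evalW, elt] using hK.rels.1.trans hK.sq
      · simpa [evalW, elt, mul_assoc] using hK.rels.2.1.trans hK.sq
    rw [if_pos hs] at h2
    rw [show twP hK w = (tC t, Multiplicative.ofAdd 2) from
      Prod.ext (Subtype.ext (h1.trans hval)) (h2.trans (by rfl))]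
    exact Subgroup.mem_zpowers _
  · rw [if_neg hs] at h2
    push Not at hs
    rw [show twP hK w = 1 from
      Prod.ext (Subtype.ext (h1.trans (hK.rels.2.2 w hw hs.1 hs.2))) (h2.trans (by rfl))]
    exact one_mem _

/-- The group of triples of the untwisted group. -/
abbrev Mt (hK : Twist t a b c) : Type := Mg (hA hK 0) (hA hK 1) (hA hK 2)

/-- Its map to the untwisted group. -/
noncomputable abbrev prT (hK : Twist t a b c) : Mt hK →* Ht t := pr (hA hK 0) (hA hK 1) (hA hK 2)

theorem prT_mW (hK : Twist t a b c) (w : List ℕ) :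
    prT hK (mW (hA hK 0) (hA hK 1) (hA hK 2) w) = mkH t (twP hK w) :=
  (pr_mW w).trans (map_evalW (mkH t) _ _ _ w).symm

theorem iota_tC (hK : Twist t a b c) :
    iota t (tC t) = prT hK (rep (hA hK 0) (hA hK 1) (hA hK 2) 0) := by
  rw [rep_zero (hA_rels hK), prT_mW]
  show mkH t (tC t, 1) = _
  congr 1
  refine Prod.ext (Subtype.ext ?_) ?_
  · rw [twP_fst, evalW_cons, evalW_cons, evalW_nil, mul_one]; exact hK.sq.symm
  · rw [twP_snd]; rfl

theorem prT_inj (hK : Twist t a b c) : Function.Injective (prT hK) := by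
  refine pr_inj_of (hA_rels hK) fun e => ?_
  have e' : iota t (tC t) = iota t 1 := by
    rw [map_one, iota_tC hK, rep_zero (hA_rels hK), pr_mW, evalW_cons, evalW_cons, evalW_nil, mul_one]
    exact e
  exact hK.ne (congrArg Subtype.val (iota_inj (twist_sq hK) e'))

theorem sideH_prT (hK : Twist t a b c) (w : List ℕ) :
    sideH t (prT hK (mW (hA hK 0) (hA hK 1) (hA hK 2) w)) =
      if zc w % 2 = 1 then Multiplicative.ofAdd 1 else 1 := by
  rw [prT_mW, sideH_mk, twP_snd]
  have : ∀ n < 4, par2 (Multiplicative.ofAdd ((n : ℕ) : ZMod 4)) =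
      if n % 2 = 1 then Multiplicative.ofAdd (1 : ZMod 2) else 1 := by decide
  refine this _ ?_
  cases w with
  | nil => simp [zc]
  | cons g w => exact Nat.mod_lt _ (by norm_num)

theorem exists_word (hK : Twist t a b c) (x : Cn t) : ∃ m : Mt hK, ∃ j, prT hK m = mkH t (x, j) := by
  obtain ⟨x, hx⟩ := x
  have hx' : x ∈ Subgroup.closure ({a, b, c} : Set G) := hK.cent ▸ hx
  refine Subgroup.closure_induction (p := fun y _ => ∀ hy, ∃ m : Mt hK, ∃ j, prT hK m = mkH t (⟨y, hy⟩, j))
    ?_ ?_ ?_ ?_ hx' hx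
  · intro y hy hy'
    rcases hy with rfl | rfl | rfl
    · exact ⟨mA _ _ _, (tw hK 0).2, rfl⟩
    · exact ⟨mB _ _ _, (tw hK 1).2, rfl⟩
    · exact ⟨mC _ _ _, (tw hK 2).2, rfl⟩
  · exact fun hy => ⟨1, 1, by rw [map_one]; exact (map_one (mkH t)).symm⟩
  · intro y z hy hz ihy ihz hyz
    obtain ⟨m, j, hm⟩ := ihy (hK.cent ▸ hy)
    obtain ⟨n, k, hn⟩ := ihz (hK.cent ▸ hz)
    exact ⟨m * n, j * k, by rw [map_mul, hm, hn, ← map_mul]; rfl⟩
  · intro y hy ih hy'
    obtain ⟨m, j, hm⟩ := ih (hK.cent ▸ hy)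
    exact ⟨m⁻¹, j⁻¹, by rw [map_inv, hm, ← map_inv]; rfl⟩

/-- Every element of the centraliser lands in the group of triples. -/
theorem exists_iota (hK : Twist t a b c) (x : Cn t) :
    ∃ m : Mt hK, ∃ j, prT hK m = mkH t (x, j) ∧
      (j = 1 ∨ j = Multiplicative.ofAdd 1) := by
  obtain ⟨m, j, hm⟩ := exists_word hK x
  obtain ⟨n, k, hn⟩ : ∃ n : Mt hK, ∃ k, prT hK n = mkH t ((1 : Cn t), k) ∧ k = Multiplicative.ofAdd 2 := by
    refine ⟨rep _ _ _ 0, _, ?_, rfl⟩
    rw [← iota_tC hK]
    show mkH t (tC t, 1) = mkH t (1, Multiplicative.ofAdd 2)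
    refine QuotientGroup.eq.2 ?_
    have : ((tC t, 1) : Pairs t)⁻¹ * (1, Multiplicative.ofAdd 2) = (tC t, Multiplicative.ofAdd 2) :=
      Prod.ext (by simp [inv_eq_of_mul_eq_one_right (sq_tC (twist_sq hK))]) (by simp)
    rw [this]; exact Subgroup.mem_zpowers _
  have : ∀ j : Multiplicative (ZMod 4), j = 1 ∨ j = Multiplicative.ofAdd 1 ∨
      j * Multiplicative.ofAdd 2 = 1 ∨ j * Multiplicative.ofAdd 2 = Multiplicative.ofAdd 1 := by decide
  rcases this j with rfl | rfl | e | e
  · exact ⟨m, 1, hm, Or.inl rfl⟩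
  · exact ⟨m, _, hm, Or.inr rfl⟩
  · exact ⟨m * n, 1, by rw [map_mul, hm, hn.1, hn.2, ← map_mul, Prod.mk_mul_mk, mul_one, e], Or.inl rfl⟩
  · exact ⟨m * n, _, by rw [map_mul, hm, hn.1, hn.2, ← map_mul, Prod.mk_mul_mk, mul_one, e], Or.inr rfl⟩

/-- A squared pair. -/
theorem sq_pair (hK : Twist t a b c) (x : Cn t) {j : Multiplicative (ZMod 4)}
    (hj : j = 1 ∨ j = Multiplicative.ofAdd 1) :
    mkH t (x, j) * mkH t (x, j) = if j = 1 then iota t (x * x) else iota t (x * x) * iota t (tC t) := by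
  rw [← map_mul, Prod.mk_mul_mk]
  rcases hj with rfl | rfl
  · rfl
  · rw [if_neg (by decide), ← map_mul (iota t)]
    show mkH t _ = mkH t (x * x * tC t, 1)
    refine QuotientGroup.eq.2 ?_
    refine Subgroup.mem_zpowers_iff.2 ⟨1, ?_⟩
    rw [zpow_one]
    refine Prod.ext (show tC t = (x * x)⁻¹ * (x * x * tC t) by group) ?_
    show Multiplicative.ofAdd (2 : ZMod 4) =
      (Multiplicative.ofAdd (1 : ZMod 4) * Multiplicative.ofAdd 1)⁻¹ * 1
    decide

/-- An involution of the twisted centraliser other than `t` goes to one of two representatives. -/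
theorem class_of_invol (hK : Twist t a b c) {x : Cn t} (h1 : x ≠ 1) (h2 : x * x = 1) (hxt : x ≠ tC t) :
    ∃ g : Cn t, ∃ r ∈ ([1, 2] : List ℕ), iota t (g * x * g⁻¹) = prT hK (rep _ _ _ r) := by
  have hR := hA_rels hK
  haveI := m_finite hR
  obtain ⟨m, j, hm, hj⟩ := exists_iota hK x
  have hinj := prT_inj hK
  have hmsq : prT hK (m * m) = if j = 1 then 1 else iota t (tC t) := by
    rw [map_mul, hm, sq_pair hK x hj, h2, map_one, one_mul]
  rcases hj with rfl | rfl
  · rw [if_pos rfl] at hmsq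
    have hm1 : m ≠ 1 := fun e => h1 <| iota_inj (twist_sq hK) (by
      rw [map_one, ← map_one (prT hK), ← e, hm]; rfl)
    obtain ⟨r, hr, g, hg⟩ := exists_rep hR hm1 (hinj (by rw [hmsq, map_one]))
    obtain ⟨n, i, hn, -⟩ : ∃ n : Cn t, ∃ i, prT hK g = mkH t (n, i) ∧ True := by
      obtain ⟨⟨n, i⟩, e⟩ := QuotientGroup.mk'_surjective (nK t) (prT hK g)
      exact ⟨n, i, e.symm, trivial⟩
    have hconj : iota t (n * x * n⁻¹) = prT hK (rep _ _ _ r) := by
      rw [← hg, map_mul (prT hK), map_mul (prT hK), map_inv (prT hK), hn, hm, ← map_inv (mkH t), ← map_mul (mkH t), ← map_mul (mkH t)]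
      show mkH t (n * x * n⁻¹, 1) = _
      congr 1
      exact Prod.ext rfl (show (1 : Multiplicative (ZMod 4)) = i * 1 * i⁻¹ by simp)
    have hside : sideH t (iota t (n * x * n⁻¹)) = 1 := rfl
    have hrk : r < 3 := by
      rw [hconj, rep, sideH_prT] at hside
      have h5 := congrArg (fun l : List ℕ => l.getD r 0) tw_checks.2.2.2.2
      interval_cases r <;> simp_all <;> exact absurd hside (by decide)
    refine ⟨n, r, ?_, hconj⟩
    interval_cases r
    · exfalso
      rw [← iota_tC hK] at hconj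
      refine hxt ?_
      calc x = n⁻¹ * (n * x * n⁻¹) * n := by group
        _ = n⁻¹ * (tC t * n) := by rw [iota_inj (twist_sq hK) hconj, mul_assoc]
        _ = tC t := by rw [← tC_comm]; group
    · simp
    · simp
  · exfalso
    rw [if_neg (by decide), iota_tC hK] at hmsq
    have hm2 : m * m = rep _ _ _ 0 := hinj hmsq
    have hside : sideH t (prT hK m) ≠ 1 := by
      rw [hm, sideH_mk]; exact show par2 (Multiplicative.ofAdd 1) ≠ 1 by decide
    -- conjugate into the Sylow subgroup
    haveI : Fact (Nat.Prime 2) := ⟨Nat.prime_two⟩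
    have h4 : m ^ 4 = 1 := by
      have : rep (hA hK 0) (hA hK 1) (hA hK 2) 0 * rep _ _ _ 0 = 1 := hinj (by
        rw [map_mul, ← iota_tC hK, ← map_mul, sq_tC (twist_sq hK), map_one, map_one])
      rw [show m ^ 4 = (m * m) * (m * m) by simp only [pow_succ, pow_zero, one_mul, mul_assoc], hm2, this]
    have hp : IsPGroup 2 (Subgroup.zpowers m) := by
      intro y
      obtain ⟨k, hk⟩ := Subgroup.mem_zpowers_iff.1 y.2
      refine ⟨2, Subtype.ext ?_⟩
      show (y : Mt hK) ^ 4 = 1
      rw [← hk, ← zpow_natCast, ← zpow_mul, mul_comm, zpow_mul, zpow_natCast, h4, one_zpow]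
    obtain ⟨Q, hQ⟩ := hp.exists_le_sylow
    obtain ⟨g, hg⟩ := MulAction.exists_smul_eq (Mt hK) Q (sylow hR)
    have hs : g * m * g⁻¹ ∈ syl _ _ _ := by
      have : MulAut.conj g • m ∈ MulAut.conj g • (Q : Subgroup (Mt hK)) :=
        Subgroup.smul_mem_pointwise_smul _ _ _ (hQ (Subgroup.mem_zpowers m))
      rw [← Sylow.pointwise_smul_def, ← Sylow.smul_def, hg] at this
      exact this
    obtain ⟨i, hi, e⟩ := (syl_exact hR).1 hs
    have hii : el _ _ _ i * el (hA hK 0) (hA hK 1) (hA hK 2) i = mW _ _ _ (repW 0) := by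
      rw [e, show g * m * g⁻¹ * (g * m * g⁻¹) = g * (m * m) * g⁻¹ by group, hm2]
      refine hinj ?_
      rw [map_mul, map_mul, map_inv]
      show _ = prT hK (rep _ _ _ 0)
      rw [← iota_tC hK]
      obtain ⟨⟨n, k⟩, e'⟩ := QuotientGroup.mk'_surjective (nK t) (prT hK g)
      rw [← e', iota, MonoidHom.comp_apply, ← mkH, ← map_inv, ← map_mul, ← map_mul]
      congr 1
      refine Prod.ext ?_ ?_
      · show n * tC t * n⁻¹ = tC t
        rw [tC_comm, mul_inv_cancel_right]
      · show k * 1 * k⁻¹ = 1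
        simp
    have hk := (sq_eq_iff hR hi (rep_ok (show 0 < 5 by decide))).1 hii
    have hpar := List.all_eq_true.1 tw_checks.1 i (List.mem_range.2 hi)
    rw [beqL_iff.2 hk, Bool.not_true, Bool.false_or, Bool.not_eq_true'] at hpar
    refine hside ?_
    have e2 : sideH t (prT hK (el _ _ _ i)) = sideH t (prT hK m) := by
      rw [e, map_mul, map_mul, map_inv, map_mul, map_mul, map_inv, mul_comm (sideH t (prT hK g)),
        mul_inv_cancel_right]
    rw [← e2, el, sideH_prT, if_neg]
    intro hodd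
    rw [oddAt, hodd] at hpar
    exact absurd hpar (by decide)

theorem nat_sq_key {hK : Twist t a b c} {i : ℕ} (hi : i < 2048) :
    (sideH t (prT hK (el _ _ _ i)) = 1) ↔ oddAt i = false := by
  rw [el, sideH_prT, oddAt]
  by_cases h : zc (sWord (seqAt i)) % 2 = 1
  · rw [if_pos h, h]; decide
  · rw [if_neg h]
    simp only [true_iff]
    rw [← Bool.not_eq_true]
    exact fun e => h (Nat.eq_of_beq_eq_true e)

/-- The first component of a pair with second component 1 or a generator is determined. -/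
theorem pair_unique (hK : Twist t a b c) {x y : Cn t} {i j : Multiplicative (ZMod 4)}
    (hi : i = 1 ∨ i = Multiplicative.ofAdd 1) (hj : j = 1 ∨ j = Multiplicative.ofAdd 1)
    (h : mkH t (x, i) = mkH t (y, j)) : x = y ∧ i = j := by
  rcases mkH_eq (twist_sq hK) h with e | e
  · exact ⟨(congrArg Prod.fst e).symm, (congrArg Prod.snd e).symm⟩
  · have e2 : j = i * Multiplicative.ofAdd 2 := congrArg Prod.snd e
    rcases hi with rfl | rfl <;> rcases hj with rfl | rfl <;> exact absurd e2 (by decide)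

/-- The Sylow subgroup of the twisted centraliser. -/
noncomputable def sylT (hK : Twist t a b c) : Subgroup (Cn t) :=
  (((syl _ _ _).map (prT hK)).comap (mkH t)).map (MonoidHom.fst (Cn t) (Multiplicative (ZMod 4)))

theorem mem_sylT (hK : Twist t a b c) {x : Cn t} :
    x ∈ sylT hK ↔ ∃ m ∈ syl _ _ _, ∃ j, prT hK m = mkH t (x, j) := by
  constructor
  · rintro ⟨⟨y, j⟩, ⟨m, hm, e⟩, rfl⟩; exact ⟨m, hm, j, e⟩
  · rintro ⟨m, hm, j, e⟩; exact ⟨(x, j), ⟨m, hm, e⟩, rfl⟩

theorem canon (hK : Twist t a b c) (m : Mt hK) :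
    ∃ x : Cn t, ∃ j, prT hK m = mkH t (x, j) ∧ (j = 1 ∨ j = Multiplicative.ofAdd 1) := by
  obtain ⟨⟨x, j⟩, e⟩ := QuotientGroup.mk'_surjective (nK t) (prT hK m)
  have hN : mkH t (tC t, Multiplicative.ofAdd 2) = 1 :=
    (QuotientGroup.eq_one_iff _).2 (Subgroup.mem_zpowers _)
  have : ∀ j : Multiplicative (ZMod 4), j = 1 ∨ j = Multiplicative.ofAdd 1 ∨
      j * Multiplicative.ofAdd 2 = 1 ∨ j * Multiplicative.ofAdd 2 = Multiplicative.ofAdd 1 := by decide
  rcases this j with rfl | rfl | e' | e'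
  · exact ⟨x, 1, e.symm, Or.inl rfl⟩
  · exact ⟨x, _, e.symm, Or.inr rfl⟩
  all_goals
    refine ⟨x * tC t, j * Multiplicative.ofAdd 2, ?_, ?_⟩
    · rw [← e, ← Prod.mk_mul_mk, map_mul, hN, mul_one]; rfl
    · first | exact Or.inl e' | exact Or.inr e'

/-- The element of the twisted group of a Sylow element. -/
noncomputable def down (hK : Twist t a b c) (m : Mt hK) : Cn t := Classical.choose (canon hK m)

theorem down_spec (hK : Twist t a b c) (m : Mt hK) :
    ∃ j, prT hK m = mkH t (down hK m, j) ∧ (j = 1 ∨ j = Multiplicative.ofAdd 1) :=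
  Classical.choose_spec (canon hK m)

theorem rep_zero_mem (hK : Twist t a b c) :
    rep (hA hK 0) (hA hK 1) (hA hK 2) 0 ∈ syl _ _ _ := by
  haveI := m_finite (hA_rels hK)
  haveI : Fact (Nat.Prime 2) := ⟨Nat.prime_two⟩
  -- a central involution lies in every Sylow 2-subgroup
  set T := rep (hA hK 0) (hA hK 1) (hA hK 2) 0
  have hT2 : T * T = 1 := prT_inj hK (by
    rw [map_mul, ← iota_tC hK, ← map_mul, sq_tC (twist_sq hK), map_one, map_one])
  have hT1 : T ≠ 1 := fun e => hK.ne (congrArg Subtype.val (iota_inj (twist_sq hK) (a₁ := tC t)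
    (a₂ := 1) (by rw [iota_tC hK, map_one, ← map_one (prT hK)]; exact congrArg (prT hK) e)))
  have hp : IsPGroup 2 (Subgroup.zpowers T) :=
    IsPGroup.of_card (n := 1) (by rw [Nat.card_zpowers, orderOf_eq_prime (by rw [pow_two, hT2]) hT1, pow_one])
  obtain ⟨Q, hQ⟩ := hp.exists_le_sylow
  obtain ⟨g, hg⟩ := MulAction.exists_smul_eq (Mt hK) Q (sylow (hA_rels hK))
  have : MulAut.conj g • T ∈ MulAut.conj g • (Q : Subgroup (Mt hK)) :=
    Subgroup.smul_mem_pointwise_smul _ _ _ (hQ (Subgroup.mem_zpowers _))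
  rw [← Sylow.pointwise_smul_def, ← Sylow.smul_def, hg] at this
  have e : MulAut.conj g • T = T := by
    show g * T * g⁻¹ = T
    refine prT_inj hK ?_
    rw [map_mul, map_mul, map_inv]
    obtain ⟨⟨n, k⟩, e'⟩ := QuotientGroup.mk'_surjective (nK t) (prT hK g)
    rw [← iota_tC hK, ← e', iota, MonoidHom.comp_apply, ← mkH, ← map_inv, ← map_mul, ← map_mul]
    congr 1
    refine Prod.ext ?_ ?_
    · show n * tC t * n⁻¹ = tC t
      rw [tC_comm, mul_inv_cancel_right]
    · show k * 1 * k⁻¹ = 1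
      simp
  rwa [e] at this

theorem no_odd_kernel (hK : Twist t a b c) {m : Mt hK} (hm : m ∈ syl _ _ _)
    (h : prT hK m = mkH t (1, Multiplicative.ofAdd 1)) : False := by
  have hR := hA_rels hK
  obtain ⟨i, hi, rfl⟩ := (syl_exact hR).1 hm
  have hsq : el _ _ _ i * el (hA hK 0) (hA hK 1) (hA hK 2) i = mW _ _ _ (repW 0) := prT_inj hK (by
    show _ = prT hK (rep _ _ _ 0)
    rw [map_mul, h, sq_pair hK 1 (Or.inr rfl), if_neg (by decide), ← iota_tC hK]; simp)
  have hk := (sq_eq_iff hR hi (rep_ok (show 0 < 5 by decide))).1 hsq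
  have hpar := List.all_eq_true.1 tw_checks.1 i (List.mem_range.2 hi)
  rw [beqL_iff.2 hk, Bool.not_true, Bool.false_or, Bool.not_eq_true'] at hpar
  have := (nat_sq_key (hK := hK) hi).2 hpar
  rw [h, sideH_mk] at this
  exact absurd this (show par2 (Multiplicative.ofAdd 1) ≠ 1 by decide)

/-- The Sylow elements and their twisted counterparts. -/
noncomputable def sylTEquiv (hK : Twist t a b c) : syl (hA hK 0) (hA hK 1) (hA hK 2) ≃ sylT hK := by
  refine Equiv.ofBijective (fun m => ⟨down hK m.1, ?_⟩) ⟨?_, ?_⟩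
  · obtain ⟨j, hj, -⟩ := down_spec hK m.1
    exact (mem_sylT hK).2 ⟨m.1, m.2, j, hj⟩
  · intro m n e
    obtain ⟨i, hi, hi'⟩ := down_spec hK m.1
    obtain ⟨j, hj, hj'⟩ := down_spec hK n.1
    have e' : down hK m.1 = down hK n.1 := congrArg Subtype.val e
    rw [← e'] at hj
    rcases hi' with rfl | rfl <;> rcases hj' with rfl | rfl
    · exact Subtype.ext (prT_inj hK (hi.trans hj.symm))
    · exact (no_odd_kernel hK (mul_mem (inv_mem m.2) n.2) (by
        rw [map_mul, map_inv, hi, hj, ← map_inv, ← map_mul]; congr 1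
        exact Prod.ext (inv_mul_cancel _) (by show _⁻¹ * _ = _; simp))).elim
    · exact (no_odd_kernel hK (mul_mem (inv_mem n.2) m.2) (by
        rw [map_mul, map_inv, hi, hj, ← map_inv, ← map_mul]; congr 1
        exact Prod.ext (inv_mul_cancel _) (by show _⁻¹ * _ = _; simp))).elim
    · exact Subtype.ext (prT_inj hK (hi.trans hj.symm))
  · rintro ⟨x, hx⟩
    obtain ⟨m, hm, j, hj⟩ := (mem_sylT hK).1 hx
    have hN : mkH t ((tC t, Multiplicative.ofAdd 2) : Pairs t) = 1 :=
      (QuotientGroup.eq_one_iff _).2 (Subgroup.mem_zpowers _)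
    have hT : prT hK (rep _ _ _ 0) = mkH t ((1 : Cn t), Multiplicative.ofAdd 2) := by
      rw [← iota_tC hK]
      show mkH t (tC t, 1) = _
      rw [← mul_one (mkH t (tC t, (1 : Multiplicative (ZMod 4)))), ← hN, ← map_mul, Prod.mk_mul_mk,
        sq_tC (twist_sq hK), one_mul]
    have : ∀ j : Multiplicative (ZMod 4), j = 1 ∨ j = Multiplicative.ofAdd 1 ∨
        j * Multiplicative.ofAdd 2 = 1 ∨ j * Multiplicative.ofAdd 2 = Multiplicative.ofAdd 1 := by decide
    obtain ⟨m', hm', j', hj', hj''⟩ : ∃ m' ∈ syl _ _ _, ∃ j', prT hK m' = mkH t (x, j') ∧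
        (j' = 1 ∨ j' = Multiplicative.ofAdd 1) := by
      rcases this j with rfl | rfl | e | e
      · exact ⟨m, hm, 1, hj, Or.inl rfl⟩
      · exact ⟨m, hm, _, hj, Or.inr rfl⟩
      · exact ⟨m * rep _ _ _ 0, mul_mem hm (rep_zero_mem hK), 1,
          by rw [map_mul, hj, hT, ← map_mul, Prod.mk_mul_mk, mul_one, e], Or.inl rfl⟩
      · exact ⟨m * rep _ _ _ 0, mul_mem hm (rep_zero_mem hK), _,
          by rw [map_mul, hj, hT, ← map_mul, Prod.mk_mul_mk, mul_one, e], Or.inr rfl⟩
    refine ⟨⟨m', hm'⟩, Subtype.ext ?_⟩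
    obtain ⟨i, hi, hi'⟩ := down_spec hK m'
    exact (pair_unique hK hi' hj'' (hi.symm.trans hj')).1

theorem card_sylT (hK : Twist t a b c) : Nat.card (sylT hK) = 2 ^ 11 := by
  rw [← Nat.card_congr (sylTEquiv hK), card_syl (hA_rels hK)]

theorem roots_sylT (hK : Twist t a b c) {r : ℕ} (hr : r < 3) {v : Cn t}
    (hv : iota t v = prT hK (rep _ _ _ r)) :
    Nat.card {x : sylT hK // (x : Cn t) * x = v} = twRoots r := by
  classical
  have hR := hA_rels hK
  have hTw : ∀ g ∈ repW r ++ [0, 0], g < 6 := ok_append (rep_ok (by omega)) (by decide)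
  let e : Fin 2048 ≃ sylT hK := (elEquiv hR).trans (sylTEquiv hK)
  have key : ∀ i : Fin 2048, beqL (sqKey i) (if oddAt i then kW (repW r ++ [0, 0]) else kW (repW r)) = true ↔
      ((e i : sylT hK) : Cn t) * e i = v := by
    intro i
    show _ ↔ down hK (el _ _ _ i) * down hK (el _ _ _ i) = v
    obtain ⟨j, hj, hj'⟩ := down_spec hK (el _ _ _ i)
    have hs : prT hK (el _ _ _ i * el _ _ _ i) = if j = 1 then iota t (down hK (el _ _ _ i) * down hK (el _ _ _ i))
        else iota t (down hK (el _ _ _ i) * down hK (el _ _ _ i)) * iota t (tC t) := by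
      rw [map_mul, hj, sq_pair hK _ hj']
    have hpar : j = 1 ↔ oddAt i = false := by
      rw [← nat_sq_key (hK := hK) i.2, hj, sideH_mk]
      rcases hj' with rfl | rfl
      · simp
      · simp only [show par2 (Multiplicative.ofAdd (1 : ZMod 4)) ≠ 1 by decide, iff_false]; decide
    rw [beqL_iff]
    by_cases ho : j = 1
    · rw [if_pos ho] at hs
      rw [hpar.1 ho, if_neg (by decide), ← sq_eq_iff hR i.2 (rep_ok (by omega))]
      constructor
      · intro h; exact iota_inj (twist_sq hK) (by rw [← hs, h, hv]; rfl)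
      · intro h; exact prT_inj hK (by rw [hs, h, hv]; rfl)
    · rw [if_neg ho] at hs
      have hodd : oddAt i = true := by
        rcases Bool.eq_false_or_eq_true (oddAt i) with h | h
        · exact h
        · exact absurd (hpar.2 h) ho
      rw [hodd, if_pos rfl, ← sq_eq_iff hR i.2 hTw, mW_append, ← rep_zero hR]
      change el _ _ _ i * el _ _ _ i = rep _ _ _ r * rep _ _ _ 0 ↔ _
      constructor
      · intro h
        refine iota_inj (twist_sq hK) ?_
        rw [h, map_mul, ← hv, ← iota_tC hK] at hs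
        exact (mul_right_cancel hs).symm
      · intro h
        refine prT_inj hK ?_
        rw [hs, h, map_mul, ← hv, ← iota_tC hK]
  rw [← Nat.card_congr (e.subtypeEquiv key), Nat.card_eq_fintype_card, Fintype.card_subtype, twRoots,
    ← List.toFinset_card_of_nodup ((List.nodup_range (n := 2048)).filter _)]
  refine Finset.card_bij (fun i _ => (i : ℕ)) ?_ (fun i _ j _ e => Fin.ext e) ?_
  · intro i hi
    simp only [List.mem_toFinset, List.mem_filter, List.mem_range]
    exact ⟨i.2, (Finset.mem_filter.1 hi).2⟩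
  · intro n hn
    simp only [List.mem_toFinset, List.mem_filter, List.mem_range] at hn
    exact ⟨⟨n, hn.1⟩, Finset.mem_filter.2 ⟨Finset.mem_univ _, hn.2⟩, rfl⟩

theorem rep_commute_sylT (hK : Twist t a b c) {r : ℕ} (hr : r < 3) {v : Cn t}
    (hv : iota t v = prT hK (rep _ _ _ r)) {x : Cn t} (hx : x ∈ sylT hK) : x * v = v * x := by
  obtain ⟨m, hm, j, hj⟩ := (mem_sylT hK).1 hx
  have h := congrArg (prT hK) (rep_central (hA_rels hK) hr hm).eq
  rw [map_mul, map_mul, ← hv, hj] at h
  change mkH t (v, 1) * mkH t (x, j) = mkH t (x, j) * mkH t (v, 1) at h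
  rw [← map_mul, ← map_mul, Prod.mk_mul_mk, Prod.mk_mul_mk, one_mul, mul_one] at h
  rcases mkH_eq (twist_sq hK) h with e | e
  · exact congrArg Prod.fst e
  · have e2 : j = j * Multiplicative.ofAdd 2 := congrArg Prod.snd e
    exact absurd (left_eq_mul.1 e2) (by decide)

/-- No element of the group of triples goes to an odd pair over the identity. -/
theorem odd_kernel_any (hK : Twist t a b c) {m : Mt hK}
    (h : prT hK m = mkH t (1, Multiplicative.ofAdd 1)) : False := by
  have hR := hA_rels hK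
  haveI := m_finite hR
  haveI : Fact (Nat.Prime 2) := ⟨Nat.prime_two⟩
  have h4 : m ^ 4 = 1 := prT_inj hK (by
    rw [map_pow (prT hK), h, ← map_pow (mkH t),
      show ((1, Multiplicative.ofAdd 1) : Pairs t) ^ 4 = 1 from
        Prod.ext (one_pow _) (show Multiplicative.ofAdd (1 : ZMod 4) ^ 4 = 1 by decide), map_one,
      map_one])
  have hp : IsPGroup 2 (Subgroup.zpowers m) := by
    intro y
    obtain ⟨k, hk⟩ := Subgroup.mem_zpowers_iff.1 y.2
    refine ⟨2, Subtype.ext ?_⟩
    show (y : Mt hK) ^ 4 = 1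
    rw [← hk, ← zpow_natCast, ← zpow_mul, mul_comm, zpow_mul, zpow_natCast, h4, one_zpow]
  obtain ⟨Q, hQ⟩ := hp.exists_le_sylow
  obtain ⟨g, hg⟩ := MulAction.exists_smul_eq (Mt hK) Q (sylow hR)
  have hs : MulAut.conj g • m ∈ MulAut.conj g • (Q : Subgroup (Mt hK)) :=
    Subgroup.smul_mem_pointwise_smul _ _ _ (hQ (Subgroup.mem_zpowers m))
  rw [← Sylow.pointwise_smul_def, ← Sylow.smul_def, hg] at hs
  refine no_odd_kernel hK (m := g * m * g⁻¹) hs ?_
  obtain ⟨⟨n, k⟩, e'⟩ := QuotientGroup.mk'_surjective (nK t) (prT hK g)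
  rw [map_mul, map_mul, map_inv, h, ← e', ← mkH, ← map_inv, ← map_mul, ← map_mul]
  congr 1
  refine Prod.ext ?_ ?_
  · show n * 1 * n⁻¹ = 1
    group
  · show k * _ * k⁻¹ = _
    simp

/-- The order of the twisted centraliser. -/
theorem card_Cn [Finite G] (hK : Twist t a b c) : Nat.card (Cn t) = 177408000 := by
  have hR := hA_rels hK
  rw [← m_card hR]
  refine (Nat.card_congr (Equiv.ofBijective (down hK) ⟨?_, ?_⟩)).symm
  · intro m n e
    obtain ⟨i, hi, hi'⟩ := down_spec hK m
    obtain ⟨j, hj, hj'⟩ := down_spec hK n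
    rw [← e] at hj
    rcases hi' with rfl | rfl <;> rcases hj' with rfl | rfl
    · exact prT_inj hK (hi.trans hj.symm)
    all_goals first | exact prT_inj hK (hi.trans hj.symm) | skip
    all_goals exfalso
    · have hq : prT hK (m⁻¹ * n) = mkH t (1, Multiplicative.ofAdd 1) := by
        rw [map_mul, map_inv, hi, hj, ← map_inv, ← map_mul]; congr 1
        exact Prod.ext (inv_mul_cancel _) (by show _⁻¹ * _ = _; simp)
      exact odd_kernel_any hK hq
    · have hq : prT hK (n⁻¹ * m) = mkH t (1, Multiplicative.ofAdd 1) := by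
        rw [map_mul, map_inv, hi, hj, ← map_inv, ← map_mul]; congr 1
        exact Prod.ext (inv_mul_cancel _) (by show _⁻¹ * _ = _; simp)
      exact odd_kernel_any hK hq
  · intro x
    obtain ⟨m, j, hm, hj⟩ := exists_iota hK x
    obtain ⟨i, hi, hi'⟩ := down_spec hK m
    exact ⟨m, (pair_unique hK hi' hj (hi.symm.trans hm)).1⟩

/-- The twisted variant has no commuting conjugate of `t` other than `t`. -/
theorem twist_false_of_pair [Finite G] (hK : Twist t a b c)
    (hp : ∃ g : G, Commute t (g * t * g⁻¹) ∧ g * t * g⁻¹ ≠ t) : False := by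
  classical
  obtain ⟨g, hg, hne⟩ := hp
  have hR := hA_rels hK
  haveI := m_finite hR
  haveI : Fact (Nat.Prime 2) := ⟨Nat.prime_two⟩
  have htt := twist_sq hK
  have hcard := card_Cn hK
  set s : Cn t := ⟨g * t * g⁻¹, Subgroup.mem_centralizer_singleton_iff.2 hg.eq.symm⟩ with hs
  have hs1 : s ≠ 1 := fun e => hK.ne (conj_eq_one_iff.1 (congrArg Subtype.val e : g * t * g⁻¹ = 1))
  have hs2 : s * s = 1 := Subtype.ext (by
    show g * t * g⁻¹ * (g * t * g⁻¹) = 1
    rw [show g * t * g⁻¹ * (g * t * g⁻¹) = g * (t * t) * g⁻¹ by group, htt]; group)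
  obtain ⟨n, r, hr, hv⟩ := class_of_invol hK hs1 hs2 (fun e => hne (congrArg Subtype.val e))
  have hr3 : r = 1 ∨ r = 2 := by simpa using hr
  set v := n * s * n⁻¹ with hvdef
  set k := n.1 * g with hk
  have hkv : k * t * k⁻¹ = (v : G) := by
    show n.1 * g * t * (n.1 * g)⁻¹ = n.1 * (g * t * g⁻¹) * n.1⁻¹
    group
  -- move the Sylow subgroup
  have hP : Nat.card (sylT hK) = 2 ^ (Nat.card (Cn t)).factorization 2 := by
    rw [card_sylT hK, hcard, show (177408000 : ℕ) = 2 ^ 11 * 86625 from by norm_num,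
      Nat.factorization_mul (by norm_num) (by norm_num), Finsupp.add_apply,
      Nat.Prime.factorization_pow Nat.prime_two,
      Nat.factorization_eq_zero_of_not_dvd (show ¬ (2 : ℕ) ∣ 86625 by norm_num)]
    simp
  have hmem : ∀ x ∈ sylT hK, k⁻¹ * (x : G) * k ∈ Subgroup.centralizer ({t} : Set G) := by
    intro x hx
    have hc : (x : G) * v = v * x := congrArg Subtype.val
      (rep_commute_sylT hK (by omega) hv hx)
    rw [Subgroup.mem_centralizer_singleton_iff]
    calc k⁻¹ * (x : G) * k * t = k⁻¹ * ((x : G) * (k * t * k⁻¹)) * k := by group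
      _ = k⁻¹ * ((v : G) * x) * k := by rw [hkv, hc]
      _ = k⁻¹ * (k * t * k⁻¹ * x) * k := by rw [hkv]
      _ = t * (k⁻¹ * (x : G) * k) := by group
  let φ : sylT hK →* Cn t :=
    { toFun := fun x => ⟨k⁻¹ * (x.1 : G) * k, hmem x.1 x.2⟩
      map_one' := Subtype.ext (by simp)
      map_mul' := fun x y => Subtype.ext (by simp [mul_assoc]) }
  have hφ : Function.Injective φ := by
    intro x y e
    have := congrArg Subtype.val e
    exact Subtype.ext (Subtype.ext (mul_left_cancel (mul_right_cancel this)))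
  have hR' : Nat.card φ.range = 2 ^ (Nat.card (Cn t)).factorization 2 := by
    rw [← Nat.card_congr (MonoidHom.ofInjective hφ).toEquiv, hP]
  obtain ⟨u, hu⟩ := MulAction.exists_smul_eq (Cn t) (Sylow.ofCard _ hR') (Sylow.ofCard _ hP)
  have hu' : MulAut.conj u • φ.range = sylT hK := by
    have := congrArg (fun P : Sylow 2 (Cn t) => (P : Subgroup (Cn t))) hu
    simp only [Sylow.smul_def, Sylow.pointwise_smul_def] at this
    exact this
  have hmem' : ∀ x : sylT hK, u * φ x * u⁻¹ ∈ sylT hK := fun x => by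
    have h : MulAut.conj u • φ x ∈ MulAut.conj u • φ.range :=
      Subgroup.smul_mem_pointwise_smul _ _ _ ⟨x, rfl⟩
    exact SetLike.le_def.1 hu'.le h
  have hvimg : ∀ y : sylT hK, (φ y * φ y = tC t) ↔ (y : Cn t) * y = v := by
    intro y
    rw [← Subtype.coe_inj, ← Subtype.coe_inj (a := y.1 * y.1)]
    show k⁻¹ * (y.1 : G) * k * (k⁻¹ * (y.1 : G) * k) = t ↔ (y.1 : G) * y.1 = (v : G)
    rw [← hkv]
    constructor
    · intro h
      calc (y.1 : G) * y.1 = k * (k⁻¹ * (y.1 : G) * k * (k⁻¹ * (y.1 : G) * k)) * k⁻¹ := by group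
        _ = k * t * k⁻¹ := congrArg (fun z => k * z * k⁻¹) h
    · intro h
      calc k⁻¹ * (y.1 : G) * k * (k⁻¹ * (y.1 : G) * k) = k⁻¹ * ((y.1 : G) * y.1) * k := by group
        _ = t := by rw [h]; group
  let F : sylT hK → sylT hK := fun x => (⟨u * φ x * u⁻¹, hmem' x⟩ : sylT hK)
  have hF : Function.Bijective F := by
    haveI : Finite (sylT hK) := Nat.finite_of_card_ne_zero (by rw [card_sylT hK]; norm_num)
    refine Finite.injective_iff_bijective.1 fun x y e => hφ ?_
    exact mul_left_cancel (mul_right_cancel (congrArg Subtype.val e))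
  have hroots : Nat.card {x : sylT hK // (x : Cn t) * x = v} =
      Nat.card {x : sylT hK // (x : Cn t) * x = tC t} := by
    refine Nat.card_congr ((Equiv.ofBijective F hF).subtypeEquiv fun x => ?_)
    show _ ↔ u * φ x * u⁻¹ * (u * φ x * u⁻¹) = tC t
    rw [show u * φ x * u⁻¹ * (u * φ x * u⁻¹) = u * (φ x * φ x) * u⁻¹ by group, ← hvimg x]
    constructor
    · intro h; rw [h, tC_comm, mul_inv_cancel_right]
    · intro h
      calc φ x * φ x = u⁻¹ * (u * (φ x * φ x) * u⁻¹) * u := by group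
        _ = u⁻¹ * (tC t * u) := by rw [h, mul_assoc]
        _ = tC t := by rw [← tC_comm]; group
  rw [roots_sylT hK (by omega) hv, roots_sylT hK (by decide) (iota_tC hK), tw_checks.2.1] at hroots
  rcases hr3 with rfl | rfl
  · rw [tw_checks.2.2.1] at hroots; omega
  · rw [tw_checks.2.2.2.1] at hroots; omega

/-- The twisted variant does not occur in a simple group. -/
theorem twist_false [Finite G] [IsSimpleGroup G] (hK : Twist t a b c) : False := by
  have htt := twist_sq hK
  have ho : orderOf t = 2 := orderOf_eq_prime (by rw [pow_two, htt]) hK.ne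
  have hcard := card_Cn hK
  by_cases hno : ∀ g : G, Commute t (g * t * g⁻¹) → g * t * g⁻¹ = t
  · have hO : Cfsg.oddCore G = ⊥ := by
      rcases IsSimpleGroup.eq_bot_or_eq_top_of_normal (Cfsg.oddCore G) inferInstance with h | h
      · exact h
      · exfalso
        have h1 : Odd (Nat.card (Cfsg.oddCore G)) := CfsgLib.Cores.odd_card_oddCore
        rw [h, Subgroup.card_top] at h1
        have h2 := orderOf_dvd_natCard t
        rw [ho] at h2
        exact (Nat.not_even_iff_odd.2 h1) (even_iff_two_dvd.2 h2)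
    have hz := CfsgLib.Invol.zstar_center (z := t) ⟨ho, hno⟩ hO
    rcases IsSimpleGroup.eq_bot_or_eq_top_of_normal (Subgroup.center G) inferInstance with h | h
    · exact hK.ne (by rw [h] at hz; exact Subgroup.mem_bot.1 hz)
    · letI : CommGroup G := { ‹Group G› with
        mul_comm := fun x y => (Subgroup.mem_center_iff.1 (h ▸ Subgroup.mem_top y) x) }
      have hp : (Nat.card G).Prime := IsSimpleGroup.prime_card
      have hC : Subgroup.centralizer ({t} : Set G) = ⊤ := eq_top_iff.2 fun x _ =>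
        Subgroup.mem_centralizer_singleton_iff.2 (mul_comm x t)
      rw [← Subgroup.card_top (G := G), ← hC] at hp
      rw [show Nat.card (Subgroup.centralizer ({t} : Set G)) = 177408000 from hcard] at hp
      norm_num at hp
  push Not at hno
  exact twist_false_of_pair hK hno

end CfsgLib.HNRec.Fusion
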