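import Cfsg.Agent.Lib.HNRec.Spec
import Cfsg.Agent.Lib.HNRec.Fusion.Twist
import Cfsg.Agent.Lib.HNRec.Fusion.OpenGlue

/-!
# The exchange of the central involution and the outer one
-/

set_option autoImplicit false

namespace CfsgLib.HNRec.Fusion

/-- The twisted variant is impossible; in the other one the exchange exists. -/
theorem exchangeSpec : ExchangeSpec := fun G _ _ _ t a b c =>
  ⟨twist_false, fun hK => by
    rcases fused_cases hK with h | ⟨hc, h1, h4⟩
    · exact exchange_of_fused hK h
    · exact (open_false hK hc h1 h4).elim⟩

end CfsgLib.HNRec.Fusion
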