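import Cfsg.Agent.Lib.HNRec.Basic
import Cfsg.Agent.Lib.HNRec.Fusion.Sylow
import Cfsg.Agent.Lib.Invol.ZStarFinal
import Cfsg.Agent.Lib.Cores.Basic

/-!
# The involution classes of the centraliser and the first fusion facts

In coordinates every involution commuting with `t` is conjugate within `C(t)` to one of five
representatives (`t`, the classes U1 and U0, the class of `c`, the class X0).  The class U0 is not
fused with `t`: a Sylow 2-subgroup centralising both has 80 roots of `t` and 112 of U0.
-/

set_option autoImplicit false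
set_option linter.style.haveILetI false

namespace CfsgLib.HNRec.Fusion

open CfsgLib.HNxyz CfsgLib.HNIndex
open scoped Pointwise

variable {G : Type} [Group G] {t a b c : G}

/-- The representative of a class in the group: 0 is `t`, 1 is U1, 2 is U0, 3 is `c`, 4 is X0. -/
def repG (a b c : G) (r : ℕ) : G := evalW (elt a b c) (repW r)

theorem pr_rep (r : ℕ) : pr a b c (rep a b c r) = repG a b c r := pr_mW _

theorem pr_inj_of (h : XYZRels a b c) (ha : a * a ≠ 1) : Function.Injective (pr a b c) := by
  have hsq : pr a b c ((mData h).a * (mData h).a) ≠ 1 := by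
    rw [map_mul]
    exact ha
  refine (mData h).injective (pr a b c) hsq ?_
  haveI := m_finite h
  obtain ⟨h2, hmem⟩ := (mData h).ker_eq
  set D := mData h with hD
  rw [eq_bot_iff]
  intro m hm
  obtain ⟨hm1, hm2⟩ := Subgroup.mem_inf.1 hm
  rw [Subgroup.mem_bot]
  let u : D.σ.ker := ⟨⟨D.a * D.a, D.ker_le_N hmem⟩, D.mem_ker_σ.2 hmem⟩
  let v : D.σ.ker := ⟨⟨m, D.ker_le_N hm1⟩, D.mem_ker_σ.2 hm1⟩
  by_contra hne
  have hu : u ≠ 1 := fun e => D.sq_ne (congrArg (fun w : D.σ.ker => w.1.1) e)
  have hv : v ≠ 1 := fun e => hne (congrArg (fun w : D.σ.ker => w.1.1) e)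
  have huv : v ≠ u := fun e => hsq (by
    rw [← show m = D.a * D.a from congrArg (fun w : D.σ.ker => w.1.1) e]
    exact MonoidHom.mem_ker.1 hm2)
  have h3 : ({v, u, 1} : Set D.σ.ker).ncard = 3 := by
    rw [Set.ncard_eq_three]
    exact ⟨v, u, 1, huv, hv, hu, rfl⟩
  have := Set.ncard_le_card ({v, u, 1} : Set D.σ.ker)
  omega

theorem pr_inj (hK : Coord t a b c) : Function.Injective (pr a b c) :=
  pr_inj_of hK.rels (hK.sq ▸ hK.ne)

theorem range_eq (hK : Coord t a b c) : (pr a b c).range = Subgroup.centralizer ({t} : Set G) := by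
  rw [hK.cent, MonoidHom.range_eq_map, ← (mData hK.rels).top, MonoidHom.map_closure,
    Set.image_insert_eq, Set.image_insert_eq, Set.image_singleton]
  rfl

theorem pr_comm (hK : Coord t a b c) (m : Mg a b c) : pr a b c m * t = t * pr a b c m := by
  have h : pr a b c m ∈ Subgroup.centralizer ({t} : Set G) := range_eq hK ▸ ⟨m, rfl⟩
  exact Subgroup.mem_centralizer_singleton_iff.1 h

theorem exists_pr (hK : Coord t a b c) {g : G} (hg : g * t = t * g) : ∃ m, pr a b c m = g := by
  have : g ∈ (pr a b c).range := range_eq hK ▸ Subgroup.mem_centralizer_singleton_iff.2 hg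
  exact this

theorem repG_zero (hK : Coord t a b c) : repG a b c 0 = t := by
  rw [← pr_rep, rep_zero hK.rels, pr_mW, evalW_cons, evalW_cons, evalW_nil, mul_one]
  exact hK.sq

theorem repG_three (hK : Coord t a b c) : repG a b c 3 = c := by
  rw [← pr_rep, rep_three hK.rels, pr_mW, evalW_cons, evalW_nil, mul_one]
  rfl

theorem repG_comm (hK : Coord t a b c) (r : ℕ) : repG a b c r * t = t * repG a b c r := by
  rw [← pr_rep]; exact pr_comm hK _

/-- Every involution commuting with `t` is conjugate in `C(t)` to a representative. -/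
theorem exists_class (hK : Coord t a b c) {s : G} (h1 : s ≠ 1) (h2 : s * s = 1) (hs : s * t = t * s) :
    ∃ r < 5, ∃ g : G, g * t = t * g ∧ g * s * g⁻¹ = repG a b c r := by
  obtain ⟨m, rfl⟩ := exists_pr hK hs
  obtain ⟨r, hr, g, hg⟩ := exists_rep hK.rels (s := m) (fun e => h1 (by rw [e, map_one]))
    (pr_inj hK (by rw [map_mul, map_one, h2]))
  exact ⟨r, hr, pr a b c g, pr_comm hK g, by rw [← map_inv, ← map_mul, ← map_mul, hg, pr_rep]⟩

/-- The Sylow subgroup in the group. -/
noncomputable def sylG (a b c : G) : Subgroup G := (syl a b c).map (pr a b c)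

theorem card_sylG (hK : Coord t a b c) : Nat.card (sylG a b c) = 2 ^ 11 := by
  rw [sylG, Subgroup.card_map_of_injective (pr_inj hK), card_syl hK.rels]

/-- A fusion of a central representative to `t` may be chosen to normalise the Sylow subgroup. -/
theorem exists_normalising [Finite G] (hK : Coord t a b c) {r : ℕ} (hr : r < 3) {g : G}
    (hg : g * repG a b c r * g⁻¹ = t) :
    ∃ h : G, h * repG a b c r * h⁻¹ = t ∧ MulAut.conj h • sylG a b c = sylG a b c := by
  haveI := m_finite hK.rels
  haveI : Fact (Nat.Prime 2) := ⟨Nat.prime_two⟩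
  have hle : MulAut.conj g • sylG a b c ≤ (pr a b c).range := by
    rintro x hx
    rw [Subgroup.mem_pointwise_smul_iff_inv_smul_mem, sylG, Subgroup.mem_map] at hx
    obtain ⟨m, hm, e⟩ := hx
    have e' : x = g * pr a b c m * g⁻¹ := by
      rw [e, ← map_inv]; simp [MulAut.smul_def, mul_assoc]
    have hc := congrArg (pr a b c) (rep_central hK.rels hr hm).eq
    rw [map_mul, map_mul, pr_rep] at hc
    rw [range_eq hK, Subgroup.mem_centralizer_singleton_iff, e', ← hg]
    calc g * pr a b c m * g⁻¹ * (g * repG a b c r * g⁻¹) = g * (pr a b c m * repG a b c r) * g⁻¹ := by group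
      _ = g * (repG a b c r * pr a b c m) * g⁻¹ := by rw [hc]
      _ = g * repG a b c r * g⁻¹ * (g * pr a b c m * g⁻¹) := by group
  set R := (MulAut.conj g • sylG a b c).comap (pr a b c) with hR
  have hmap : R.map (pr a b c) = MulAut.conj g • sylG a b c := by
    rw [hR, Subgroup.map_comap_eq, inf_eq_right.2 hle]
  have hcard : Nat.card R = Nat.card (sylow hK.rels : Subgroup (Mg a b c)) := by
    rw [← Subgroup.card_map_of_injective (K := R) (f := pr a b c) (pr_inj hK), hmap,
      ← Nat.card_congr (Subgroup.equivSMul _ _).toEquiv, card_sylG hK]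
    exact (card_syl hK.rels).symm
  have hR2 : Nat.card R = 2 ^ (Nat.card (Mg a b c)).factorization 2 := by
    rw [hcard, (sylow hK.rels).card_eq_multiplicity]
  obtain ⟨m, hm⟩ := MulAction.exists_smul_eq (Mg a b c) (Sylow.ofCard R hR2) (sylow hK.rels)
  have hm' : MulAut.conj m • R = syl a b c := by
    have := congrArg (fun P : Sylow 2 (Mg a b c) => (P : Subgroup (Mg a b c))) hm
    simp only [Sylow.smul_def, Sylow.pointwise_smul_def] at this
    exact this
  refine ⟨pr a b c m * g, ?_, ?_⟩
  · rw [show pr a b c m * g * repG a b c r * (pr a b c m * g)⁻¹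
      = pr a b c m * (g * repG a b c r * g⁻¹) * (pr a b c m)⁻¹ by group, hg, pr_comm hK m]
    group
  · rw [map_mul, mul_smul, ← hmap]
    conv_rhs => rw [sylG, ← hm']
    ext x
    simp only [Subgroup.mem_map, Subgroup.mem_pointwise_smul_iff_inv_smul_mem, ← map_inv,
      MulAut.smul_def, MulAut.conj_apply, inv_inv]
    constructor
    · rintro ⟨y, hy, e⟩
      refine ⟨m * y * m⁻¹, by simpa [mul_assoc] using hy, ?_⟩
      rw [map_mul, map_mul, map_inv, e, map_inv]; group
    · rintro ⟨y, hy, rfl⟩
      exact ⟨m⁻¹ * y * m, hy, by simp [mul_assoc]⟩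

/-- A central representative fused with `t` has as many roots in the Sylow subgroup as `t`. -/
theorem roots_eq [Finite G] (hK : Coord t a b c) {r : ℕ} (hr : r < 3) {g : G}
    (hg : g * repG a b c r * g⁻¹ = t) : rootsOf r = rootsOf 0 := by
  obtain ⟨h, h1, h2⟩ := exists_normalising hK hr hg
  have key : ∀ r < 5, rootsOf r = Nat.card {x : G // x ∈ sylG a b c ∧ x * x = repG a b c r} := by
    intro r hr
    rw [← card_roots hK.rels hr]
    refine Nat.card_congr (Equiv.ofBijective
      (fun m => ⟨pr a b c m.1, ⟨m.1, m.2.1, rfl⟩, by rw [← map_mul, m.2.2, pr_rep]⟩) ⟨?_, ?_⟩)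
    · exact fun m n e => Subtype.ext (pr_inj hK (congrArg Subtype.val e))
    · rintro ⟨x, ⟨m, hm, rfl⟩, hx⟩
      exact ⟨⟨m, hm, pr_inj hK (by rw [map_mul, hx, pr_rep])⟩, rfl⟩
  rw [key r (by omega), key 0 (by decide), repG_zero hK]
  refine Nat.card_congr ((MulAut.conj h).toEquiv.subtypeEquiv fun x => ?_)
  refine and_congr ?_ ?_
  · show x ∈ sylG a b c ↔ MulAut.conj h • x ∈ sylG a b c
    conv_rhs => rw [← h2]
    exact Subgroup.smul_mem_pointwise_smul_iff.symm
  · show x * x = _ ↔ h * x * h⁻¹ * (h * x * h⁻¹) = t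
    rw [show h * x * h⁻¹ * (h * x * h⁻¹) = h * (x * x) * h⁻¹ by group, ← h1,
      mul_left_inj, mul_right_inj]

/-- The class U0 is not fused with `t`. -/
theorem not_fused_two [Finite G] (hK : Coord t a b c) : ¬ IsConj t (repG a b c 2) := by
  intro hc
  obtain ⟨g, hg⟩ := isConj_iff.1 hc.symm
  have h := roots_eq hK (r := 2) (by decide) hg
  rw [roots_checks.1, roots_checks.2.2] at h
  omega

theorem coord_tt (hK : Coord t a b c) : t * t = 1 := by
  rw [← hK.sq, ← show evalW (elt a b c) [0, 0, 0, 0] = a * a * (a * a) from by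
    simp [evalW, elt, mul_assoc]]
  exact (eq_of_same hK.rels (v := []) (by decide +kernel)).trans (evalW_nil _)

/-- A commuting conjugate of `t` other than `t` lies in a class other than U0. -/
theorem exists_fused_of_pair [Finite G] (hK : Coord t a b c)
    (hp : ∃ g : G, Commute t (g * t * g⁻¹) ∧ g * t * g⁻¹ ≠ t) :
    ∃ r ∈ ([1, 3, 4] : List ℕ), IsConj t (repG a b c r) := by
  obtain ⟨g, hg, hne⟩ := hp
  have htt := coord_tt hK
  set s := g * t * g⁻¹ with hs
  have h1 : s ≠ 1 := fun e => hK.ne (conj_eq_one_iff.1 e)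
  have h2 : s * s = 1 := by rw [hs, show g * t * g⁻¹ * (g * t * g⁻¹) = g * (t * t) * g⁻¹ by group, htt]; group
  obtain ⟨r, hr, h, hh, hrs⟩ := exists_class hK h1 h2 hg.eq.symm
  have hconj : IsConj t (repG a b c r) :=
    isConj_iff.2 ⟨h * g, by rw [← hrs, hs]; group⟩
  interval_cases r
  · refine absurd ?_ hne
    rw [repG_zero hK] at hrs
    calc s = h⁻¹ * (h * s * h⁻¹) * h := by group
      _ = h⁻¹ * (t * h) := by rw [hrs, mul_assoc]
      _ = t := by rw [← hh]; group
  · exact ⟨1, by simp, hconj⟩
  · exact absurd hconj (not_fused_two hK)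
  · exact ⟨3, by simp, hconj⟩
  · exact ⟨4, by simp, hconj⟩

/-- Some class other than `t` and U0 is fused with `t`. -/
theorem exists_fused [Finite G] [IsSimpleGroup G] (hK : Coord t a b c) :
    ∃ r ∈ ([1, 3, 4] : List ℕ), IsConj t (repG a b c r) := by
  haveI := m_finite hK.rels
  have ho : orderOf t = 2 := orderOf_eq_prime (by rw [pow_two, coord_tt hK]) hK.ne
  refine exists_fused_of_pair hK ?_
  by_contra hno
  push Not at hno
  have hO : Cfsg.oddCore G = ⊥ := by
    rcases IsSimpleGroup.eq_bot_or_eq_top_of_normal (Cfsg.oddCore G) inferInstance with h | h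
    · exact h
    · exfalso
      have h1 : Odd (Nat.card (Cfsg.oddCore G)) := CfsgLib.Cores.odd_card_oddCore
      rw [h, Subgroup.card_top] at h1
      have h2 := orderOf_dvd_natCard t
      rw [ho] at h2
      exact (Nat.not_even_iff_odd.2 h1) (even_iff_two_dvd.2 h2)
  have hz := CfsgLib.Invol.zstar_center (z := t) ⟨ho, fun g hg => hno g hg⟩ hO
  rcases IsSimpleGroup.eq_bot_or_eq_top_of_normal (Subgroup.center G) inferInstance with h | h
  · exact hK.ne (by rw [h] at hz; exact Subgroup.mem_bot.1 hz)
  · -- an abelian simple group has prime order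
    letI : CommGroup G := { ‹Group G› with
      mul_comm := fun x y => (Subgroup.mem_center_iff.1 (h ▸ Subgroup.mem_top y) x) }
    have hp : (Nat.card G).Prime := IsSimpleGroup.prime_card
    have hC : Subgroup.centralizer ({t} : Set G) = ⊤ := eq_top_iff.2 fun x _ =>
      Subgroup.mem_centralizer_singleton_iff.2 (mul_comm x t)
    have hcard : Nat.card G = 177408000 := by
      rw [← Subgroup.card_top (G := G), ← hC, ← range_eq hK,
        ← Nat.card_congr (MonoidHom.ofInjective (pr_inj hK)).toEquiv, m_card hK.rels]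
    rw [hcard] at hp
    norm_num at hp

end CfsgLib.HNRec.Fusion
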