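import Cfsg.Agent.Lib.HNIndex.Grow

/-!
# Data for the bound on the centraliser of the square of y (generated)

Words carrying 0 to points, the filters on the images of six points, the fixed points, and a
stabiliser chain through these points.
-/

set_option autoImplicit false

namespace CfsgLib.HNRec.Fusion

open CfsgLib.HNIndex

/-- Words carrying 0 to points. -/
def openCarry : List (ℕ × List ℕ) :=
  [(0,[]),
    (40,[0,4,2,2,2,0,2]),
    (41,[0,4,2,2,2,0]),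
    (76,[4,2,2,2,0]),
    (128,[0,4,2,2,2,0,3]),
    (170,[0,4,2,2,2,1,2]),
    (190,[4,2,2,0,2,2,1]),
    (234,[4,2,2,0,2,0,2,0]),
    (235,[4,3,3,0,3,0,3,0]),
    (335,[0,4,2,2,0,2,0,2,0]),
    (336,[0,4,3,3,0,3,0,3,0]),
    (724,[4,2,2,0,4,3,4]),
    (725,[4,2,2,4,3,3,4]),
    (846,[1,4,2,2,4,3,3,4]),
    (847,[0,4,2,2,1,4,3,4]),
    (949,[0,4,2,2,4,3,3,4]),
    (1053,[0,4,2,2,0,2,0,2,1]),
    (1054,[0,4,3,3,0,3,0,3,1])]

/-- A filter: the point, the points fixed already, the possible images, the excluded pairs of labels. -/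
structure OpenStep where
  /-- the point -/
  pt : ℕ
  /-- the points fixed already -/
  prev : List ℕ
  /-- the possible images -/
  cands : List ℕ
  /-- pairs of labels not occurring at fixed points -/
  absent : List (ℕ × ℕ)

/-- The filters. -/
def openSteps : List OpenStep :=
  [⟨190, [0], [190], [(8,7)]⟩,
    ⟨128, [0,190], [40,41,128], []⟩,
    ⟨170, [0,190,128], [170], []⟩,
    ⟨724, [0,190,128,170], [234,235,724,725], []⟩,
    ⟨76, [0,190,128,170,724], [76], []⟩,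
    ⟨336, [0,190,128,170,724,76], [335,336,949], []⟩]

/-- The fixed points of the square of y. -/
def openFix : List ℕ :=
  [0,1,4,5,190,234,235,335,336,369,400,401,542,543,724,725,757,758,760,761,844,845,846,847,852,853,948,949,1004,1005,1053,1054,1066,1090,1171,1172,1202,1203,1300,1339]

/-- The chain through the filtered points. -/
def openLevels : List Level :=
  [⟨128, [[2], [3], [1,2,0], [1,3,0]], [(128,0),(128,1),(128,2),(128,3),(41,2),(41,3),(40,2),(40,3),(89,0),(89,1),(106,0),(106,1),(106,3),(318,0),(318,1),(318,2),(81,0),(81,3),(37,0),(37,1),(37,2),(799,0),(799,1),(90,2),(965,2),(91,3),(70,1),(399,2),(399,3),(84,1),(84,3),(47,1),(47,2),(82,2),(36,3),(958,0),(958,2),(123,1),(139,0),(139,2),(69,1),(69,3),(78,1),(78,2),(79,0),(122,1),(122,3),(138,2),(278,0)]⟩,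
    ⟨170, [[2,2,2], [1,2,0,1,2,0,3,1,3,0], [1,2,0,2,2,2,1,2,0], [2,1,3,0,3,3,1,3,0,3]], [(170,1),(170,3),(130,0),(130,1),(130,2),(130,3),(178,0),(178,1),(178,2),(178,3),(194,1),(194,2),(194,3),(105,0),(105,2),(947,0),(947,1),(947,2),(949,0),(949,1),(949,3),(335,0),(335,1),(335,3),(15,1),(15,3),(275,2),(104,0),(104,1),(104,2),(104,3),(802,3),(158,0),(158,1),(158,2),(6,3),(952,3),(953,0),(129,2),(195,0),(33,1)]⟩,
    ⟨724, [[2,2,2], [1,2,0,2,2,2,1,2,0], [2,1,3,0,3,3,1,3,0,3,2,2,2,1,2,0,2,2,2,1,2,0,2,1,2,0,2,2,1,2,0,3]], [(724,0),(724,2),(94,1),(234,0)]⟩,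
    ⟨76, [[1,2,0,2,2,2,1,2,0], [2,2,2,2,1,3,0,3,3,1,3,0,3,2,2,2,1,2,0,2,2,2,1,2,0,2,1,2,0,2,2,1,2,0,3,3,3,3]], [(76,0),(76,1),(400,0)]⟩,
    ⟨336, [[1,2,0,2,2,2,1,2,0,2,2,2,2,1,3,0,3,3,1,3,0,3,2,2,2,1,2,0,2,2,2,1,2,0,2,1,2,0,2,2,1,2,0,3,3,3,3,1,3,0,3,3,3,1,3,0,1,3,0,3,3,3,1,3,0]], [(336,0),(949,0)]⟩]

end CfsgLib.HNRec.Fusion
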