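import Cfsg.Agent.Lib.HNRec.Fusion.SylowDefs
import Cfsg.Agent.Lib.HNRec.Fusion.ReduceData

/-!
# The checks for the element of order seven and the fusion witnesses
-/

set_option autoImplicit false
set_option maxRecDepth 100000

namespace CfsgLib.HNRec.Fusion

open CfsgLib.HNxyz CfsgLib.HNIndex

/-- The suborbit label of a point. -/
def lab (i : ℕ) : ℕ := (labCells.getD (i / 32) 0 >>> (4 * (i % 32))) % 16

/-- The word carrying 0 to a point. -/
def carry (a : ℕ) : List ℕ := ((carryWords.find? fun e => Nat.beq e.1 a).getD (0, [])).2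

/-- The label of a pair of points. -/
def col (a i : ℕ) : ℕ := lab (img (HNIndex.invW (carry a)) i)

/-- The conjugate of z commuting with the element of order seven. -/
def sevenV : List ℕ := sevenCv ++ [4] ++ HNIndex.invW sevenCv

/-- The point is the only one with its labels from the given points. -/
def uniqueOk (pts : List ℕ) (r : ℕ) : Bool :=
  (List.range 1408).all fun q => Nat.beq q r || !(pts.all fun a => Nat.beq (col a q) (col a r))

/-- The points used to pin the six base points. -/
def pinPts : List ℕ := 0 :: sevenOrb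

theorem lab_checks : (([[2], [3], [1, 2, 0], [1, 3, 0]] : List (List ℕ)).all fun w =>
    (List.range 1408).all fun i => Nat.beq (lab (img w i)) (lab i)) = true := by
  decide +kernel

theorem carry_checks : (carryWords.all fun e => okW e.2 && Nat.blt e.1 1408 && Nat.beq (img e.2 0) e.1) = true ∧
    (((pinPts ++ [879, 14, 23, 208, 7] ++ sevenSub)).all fun a => carryWords.any fun e => Nat.beq e.1 a) = true := by
  decide +kernel

theorem seven_checks : okW sevenW = true ∧ okW sevenV = true ∧ okW sevenCv = true ∧ okW sevenAut = true ∧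
    beqL (kW ((List.replicate 7 sevenW).flatten)) base = true ∧
    (!beqL (kW sevenW) base) = true ∧
    beqL (kW (sevenV ++ sevenW)) (kW (sevenW ++ sevenV)) = true ∧
    beqL (kW (HNIndex.invW sevenAut ++ sevenW ++ sevenAut)) (kW (sevenW ++ sevenW ++ sevenW)) = true ∧
    beqL (kW ([0] ++ ([4] ++ [0, 0]) ++ [1])) (kW [4]) = true ∧
    (!beqL (kW [4]) base) = true ∧ (!beqL (kW [4]) (kW [0, 0])) = true ∧
    beqL (kW [4, 4]) base = true ∧ beqL (kW [0, 0, 0, 0]) base = true := by
  decide +kernel

theorem fix_checks : ((List.range 1408).all fun i =>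
    Nat.beq (img sevenW i) i == sevenFix.any (Nat.beq i)) = true ∧
    Nat.beq sevenFix.length 8 = true ∧ Nat.beq sevenOrb.length 7 = true ∧
    (sevenFix.all fun i => Nat.blt i 1408) = true ∧ fix0 sevenW = true := by
  decide +kernel

theorem sub_checks : ((List.range 1408).all fun q =>
      !Nat.beq (lab q) (lab 9) || sevenSub.any (Nat.beq q)) = true ∧
    (sevenSub.all fun q => !Nat.beq (col q (img sevenW q)) (col 9 (img sevenW 9)) ||
      sevenOrb.any (Nat.beq q)) = true ∧
    Nat.beq (sevenOrb.getD 0 0) 9 = true ∧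
    ((List.range 6).all fun k => Nat.beq (img sevenW (sevenOrb.getD k 0)) (sevenOrb.getD (k + 1) 0)) = true := by
  decide +kernel

theorem pin_checks : (([879, 14, 23, 208, 7] : List ℕ).all (uniqueOk pinPts)) = true ∧
    (base.all fun b => (pinPts ++ [879, 14, 23, 208, 7]).any (Nat.beq b) ||
      uniqueOk (pinPts ++ [879, 14, 23, 208]) b) = true := by
  decide +kernel

theorem wit_checks :
    (let w := cjWord 1 witU.1
     okW w && okW witU.1 && okW witU.2 && beqL (kW (w ++ repW 1)) (kW (repW 1 ++ w)) &&
      beqL (kW (w ++ repW 1)) (kW (cjWord 1 witU.2)) && !beqL (kW w) (kW (repW 1))) = true ∧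
    (let w := cjWord 4 witX.1
     okW w && okW witX.1 && okW witX.2 && beqL (kW (w ++ repW 4)) (kW (repW 4 ++ w)) &&
      beqL (kW (w ++ repW 4)) (kW (cjWord 1 witX.2)) && !beqL (kW w) (kW (repW 4))) = true ∧
    beqL (kW (repW 1 ++ [0, 0])) (kW (repW 2)) = true ∧
    beqL (kW ([3, 0, 2] ++ (repW 4 ++ [0, 0]) ++ HNIndex.invW [3, 0, 2])) (kW (repW 4)) = true := by
  decide +kernel

end CfsgLib.HNRec.Fusion
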