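import Cfsg.Agent.Lib.HNIndex.Fix
import Cfsg.Agent.Lib.HNRec.Fusion.ReduceChecks
import Cfsg.Agent.Lib.HNRec.Fusion.OpenBoundData

/-!
# The checks for the bound on the centraliser of the square of y
-/

set_option autoImplicit false
set_option maxRecDepth 100000

namespace CfsgLib.HNRec.Fusion

open CfsgLib.HNxyz CfsgLib.HNIndex

/-- The image of a point under the square of y. -/
def eImg (i : ℕ) : ℕ := img [2, 2] i

/-- The word carrying 0 to a point. -/
def ocarry (a : ℕ) : List ℕ := ((openCarry.find? fun e => Nat.beq e.1 a).getD (0, [])).2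

/-- The point has a carrying word. -/
def ohas (a : ℕ) : Bool := openCarry.any fun e => Nat.beq e.1 a

/-- The label of a pair of points. -/
def ocol (a i : ℕ) : ℕ := lab (img (HNIndex.invW (ocarry a)) i)

/-- The labels of a possible image agree with those of the point. -/
def preOk (S : OpenStep) (q : ℕ) : Bool :=
  (Nat.beq (eImg q) q == Nat.beq (eImg S.pt) S.pt) && Nat.beq (lab (eImg q)) (lab (eImg S.pt)) &&
    S.prev.all fun a => Nat.beq (ocol a q) (ocol a S.pt) && Nat.beq (ocol a (eImg q)) (ocol a (eImg S.pt))

/-- Only the listed points pass a filter. -/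
def stepOk (S : OpenStep) : Bool :=
  ohas S.pt && Nat.blt S.pt 1408 && (S.prev.all fun a => ohas a && Nat.blt a 1408) &&
  (S.absent.all fun z => openFix.all fun f => !(Nat.beq (ocol S.pt f) z.1 && Nat.beq (lab f) z.2)) &&
  (List.range 1408).all fun q =>
    !Nat.beq (lab q) (lab S.pt) || !preOk S q || S.cands.any (Nat.beq q) ||
      (ohas q && (!Nat.beq (ocol q (eImg q)) (ocol S.pt (eImg S.pt)) ||
        S.absent.any fun z => openFix.any fun f => Nat.beq (ocol q f) z.1 && Nat.beq (lab f) z.2))

theorem ocarry_checks :
    (openCarry.all fun e => okW e.2 && Nat.blt e.1 1408 && Nat.beq (img e.2 0) e.1) = true := by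
  decide +kernel

theorem openFix_checks : ((List.range 1408).all fun i =>
    Nat.beq (eImg i) i == openFix.any (Nat.beq i)) = true ∧ Nat.beq openFix.length 40 = true ∧
    (openFix.all fun i => Nat.blt i 1408) = true ∧ Nat.beq (eImg 0) 0 = true := by
  decide +kernel

theorem step_checks : openSteps.all stepOk = true := by decide +kernel

theorem level_checks : chainOk [] (topLevel :: openLevels) = true ∧
    chainSize (topLevel :: openLevels) = 177408000 ∧
    chainPts [] (topLevel :: openLevels) = [336, 76, 724, 170, 128, 0] := by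
  decide +kernel

end CfsgLib.HNRec.Fusion
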