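import Cfsg.Agent.Lib.HNRec.Fusion.Seven
import Cfsg.Agent.Lib.HNRec.Fusion.OpenBoundChecks

/-!
# The centraliser of the square of y in the group of triples has at most 1440 elements
-/

set_option autoImplicit false
set_option maxRecDepth 100000
set_option linter.style.haveILetI false

namespace CfsgLib.HNRec.Fusion

open CfsgLib.HNxyz CfsgLib.HNIndex

variable {G : Type} [Group G] {a b c : G}

/-- Labels of pairs are invariant, for any two words carrying 0 to the points. -/
theorem lab_pair (h : XYZRels a b c) (m : Mg a b c) {p q i : Fin 1408} {u v : List ℕ}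
    (hu : ∀ g ∈ u, g < 6) (hv : ∀ g ∈ v, g < 6) (hup : img u 0 = p) (hvq : img v 0 = q)
    (hpq : rho a b c m p = q) :
    lab (img (HNIndex.invW v) (rho a b c m i)) = lab (img (HNIndex.invW u) i) := by
  have h0 : ∀ {x : Fin 1408} {w : List ℕ}, (∀ g ∈ w, g < 6) → img w 0 = x →
      rho a b c (mW a b c w) x = 0 := by
    intro x w hw hx
    have : (rho a b c (mW a b c w))⁻¹ 0 = x := Fin.ext (by rw [rho_inv_img hw]; exact hx)
    rw [← this, perm_self_inv]
  set k := mW a b c v * m * (mW a b c u)⁻¹ with hk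
  have hmem : k ∈ fixOf (rho a b c) [0] := by
    intro x hx
    rw [List.mem_singleton] at hx
    obtain rfl : x = 0 := Fin.ext hx
    have : (rho a b c (mW a b c u))⁻¹ 0 = p := by
      rw [Equiv.Perm.inv_eq_iff_eq]; exact (h0 hu hup).symm
    rw [hk, map_mul, map_mul, map_inv, Equiv.Perm.mul_apply, Equiv.Perm.mul_apply, this, hpq]
    exact h0 hv hvq
  have h3 := lab_fix h hmem (rho a b c (mW a b c u) i)
  rw [hk, map_mul, map_mul, map_inv, Equiv.Perm.mul_apply, Equiv.Perm.mul_apply, perm_inv_self] at h3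
  rw [← rho_img (a := a) (b := b) (c := c) hv, ← rho_img (a := a) (b := b) (c := c) hu]
  exact h3

theorem ocarry_spec {p : ℕ} (hp : ohas p = true) :
    (∀ g ∈ ocarry p, g < 6) ∧ img (ocarry p) 0 = p ∧ p < 1408 := by
  obtain ⟨e, hfe⟩ : ∃ e, openCarry.find? (fun e => Nat.beq e.1 p) = some e :=
    Option.isSome_iff_exists.1 (List.find?_isSome.2 (List.any_eq_true.1 hp))
  have h2 := List.all_eq_true.1 ocarry_checks e (List.mem_of_find?_eq_some hfe)
  simp only [Bool.and_eq_true, Nat.blt_eq, Nat.beq_eq] at h2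
  have h3 : e.1 = p :=
    Nat.eq_of_beq_eq_true (List.find?_some (p := fun e : ℕ × List ℕ => Nat.beq e.1 p) hfe)
  rw [ocarry, hfe, Option.getD_some]
  exact ⟨okW_iff.1 h2.1.1, h3 ▸ h2.2, h3 ▸ h2.1.2⟩

theorem ocol_rho (h : XYZRels a b c) (m : Mg a b c) {p q : Fin 1408} (hp : ohas p = true)
    (hq : ohas q = true) (hpq : rho a b c m p = q) (i : Fin 1408) :
    ocol q (rho a b c m i) = ocol p i :=
  lab_pair h m (ocarry_spec hp).1 (ocarry_spec hq).1 (ocarry_spec hp).2.1 (ocarry_spec hq).2.1 hpq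

variable (a b c)

/-- The centraliser of the square of y. -/
noncomputable def sqC : Subgroup (Mg a b c) := Subgroup.centralizer {mW a b c [2, 2]}

variable {a b c}

theorem sqC_rho {m : Mg a b c} (hm : m ∈ sqC a b c) (i : Fin 1408) :
    eImg (rho a b c m i) = (rho a b c m ⟨eImg i, img_lt (by decide) i.2⟩ : Fin 1408) := by
  have e : Commute m (mW a b c [2, 2]) := Subgroup.mem_centralizer_singleton_iff.1 hm
  have e2 := DFunLike.congr_fun (e.inv_right.map (rho a b c)).eq i
  rw [map_inv, Equiv.Perm.mul_apply, Equiv.Perm.mul_apply] at e2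
  have hw : ∀ g ∈ ([2, 2] : List ℕ), g < 6 := by decide
  have h1 : (rho a b c (mW a b c [2, 2]))⁻¹ i = ⟨eImg i, img_lt (by decide) i.2⟩ :=
    Fin.ext (rho_inv_img hw i)
  rw [h1] at e2
  rw [e2, eImg, rho_inv_img hw]

theorem eImg_fix_iff {m : Mg a b c} (hm : m ∈ sqC a b c) (i : Fin 1408) :
    eImg (rho a b c m i) = (rho a b c m i : Fin 1408) ↔ eImg i = i := by
  rw [sqC_rho hm]
  constructor
  · intro e
    exact congrArg Fin.val ((rho a b c m).injective (Fin.ext e))
  · intro e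
    exact congrArg (fun x => ((rho a b c m x : Fin 1408) : ℕ)) (Fin.ext e)

theorem openFix_iff (i : Fin 1408) : eImg i = i ↔ openFix.any (Nat.beq (i : ℕ)) = true := by
  have h := List.all_eq_true.1 openFix_checks.1 _ (List.mem_range.2 i.2)
  rw [beq_iff_eq] at h
  rw [← h, Nat.beq_eq]

/-- The image of a filtered point under an element fixing the earlier points is listed. -/
theorem step_mem (h : XYZRels a b c) {S : OpenStep} (hS : stepOk S = true) {m : Mg a b c}
    (hm : m ∈ sqC a b c) (h0 : rho a b c m 0 = 0)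
    (hfix : ∀ p : Fin 1408, p.1 ∈ S.prev → rho a b c m p = p) {x : Fin 1408} (hx : x.1 = S.pt) :
    ((rho a b c m x : Fin 1408) : ℕ) ∈ S.cands := by
  simp only [stepOk, Bool.and_eq_true, List.all_eq_true, Nat.blt_eq, List.mem_range] at hS
  obtain ⟨⟨⟨⟨hxk, -⟩, hpk⟩, habs⟩, hall⟩ := hS
  set q := rho a b c m x with hq
  have hfix0 : m ∈ fixOf (rho a b c) [0] := by
    intro i hi
    rw [List.mem_singleton] at hi
    obtain rfl : i = 0 := Fin.ext hi
    exact h0
  have hlab : ∀ i : Fin 1408, lab (rho a b c m i) = lab i := lab_fix h hfix0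
  have hq' := hall q q.2
  have hpre : preOk S q = true := by
    simp only [preOk, Bool.and_eq_true, List.all_eq_true, beq_iff_eq, Nat.beq_eq]
    refine ⟨⟨?_, ?_⟩, fun a' ha' => ?_⟩
    · rw [Bool.eq_iff_iff, Nat.beq_eq, Nat.beq_eq, hq, ← hx]
      exact eImg_fix_iff hm x
    · rw [hq, sqC_rho hm, hlab, ← hx]
    · obtain ⟨hk, hlt⟩ := hpk a' ha'
      have e := hfix ⟨a', hlt⟩ ha'
      constructor
      · rw [hq, ocol_rho h m (p := ⟨a', hlt⟩) (q := ⟨a', hlt⟩) hk hk e x, hx]
      · rw [hq, sqC_rho hm, ocol_rho h m (p := ⟨a', hlt⟩) (q := ⟨a', hlt⟩) hk hk e]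
        show ocol a' (eImg x) = _
        rw [hx]
  simp only [Bool.or_eq_true, Bool.not_eq_true', List.any_eq_true, Bool.and_eq_true,
    hpre] at hq'
  rcases hq' with ((hl | hl) | ⟨y, hy, e⟩) | ⟨hqk, hl⟩
  · rw [hq, hlab, hx] at hl
    rw [Bool.eq_false_iff] at hl
    exact absurd (beq_true rfl) hl
  · exact absurd hl (by decide)
  · exact (Nat.eq_of_beq_eq_true e).symm ▸ hy
  · exfalso
    have hxk' : ohas x = true := by rw [hx]; exact hxk
    rcases hl with hl | ⟨z, hz, f, hf, hzf⟩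
    · rw [Bool.eq_false_iff] at hl
      refine hl (beq_true ?_)
      rw [hq, sqC_rho hm, ocol_rho h m hxk' hqk rfl]
      show ocol x (eImg x) = _
      rw [hx]
    · have hf' : f < 1408 := by
        have := List.all_eq_true.1 openFix_checks.2.2.1 f hf
        rwa [Nat.blt_eq] at this
      set g := (rho a b c m)⁻¹ ⟨f, hf'⟩ with hg
      have hgf : rho a b c m g = ⟨f, hf'⟩ := perm_self_inv _ _
      have hgfix : openFix.any (Nat.beq (g : ℕ)) = true := by
        rw [← openFix_iff, ← eImg_fix_iff hm, hgf, openFix_iff]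
        exact List.any_eq_true.2 ⟨f, hf, beq_true rfl⟩
      obtain ⟨g', hg', eg⟩ := List.any_eq_true.1 hgfix
      have hbad := habs z hz g' hg'
      rw [← Nat.eq_of_beq_eq_true eg] at hbad
      rw [Bool.not_eq_true', Bool.eq_false_iff] at hbad
      refine hbad ?_
      rw [Bool.and_eq_true]
      obtain ⟨e1, e2⟩ := hzf
      refine ⟨beq_true ?_, beq_true ?_⟩
      · rw [← Nat.eq_of_beq_eq_true e1, ← hx, ← ocol_rho h m hxk' hqk rfl g, hgf]
      · rw [← Nat.eq_of_beq_eq_true e2, ← hlab g, hgf]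

/-- A subgroup is at most the number of possible images times the stabiliser of the point. -/
theorem card_le_orbit {M : Type*} [Group M] [Finite M] (ρ : M →* Equiv.Perm (Fin 1408)) (H : Subgroup M)
    (x : Fin 1408) (S : List ℕ) (hS : ∀ m ∈ H, ((ρ m x : Fin 1408) : ℕ) ∈ S) {l : List ℕ}
    (hH : H = H ⊓ fixOf ρ l) :
    Nat.card H ≤ S.length * Nat.card ↥(H ⊓ fixOf ρ (x.1 :: l)) := by
  classical
  let R : Fin 1408 → M := fun y => if hy : ∃ g ∈ H, ρ g x = y then hy.choose else 1
  have hR : ∀ g ∈ H, R (ρ g x) ∈ H ∧ ρ (R (ρ g x)) x = ρ g x := by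
    intro g hg
    have hy : ∃ g' ∈ H, ρ g' x = ρ g x := ⟨g, hg, rfl⟩
    simp only [R, dif_pos hy]
    exact hy.choose_spec
  have hk : ∀ g : H, (R (ρ g.1 x))⁻¹ * g.1 ∈ H ⊓ fixOf ρ (x.1 :: l) := by
    intro g
    obtain ⟨h1, h2⟩ := hR g.1 g.2
    have h3 := mul_mem (inv_mem h1) g.2
    refine Subgroup.mem_inf.2 ⟨h3, fun i hi => ?_⟩
    rcases List.mem_cons.1 hi with hi | hi
    · obtain rfl : i = x := Fin.ext hi
      rw [map_mul, map_inv, Equiv.Perm.mul_apply, Equiv.Perm.inv_eq_iff_eq]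
      exact h2.symm
    · exact (Subgroup.mem_inf.1 (hH ▸ h3 : _ ∈ H ⊓ fixOf ρ l)).2 i hi
  let F : H → {y // y ∈ S.toFinset} × ↥(H ⊓ fixOf ρ (x.1 :: l)) := fun g =>
    (⟨(ρ g.1 x : Fin 1408), List.mem_toFinset.2 (hS _ g.2)⟩, ⟨_, hk g⟩)
  have hF : Function.Injective F := by
    intro g g' e
    simp only [F, Prod.mk.injEq, Subtype.mk.injEq] at e
    have e1 : ρ g.1 x = ρ g'.1 x := Fin.ext e.1
    have e2 := e.2
    rw [e1] at e2
    exact Subtype.ext (mul_left_cancel e2)
  refine (Nat.card_le_card_of_injective F hF).trans ?_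
  rw [Nat.card_prod, Nat.card_eq_fintype_card (α := {y // y ∈ S.toFinset}), Fintype.card_coe]
  exact Nat.mul_le_mul_right _ (List.toFinset_card_le S)

theorem fix_pts (h : XYZRels a b c) : fixOf (rho a b c) [336, 76, 724, 170, 128, 0] = ⊥ := by
  haveI := m_finite h
  obtain ⟨h1, h2, h3⟩ := level_checks
  have := chain_bound (mA a b c) (mB a b c) (mC a b c) (rho a b c) rfl rfl rfl ⊤ h1
    (fun _ _ w _ => Subgroup.mem_top _)
  rw [h2, h3, top_inf_eq, top_inf_eq] at this
  have h0 := Subgroup.card_le_card_group (fixOf (rho a b c) [])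
  rw [m_card h] at h0
  have hpos : 0 < Nat.card (fixOf (rho a b c) [336, 76, 724, 170, 128, 0]) := Nat.card_pos
  exact Subgroup.card_eq_one.1 (by omega)

/-- The centraliser has at most 1440 elements. -/
theorem card_sqC_le (h : XYZRels a b c) : Nat.card (sqC a b c) ≤ 1440 := by
  classical
  haveI := m_finite h
  set ρ := rho a b c with hρ
  set C := sqC a b c with hC
  have hsteps := step_checks
  simp only [openSteps, List.all_cons, List.all_nil, Bool.and_eq_true] at hsteps
  obtain ⟨s1, s2, s3, s4, s5, s6, -⟩ := hsteps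
  have base0 : Nat.card C ≤ openFix.length * Nat.card ↥(C ⊓ fixOf ρ [0]) := by
    refine card_le_orbit ρ C 0 openFix (fun m hm => ?_) (l := []) ?_
    · have h0 : eImg (0 : Fin 1408) = (0 : Fin 1408) :=
        Nat.eq_of_beq_eq_true openFix_checks.2.2.2
      have := (openFix_iff _).1 ((eImg_fix_iff hm 0).2 h0)
      obtain ⟨y, hy, e⟩ := List.any_eq_true.1 this
      exact (Nat.eq_of_beq_eq_true e).symm ▸ hy
    · refine (inf_eq_left.2 ?_).symm
      exact fun m _ i hi => absurd hi List.not_mem_nil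
  have step : ∀ (S : OpenStep), stepOk S = true → ∀ (l : List ℕ) (x : Fin 1408), x.1 = S.pt →
      0 ∈ l → (∀ p ∈ S.prev, p ∈ l) →
      Nat.card ↥(C ⊓ fixOf ρ l) ≤ S.cands.length * Nat.card ↥(C ⊓ fixOf ρ (x.1 :: l)) := by
    intro S hS l x hx h0 hl
    have := card_le_orbit ρ (C ⊓ fixOf ρ l) x S.cands (fun m hm => step_mem h hS
      (Subgroup.mem_inf.1 hm).1 ((Subgroup.mem_inf.1 hm).2 0 h0)
      (fun p hp => (Subgroup.mem_inf.1 hm).2 p (hl p.1 hp)) hx) (l := l) (by rw [inf_assoc, inf_idem])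
    refine this.trans (Nat.mul_le_mul_left _ (Subgroup.card_le_of_le ?_))
    exact inf_le_inf_right _ inf_le_left
  have b1 := step _ s1 [0] ⟨190, by decide⟩ rfl (by decide) (by decide)
  have b2 := step _ s2 [190, 0] ⟨128, by decide⟩ rfl (by decide) (by decide)
  have b3 := step _ s3 [128, 190, 0] ⟨170, by decide⟩ rfl (by decide) (by decide)
  have b4 := step _ s4 [170, 128, 190, 0] ⟨724, by decide⟩ rfl (by decide) (by decide)
  have b5 := step _ s5 [724, 170, 128, 190, 0] ⟨76, by decide⟩ rfl (by decide) (by decide)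
  have b6 := step _ s6 [76, 724, 170, 128, 190, 0] ⟨336, by decide⟩ rfl (by decide) (by decide)
  have hend : Nat.card ↥(C ⊓ fixOf ρ [336, 76, 724, 170, 128, 190, 0]) = 1 := by
    rw [Subgroup.card_eq_one, eq_bot_iff, ← fix_pts h]
    exact fun m hm i hi => (Subgroup.mem_inf.1 hm).2 i
      ((by decide : ∀ p ∈ ([336, 76, 724, 170, 128, 0] : List ℕ), p ∈ ([336, 76, 724, 170, 128, 190, 0] : List ℕ)) i.1 hi)
  have hl : openFix.length = 40 := Nat.eq_of_beq_eq_true openFix_checks.2.1
  simp only [List.length_cons, List.length_nil] at b1 b2 b3 b4 b5 b6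
  rw [hl] at base0
  omega

end CfsgLib.HNRec.Fusion
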