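import Cfsg.Agent.Lib.HNRec.Fusion.SylowDefs
import Cfsg.Agent.Lib.HNRec.Fusion.OpenTableData

/-!
# The checkable conditions on the centraliser of an element of order three
-/

set_option autoImplicit false

namespace CfsgLib.HNRec.Fusion

open CfsgLib.HNxyz CfsgLib.HNIndex

/-- The word of a generator. -/
def openG (j : ℕ) : List ℕ := openGWords.getD j []

/-- The packed images of a generator. -/
def openCells : ℕ → List ℕ
  | 0 => openCells0
  | 1 => openCells1
  | 2 => openCells2
  | _ => openCells3

/-- The image of a point under a generator. -/
def openStep (j i : ℕ) : ℕ := ((openCells j).getD (i / 32) 0 >>> (11 * (i % 32))) % 2048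

/-- The image of a point under a sequence of generators. -/
def openFold : List ℕ → ℕ → ℕ
  | [], i => i
  | j :: s, i => openFold s (openStep j i)

/-- The word of a sequence of generators. -/
def openWord (s : List ℕ) : List ℕ := (s.map openG).flatten

/-- The sequence of an element. -/
def openSeq (i : ℕ) : List ℕ := blockAt openSeqs i

/-- The key of an element. -/
def openKey (i : ℕ) : List ℕ := blockAt openKeys i

/-- The position of the product with a generator. -/
def openNext (i j : ℕ) : ℕ := (blockAt openNexts i).getD j 0

/-- A generator agrees with its word and commutes with the element of order three. -/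
def openGenOk (j : ℕ) : Bool :=
  okW (openG j) && beqL (kW (openG j ++ openE)) (kW (openE ++ openG j)) &&
    (List.range 1408).all fun i => Nat.beq (img (openG j) i) (openStep j i)

/-- An element agrees with its key, and its products with the generators are listed. -/
def openElemOk (i : ℕ) : Bool :=
  (openSeq i).all (fun j => Nat.blt j 4) && beqL (base.map (openFold (openSeq i))) (openKey i) &&
    (List.range 4).all fun j =>
      Nat.blt (openNext i j) 1440 && beqL ((openKey i).map (openStep j)) (openKey (openNext i j))

/-- Each element is neutral, a listed involution, or squares to something else. -/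
def openSquareOk (i : ℕ) : Bool :=
  !beqL ((openKey i).map (openFold (openSeq i))) base || Nat.beq i openOne || openInvPos.any (Nat.beq i)

/-- A listed involution has the listed key and class. -/
def openInvOk (p : (List ℕ × ℕ × List ℕ) × ℕ) : Bool :=
  okW p.1.1 && okW p.1.2.2 && Nat.blt p.1.2.1 5 && beqL (kW p.1.1) (openKey p.2) &&
    beqL (kW (cjWord p.1.2.1 p.1.2.2)) (openKey p.2)

/-- An element of the Sylow 3-subgroup is conjugate to the element of order three. -/
def openThreeOk (p : ℕ × ℕ × List ℕ) : Bool :=
  okW p.2.2 && Nat.blt p.1 3 && Nat.blt p.2.1 3 &&
    beqL (kW (HNIndex.invW p.2.2 ++ openE ++ p.2.2))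
      (kW ((List.replicate p.1 openE).flatten ++ (List.replicate p.2.1 openE2).flatten))

end CfsgLib.HNRec.Fusion
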