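import Cfsg.Agent.Lib.HNRec.Fusion.Sylow
import Cfsg.Agent.Lib.HNRec.Fusion.ReduceChecks

/-!
# The centraliser of an element of order seven in the group of triples

It has order 28; so an involution commuting with an element of order seven is conjugate to
the central involution or to the third generator.
-/

set_option autoImplicit false
set_option maxRecDepth 100000
set_option linter.style.haveILetI false

namespace CfsgLib.HNRec.Fusion

open CfsgLib.HNxyz CfsgLib.HNIndex
open scoped Pointwise

theorem perm_inv_self {α : Type*} (σ : Equiv.Perm α) (x : α) : σ⁻¹ (σ x) = x := σ.symm_apply_apply x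

theorem perm_self_inv {α : Type*} (σ : Equiv.Perm α) (x : α) : σ (σ⁻¹ x) = x := σ.apply_symm_apply x

theorem beq_true {m n : ℕ} (h : m = n) : Nat.beq m n = true := by rw [Nat.beq_eq]; exact h

theorem mem_normalizer_zpowers {M : Type*} [Group M] {e x : M}
    (h : Subgroup.zpowers (x * e * x⁻¹) = Subgroup.zpowers e) :
    x ∈ Subgroup.normalizer (Subgroup.zpowers e : Set M) := by
  have hmap : ∀ i : ℤ, x * e ^ i * x⁻¹ = (x * e * x⁻¹) ^ i := fun i => by
    rw [show x * e * x⁻¹ = MulAut.conj x e from rfl, ← map_zpow]; rfl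
  rw [Subgroup.mem_normalizer_iff]
  intro y
  constructor
  · intro hy
    obtain ⟨i, rfl⟩ := Subgroup.mem_zpowers_iff.1 hy
    rw [hmap, ← h]
    exact zpow_mem (Subgroup.mem_zpowers _) i
  · intro hy
    rw [← h] at hy
    obtain ⟨i, hi⟩ := Subgroup.mem_zpowers_iff.1 hy
    rw [← hmap] at hi
    have : e ^ i = y := mul_left_cancel (mul_right_cancel hi)
    exact this ▸ zpow_mem (Subgroup.mem_zpowers e) i

variable {G : Type} [Group G] {a b c : G}

theorem rho_inv_img {w : List ℕ} (hw : ∀ g ∈ w, g < 6) (i : Fin 1408) :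
    (((rho a b c (mW a b c w))⁻¹ i : Fin 1408) : ℕ) = img w i := by
  rw [rho_mW]; exact img_spec hw i

theorem rho_img {w : List ℕ} (hw : ∀ g ∈ w, g < 6) (i : Fin 1408) :
    ((rho a b c (mW a b c w) i : Fin 1408) : ℕ) = img (HNIndex.invW w) i := by
  have hi := invW_lt hw
  rw [← rho_inv_img (a := a) (b := b) (c := c) hi, mW, mW, evalW_invW _ _ _ hi, map_inv, inv_inv]

/-- The stabiliser of the point 0 preserves the labels. -/
theorem lab_fix (h : XYZRels a b c) {m : Mg a b c} (hm : m ∈ fixOf (rho a b c) [0]) (i : Fin 1408) :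
    lab (rho a b c m i) = lab i := by
  rw [fix_zero h] at hm
  have hc := lab_checks
  simp only [List.all_eq_true, List.mem_cons, List.not_mem_nil, or_false, List.mem_range,
    Nat.beq_eq] at hc
  have e : ∀ (w : List ℕ), (∀ g ∈ w, g < 6) → (∀ j < 1408, lab (img w j) = lab j) → ∀ i : Fin 1408,
      lab (rho a b c (mW a b c w) i) = lab i := by
    intro w hw hl i
    have := hl (rho a b c (mW a b c w) i) (Fin.is_lt _)
    rw [← rho_inv_img (a := a) (b := b) (c := c) hw, perm_inv_self] at this
    exact this.symm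
  induction hm using Subgroup.closure_induction generalizing i with
  | mem x hx =>
    rcases hx with rfl | rfl
    · have : mB a b c = mW a b c [2] := by simp [mW, evalW, elt]
      rw [this]
      exact e _ (by decide) (fun j hj => hc _ (Or.inl rfl) j hj) i
    · have : (mA a b c)⁻¹ * mB a b c * mA a b c = mW a b c [1, 2, 0] := by
        simp [mW, evalW, elt, mul_assoc]
      rw [this]
      exact e _ (by decide) (fun j hj => hc _ (Or.inr (Or.inr (Or.inl rfl))) j hj) i
  | one => simp
  | mul x y _ _ hx hy => rw [map_mul, Equiv.Perm.mul_apply, hx, hy]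
  | inv x _ hx =>
    have h2 := hx ((rho a b c x)⁻¹ i)
    rw [perm_self_inv] at h2
    rw [map_inv, h2]

/-- A point with a carrying word. -/
def Known (p : ℕ) : Prop := carryWords.any (fun e => Nat.beq e.1 p) = true

theorem carry_spec {p : ℕ} (hp : Known p) : (∀ g ∈ carry p, g < 6) ∧ img (carry p) 0 = p ∧ p < 1408 := by
  obtain ⟨e, hfe⟩ : ∃ e, carryWords.find? (fun e => Nat.beq e.1 p) = some e :=
    Option.isSome_iff_exists.1 (List.find?_isSome.2 (List.any_eq_true.1 hp))
  have h2 := List.all_eq_true.1 carry_checks.1 e (List.mem_of_find?_eq_some hfe)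
  simp only [Bool.and_eq_true, Nat.blt_eq, Nat.beq_eq] at h2
  have h3 : e.1 = p := Nat.eq_of_beq_eq_true (List.find?_some (p := fun e : ℕ × List ℕ => Nat.beq e.1 p) hfe)
  rw [carry, hfe, Option.getD_some]
  exact ⟨okW_iff.1 h2.1.1, h3 ▸ h2.2, h3 ▸ h2.1.2⟩

/-- The labels of pairs are invariant. -/
theorem col_rho (h : XYZRels a b c) (m : Mg a b c) {p q i : Fin 1408} (hp : Known p) (hq : Known q)
    (hpq : rho a b c m p = q) : col q (rho a b c m i) = col p i := by
  obtain ⟨h1, h1', -⟩ := carry_spec hp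
  obtain ⟨h2, h2', -⟩ := carry_spec hq
  have h0 : ∀ {x : Fin 1408} {w : List ℕ}, (∀ g ∈ w, g < 6) → img w 0 = x →
      rho a b c (mW a b c w) x = 0 := by
    intro x w hw hx
    have : (rho a b c (mW a b c w))⁻¹ 0 = x := Fin.ext (by rw [rho_inv_img hw]; exact hx)
    rw [← this, perm_self_inv]
  set u := mW a b c (carry q) * m * (mW a b c (carry p))⁻¹ with hu
  have hmem : u ∈ fixOf (rho a b c) [0] := by
    intro x hx
    rw [List.mem_singleton] at hx
    have hx' : x = 0 := Fin.ext hx
    subst hx'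
    have : (rho a b c (mW a b c (carry p)))⁻¹ 0 = p := by
      rw [Equiv.Perm.inv_eq_iff_eq]; exact (h0 h1 h1').symm
    rw [hu, map_mul, map_mul, map_inv, Equiv.Perm.mul_apply, Equiv.Perm.mul_apply, this, hpq]
    exact h0 h2 h2'
  have h3 := lab_fix h hmem (rho a b c (mW a b c (carry p)) i)
  rw [hu, map_mul, map_mul, map_inv, Equiv.Perm.mul_apply, Equiv.Perm.mul_apply,
    perm_inv_self] at h3
  rw [col, col, ← rho_img (a := a) (b := b) (c := c) h2, ← rho_img (a := a) (b := b) (c := c) h1]
  exact h3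

variable (a b c)

/-- The element of order seven. -/
noncomputable def seven : Mg a b c := mW a b c sevenW

/-- Its centraliser. -/
noncomputable def sevenC : Subgroup (Mg a b c) := Subgroup.centralizer {seven a b c}

variable {a b c}

theorem sevenW_ok : ∀ g ∈ sevenW, g < 6 := okW_iff.1 seven_checks.1

theorem comm_rho {m : Mg a b c} (hm : m ∈ sevenC a b c) (i : Fin 1408) :
    (rho a b c (seven a b c))⁻¹ (rho a b c m i) = rho a b c m ((rho a b c (seven a b c))⁻¹ i) := by
  have e : Commute m (seven a b c) := Subgroup.mem_centralizer_singleton_iff.1 hm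
  have e2 := DFunLike.congr_fun (e.inv_right.map (rho a b c)).eq i
  rw [map_inv] at e2
  exact e2.symm

theorem mem_fix_list {m : Mg a b c} (hm : m ∈ sevenC a b c) :
    ((rho a b c m 0 : Fin 1408) : ℕ) ∈ sevenFix := by
  obtain ⟨hf, -, -, -, hz⟩ := fix_checks
  simp only [fix0, Bool.and_eq_true, List.all_eq_true, Nat.blt_eq, Nat.beq_eq] at hz
  have h0 : (rho a b c (seven a b c))⁻¹ 0 = 0 := Fin.ext (by
    rw [seven, rho_inv_img sevenW_ok]; exact hz.2)
  have h1 := comm_rho hm 0
  rw [h0] at h1
  have h2 : img sevenW (rho a b c m 0) = (rho a b c m 0 : Fin 1408) := by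
    rw [← rho_inv_img (a := a) (b := b) (c := c) sevenW_ok]; exact congrArg Fin.val h1
  have h3 := List.all_eq_true.1 hf _ (List.mem_range.2 (rho a b c m 0).is_lt)
  rw [show Nat.beq (img sevenW (rho a b c m 0)) (rho a b c m 0 : Fin 1408) = true from
    beq_true h2, beq_iff_eq] at h3
  obtain ⟨x, hx, he⟩ := List.any_eq_true.1 h3.symm
  exact (Nat.eq_of_beq_eq_true he).symm ▸ hx

theorem known_pin {p : ℕ} (hp : p ∈ pinPts ++ [879, 14, 23, 208, 7] ++ sevenSub) : Known p :=
  List.all_eq_true.1 carry_checks.2 p hp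

/-- The ninth point under an element of the centraliser fixing the point 0. -/
theorem mem_orb (h : XYZRels a b c) {m : Mg a b c} (hm : m ∈ sevenC a b c) (h0 : rho a b c m 0 = 0) :
    ((rho a b c m ⟨9, by decide⟩ : Fin 1408) : ℕ) ∈ sevenOrb := by
  obtain ⟨hs1, hs2, -, -⟩ := sub_checks
  set p : Fin 1408 := ⟨9, by decide⟩
  have hl : lab (rho a b c m p) = lab 9 := lab_fix h (fun x hx => by
    rw [List.mem_singleton] at hx
    rw [show x = (0 : Fin 1408) from Fin.ext hx]; exact h0) p
  have h1 := List.all_eq_true.1 hs1 _ (List.mem_range.2 (rho a b c m p).is_lt)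
  rw [show Nat.beq (lab (rho a b c m p)) (lab 9) = true from beq_true hl, Bool.not_true,
    Bool.false_or] at h1
  obtain ⟨x, hx, he⟩ := List.any_eq_true.1 h1
  obtain rfl : ((rho a b c m p : Fin 1408) : ℕ) = x := Nat.eq_of_beq_eq_true he
  have h2 := List.all_eq_true.1 hs2 _ hx
  have hp9 : Known (p : ℕ) := known_pin (by decide)
  have hc : col (rho a b c m p : Fin 1408) (img sevenW (rho a b c m p : Fin 1408)) =
      col 9 (img sevenW 9) := by
    rw [← rho_inv_img (a := a) (b := b) (c := c) sevenW_ok, ← seven, comm_rho hm,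
      col_rho h m hp9 (known_pin (List.mem_append_right _ hx)) rfl, seven,
      rho_inv_img (a := a) (b := b) (c := c) sevenW_ok]
  rw [show Nat.beq (col _ (img sevenW (rho a b c m p : Fin 1408))) (col 9 (img sevenW 9)) = true from
    beq_true hc, Bool.not_true, Bool.false_or] at h2
  obtain ⟨y, hy, he'⟩ := List.any_eq_true.1 h2
  exact (Nat.eq_of_beq_eq_true he').symm ▸ hy

/-- An element of the centraliser fixing 0 and 9 is neutral. -/
theorem eq_one (h : XYZRels a b c) {m : Mg a b c} (hm : m ∈ sevenC a b c) (h0 : rho a b c m 0 = 0)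
    (h9 : rho a b c m ⟨9, by decide⟩ = ⟨9, by decide⟩) : m = 1 := by
  obtain ⟨-, -, hh, hk⟩ := sub_checks
  have horb : ∀ k < 7, ∀ hlt : sevenOrb.getD k 0 < 1408,
      rho a b c m ⟨sevenOrb.getD k 0, hlt⟩ = ⟨sevenOrb.getD k 0, hlt⟩ := by
    intro k
    induction k with
    | zero =>
      intro _ hlt
      have e : (⟨sevenOrb.getD 0 0, hlt⟩ : Fin 1408) = ⟨9, by decide⟩ := Fin.ext (Nat.eq_of_beq_eq_true hh)
      rw [e]; exact h9
    | succ k ih =>
      intro hk7 hlt
      have hk' : img sevenW (sevenOrb.getD k 0) = sevenOrb.getD (k + 1) 0 :=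
        Nat.eq_of_beq_eq_true (List.all_eq_true.1 hk k (List.mem_range.2 (by omega)))
      have hklt : sevenOrb.getD k 0 < 1408 := by
        clear ih hk' hlt
        have : ∀ j < 7, sevenOrb.getD j 0 < 1408 := by decide
        exact this k (by omega)
      have e : (⟨sevenOrb.getD (k + 1) 0, hlt⟩ : Fin 1408) =
          (rho a b c (seven a b c))⁻¹ ⟨sevenOrb.getD k 0, hklt⟩ :=
        Fin.ext (by rw [seven, rho_inv_img sevenW_ok]; exact hk'.symm)
      rw [e, ← comm_rho hm, ih (by omega) hklt]
  have hpin : ∀ p ∈ pinPts, ∀ hlt : p < 1408, rho a b c m ⟨p, hlt⟩ = ⟨p, hlt⟩ := by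
    intro p hp hlt
    rcases List.mem_cons.1 hp with rfl | hp
    · exact h0
    · obtain ⟨k, hk2, rfl⟩ := List.getElem_of_mem hp
      have hk7 : k < 7 := by
        have := fix_checks.2.2.1; rw [Nat.beq_eq] at this; omega
      have e := horb k hk7 (by rwa [List.getD_eq_getElem sevenOrb 0 hk2])
      simp only [List.getD_eq_getElem sevenOrb 0 hk2] at e
      exact e
  have huniq : ∀ (pts : List ℕ), (∀ p ∈ pts, Known p) →
      (∀ p ∈ pts, ∀ hlt : p < 1408, rho a b c m ⟨p, hlt⟩ = ⟨p, hlt⟩) →
      ∀ r : Fin 1408, uniqueOk pts r = true → rho a b c m r = r := by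
    intro pts hkn hfix r hr
    have := List.all_eq_true.1 hr _ (List.mem_range.2 (rho a b c m r).is_lt)
    simp only [Bool.or_eq_true, Nat.beq_eq, Bool.not_eq_true'] at this
    rcases this with e | e
    · exact Fin.ext e
    · exfalso
      rw [← Bool.not_eq_true] at e
      refine e (List.all_eq_true.2 fun p hp => beq_true ?_)
      exact col_rho h m (p := ⟨p, (carry_spec (hkn p hp)).2.2⟩) (q := ⟨p, (carry_spec (hkn p hp)).2.2⟩)
        (i := r) (hkn p hp) (hkn p hp) (hfix p hp _)
  obtain ⟨hp1, hp2⟩ := pin_checks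
  have hext : ∀ p ∈ pinPts ++ [879, 14, 23, 208, 7], ∀ hlt : p < 1408,
      rho a b c m ⟨p, hlt⟩ = ⟨p, hlt⟩ := by
    intro p hp hlt
    rcases List.mem_append.1 hp with hp' | hp'
    · exact hpin p hp' hlt
    · exact huniq pinPts (fun q hq => known_pin (by simp [hq])) hpin ⟨p, hlt⟩
        (List.all_eq_true.1 hp1 p hp')
  refine Subgroup.mem_bot.1 (fix_base h ▸ fun x hx => ?_)
  have := List.all_eq_true.1 hp2 x hx
  simp only [Bool.or_eq_true, List.any_eq_true, Nat.beq_eq] at this
  rcases this with ⟨y, hy, e⟩ | e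
  · exact hext x (e ▸ hy) x.2
  · refine huniq (pinPts ++ [879, 14, 23, 208]) (fun q hq => known_pin ?_) (fun q hq => hext q ?_) x e
    · simp only [List.mem_append, List.mem_cons, List.not_mem_nil, or_false] at hq ⊢; tauto
    · simp only [List.mem_append, List.mem_cons, List.not_mem_nil, or_false] at hq ⊢; tauto

theorem card_sevenC_le (h : XYZRels a b c) : Nat.card (sevenC a b c) ≤ 56 := by
  classical
  haveI := m_finite h
  let R : Fin 1408 → Mg a b c := fun x =>
    if hx : ∃ g ∈ sevenC a b c, rho a b c g 0 = x then hx.choose else 1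
  have hR : ∀ g ∈ sevenC a b c, R (rho a b c g 0) ∈ sevenC a b c ∧
      rho a b c (R (rho a b c g 0)) 0 = rho a b c g 0 := by
    intro g hg
    have hx : ∃ g' ∈ sevenC a b c, rho a b c g' 0 = rho a b c g 0 := ⟨g, hg, rfl⟩
    simp only [R, dif_pos hx]
    exact hx.choose_spec
  have hm : ∀ g : sevenC a b c, (R (rho a b c g.1 0))⁻¹ * g.1 ∈ sevenC a b c ∧
      rho a b c ((R (rho a b c g.1 0))⁻¹ * g.1) 0 = 0 := by
    intro g
    obtain ⟨h1, h2⟩ := hR g.1 g.2
    refine ⟨mul_mem (inv_mem h1) g.2, ?_⟩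
    rw [map_mul, map_inv, Equiv.Perm.mul_apply, Equiv.Perm.inv_eq_iff_eq]
    exact h2.symm
  let F : sevenC a b c → {x // x ∈ sevenFix.toFinset} × {x // x ∈ sevenOrb.toFinset} := fun g =>
    (⟨(rho a b c g.1 0 : Fin 1408), List.mem_toFinset.2 (mem_fix_list g.2)⟩,
     ⟨(rho a b c ((R (rho a b c g.1 0))⁻¹ * g.1) ⟨9, by decide⟩ : Fin 1408),
      List.mem_toFinset.2 (mem_orb h (hm g).1 (hm g).2)⟩)
  have hF : Function.Injective F := by
    intro g g' e
    simp only [F, Prod.mk.injEq, Subtype.mk.injEq] at e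
    have e1 : rho a b c g.1 0 = rho a b c g'.1 0 := Fin.ext e.1
    have e2 := e.2
    rw [e1] at e2
    have hg := hm g
    rw [e1] at hg
    have hg' := hm g'
    set u := R (rho a b c g'.1 0)
    have := eq_one h (mul_mem (inv_mem hg.1) hg'.1)
      (by rw [map_mul, map_inv, Equiv.Perm.mul_apply, hg'.2, Equiv.Perm.inv_eq_iff_eq, hg.2])
      (by rw [map_mul, map_inv, Equiv.Perm.mul_apply, Equiv.Perm.inv_eq_iff_eq, Fin.ext e2])
    rw [inv_mul_eq_one] at this
    exact Subtype.ext (mul_left_cancel this)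
  refine (Nat.card_le_card_of_injective F hF).trans ?_
  rw [Nat.card_prod, Nat.card_eq_fintype_card, Nat.card_eq_fintype_card, Fintype.card_coe,
    Fintype.card_coe]
  decide

theorem mW_invW {w : List ℕ} (hw : ∀ g ∈ w, g < 6) :
    mW a b c (HNIndex.invW w) = (mW a b c w)⁻¹ :=
  evalW_invW _ _ _ (invW_lt hw)

/-- An involution commuting with an element of order seven is the central one or a conjugate of z. -/
theorem seven_cases (h : XYZRels a b c) {s f : Mg a b c} (hs1 : s ≠ 1) (hs2 : s * s = 1)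
    (hf : orderOf f = 7) (hfs : Commute s f) :
    s = mW a b c [0, 0] ∨ ∃ m : Mg a b c, m * s * m⁻¹ = mW a b c [4] := by
  haveI := m_finite h
  haveI : Fact (Nat.Prime 7) := ⟨by norm_num⟩
  haveI : Fact (Nat.Prime 2) := ⟨Nat.prime_two⟩
  obtain ⟨hk1, hk2, hk3, hk4, he7, hne, hve, hau, hct, hz1, hzt, hzz, htt⟩ := seven_checks
  simp only [beqL_iff, Bool.not_eq_true'] at he7 hne hve hau hct hz1 hzt hzz htt
  have hwW := okW_iff.1 hk1
  have hvW := okW_iff.1 hk2
  have hcW := okW_iff.1 hk3
  have haW := okW_iff.1 hk4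
  have h4 : ∀ g ∈ ([4] : List ℕ), g < 6 := by decide
  have h00 : ∀ g ∈ ([0, 0] : List ℕ), g < 6 := by decide
  set e := seven a b c with he
  set T := mW a b c [0, 0] with hT
  set z := mW a b c [4] with hz
  set v := mW a b c sevenV with hv
  set w := mW a b c sevenCv with hw
  have hnil : mW a b c ([] : List ℕ) = 1 := evalW_nil _
  have he1 : e ≠ 1 := by
    intro e'
    have := kW_of_mW (v := []) hwW (by simp) (e'.trans hnil.symm)
    rw [show kW [] = base from by simp [kW, img], ← beqL_iff, hne] at this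
    exact absurd this (by decide)
  have hp7 : orderOf e = 7 := by
    refine orderOf_eq_prime ?_ he1
    have hok7 : ∀ g ∈ (List.replicate 7 sevenW).flatten, g < 6 := fun g hg => by
      simp only [List.mem_flatten, List.mem_replicate] at hg
      obtain ⟨_, ⟨-, rfl⟩, hg⟩ := hg
      exact hwW g hg
    have e7 := mW_of_kW h hok7 (v := []) (by simp) (he7.trans (by simp [kW, img]))
    rw [hnil] at e7
    rw [← e7]
    simp only [List.replicate, List.flatten_cons, List.flatten_nil, mW_append, hnil, mul_one]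
    simp only [pow_succ, pow_zero, one_mul, he, seven, mul_assoc]
  have hTc : ∀ m : Mg a b c, Commute T m := by
    intro m
    have key : ∀ g : ℕ, g < 6 → beqL (kW ([0, 0] ++ [g])) (kW ([g] ++ [0, 0])) = true := by decide +kernel
    have hmem : m ∈ Subgroup.closure {mA a b c, mB a b c, mC a b c} := by
      rw [show Subgroup.closure {mA a b c, mB a b c, mC a b c} = ⊤ from (mData h).top]; trivial
    have hgen : ∀ g, g < 6 → Commute T (mW a b c [g]) := fun g hg => by
      show T * _ = _ * T
      rw [hT, ← mW_append, ← mW_append]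
      exact mW_of_kW h (ok_append h00 (by simpa using hg)) (ok_append (by simpa using hg) h00)
        (beqL_iff.1 (key g hg))
    refine Subgroup.closure_induction (p := fun x _ => Commute T x) ?_ (Commute.one_right _)
      (fun _ _ _ _ hx hy => hx.mul_right hy) (fun _ _ hx => hx.inv_right) hmem
    rintro x (rfl | rfl | rfl)
    · simpa [mW, evalW, elt] using hgen 0 (by decide)
    · simpa [mW, evalW, elt] using hgen 2 (by decide)
    · simpa [mW, evalW, elt] using hgen 4 (by decide)
  have hTT : T * T = 1 := by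
    rw [hT, ← mW_append, ← hnil]
    exact mW_of_kW h (ok_append h00 h00) (by simp) (htt.trans (by simp [kW, img]))
  have hzz' : z * z = 1 := by
    rw [hz, ← mW_append, ← hnil]
    exact mW_of_kW h (ok_append h4 h4) (by simp) (hzz.trans (by simp [kW, img]))
  have hvz : v = w * z * w⁻¹ := by
    rw [hv, sevenV, mW_append, mW_append, mW_invW hcW]
  have hz1' : z ≠ 1 := fun e' => by
    have := kW_of_mW (v := []) h4 (by simp) (e'.trans hnil.symm)
    rw [show kW [] = base from by simp [kW, img], ← beqL_iff, hz1] at this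
    exact absurd this (by decide)
  have hzT : z ≠ T := fun e' => by
    have := kW_of_mW h4 h00 e'
    rw [← beqL_iff, hzt] at this
    exact absurd this (by decide)
  have hv1 : v ≠ 1 := by rw [hvz]; exact fun e' => hz1' (conj_eq_one_iff.1 e')
  have hvv : v * v = 1 := by
    rw [hvz, show w * z * w⁻¹ * (w * z * w⁻¹) = w * (z * z) * w⁻¹ by group, hzz']; group
  have hvT : v ≠ T := fun e' => hzT <| by
    calc z = w⁻¹ * v * w := by rw [hvz]; group
      _ = w⁻¹ * (T * w) := by rw [e', mul_assoc]
      _ = T := by rw [(hTc w).eq]; group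
  have hve' : Commute v e := by
    show v * e = e * v
    rw [hv, he, seven, ← mW_append, ← mW_append]
    exact mW_of_kW h (ok_append hvW hwW) (ok_append hwW hvW) hve
  -- the four-group and the order of the centraliser
  set C := sevenC a b c with hC
  have heC : e ∈ C := Subgroup.mem_centralizer_singleton_iff.2 rfl
  have hTC : T ∈ C := Subgroup.mem_centralizer_singleton_iff.2 (hTc e).eq
  have hvC : v ∈ C := Subgroup.mem_centralizer_singleton_iff.2 hve'.eq
  let V : Subgroup (Mg a b c) :=
    { carrier := {1, T, v, v * T}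
      one_mem' := Or.inl rfl
      mul_mem' := by
        have hTv : T * v = v * T := (hTc v).eq
        intro x y hx hy
        rcases hx with rfl | rfl | rfl | rfl <;> rcases hy with rfl | rfl | rfl | rfl <;>
          simp only [Set.mem_insert_iff, Set.mem_singleton_iff, one_mul, mul_one, hTT, hvv, hTv,
            ← mul_assoc, true_or, or_true] <;>
          simp only [mul_assoc, hTT, hTv, mul_one] <;>
          simp only [← mul_assoc, hvv, one_mul, hTT, true_or, or_true]
      inv_mem' := by
        intro x hx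
        have : ∀ y : Mg a b c, y * y = 1 → y⁻¹ = y := fun y hy => inv_eq_of_mul_eq_one_right hy
        rcases hx with rfl | rfl | rfl | rfl
        · simp
        · exact Or.inr (Or.inl (this _ hTT))
        · exact Or.inr (Or.inr (Or.inl (this _ hvv)))
        · refine Or.inr (Or.inr (Or.inr (this _ ?_)))
          rw [mul_assoc, ← mul_assoc T, (hTc v).eq, mul_assoc v T, hTT, mul_one, hvv] }
  have hT1 : T ≠ 1 := fun e' => by
    have := kW_of_mW (v := []) h00 (by simp) (e'.trans hnil.symm)
    revert this; decide +kernel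
  have hVcard : Nat.card V = 4 := by
    show Nat.card ({1, T, v, v * T} : Set (Mg a b c)) = 4
    rw [Nat.card_coe_set_eq]
    have h5 : v * T ≠ 1 := fun e' => hvT (by rw [← inv_eq_of_mul_eq_one_right e', inv_eq_of_mul_eq_one_right hvv])
    have h6 : v * T ≠ T := fun e' => hv1 (mul_eq_right.1 e')
    have h7 : v * T ≠ v := fun e' => hT1 (mul_eq_left.1 e')
    rw [Set.ncard_insert_of_notMem, Set.ncard_insert_of_notMem, Set.ncard_pair h7.symm]
    · simp [hvT.symm, h6.symm]
    · simp [hT1.symm, hv1.symm, h5.symm]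
  have hVC : V ≤ C := by
    intro x hx
    rcases hx with rfl | rfl | rfl | rfl
    exacts [one_mem _, hTC, hvC, mul_mem hvC hTC]
  have h28 : 28 ∣ Nat.card C := by
    have h7 : 7 ∣ Nat.card C := by
      rw [← hp7, ← Nat.card_zpowers]; exact Subgroup.card_dvd_of_le (Subgroup.zpowers_le.2 heC)
    have h4' : 4 ∣ Nat.card C := hVcard ▸ Subgroup.card_dvd_of_le hVC
    omega
  have h177 : (177408000 : ℕ) = 7 ^ 1 * 25344000 := by norm_num
  have hP : Nat.card (Subgroup.zpowers e) = 7 ^ (Nat.card (Mg a b c)).factorization 7 := by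
    rw [Nat.card_zpowers, hp7, m_card h, h177, Nat.factorization_mul (by norm_num) (by norm_num),
      Finsupp.add_apply, Nat.Prime.factorization_pow (by norm_num),
      Nat.factorization_eq_zero_of_not_dvd (show ¬ (7 : ℕ) ∣ 25344000 by norm_num)]
    simp
  set P : Sylow 7 (Mg a b c) := Sylow.ofCard _ hP with hPdef
  have hPe : (P : Subgroup (Mg a b c)) = Subgroup.zpowers e := rfl
  -- 56 is excluded by the number of Sylow 7-subgroups
  have hC28 : Nat.card C = 28 := by
    obtain ⟨k, hk⟩ := h28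
    have := card_sevenC_le h
    have hpos : 0 < Nat.card C := Nat.card_pos
    rw [← hC] at this
    rcases (show k = 1 ∨ k = 2 by omega) with rfl | rfl
    · exact hk
    exfalso
    set N := Subgroup.normalizer (Subgroup.zpowers e : Set (Mg a b c)) with hN
    have hPZ : ∀ n : N, ∀ x ∈ Subgroup.zpowers e, n.1 * x * n.1⁻¹ ∈ Subgroup.zpowers e :=
      fun n x hx => (Subgroup.mem_normalizer_iff.1 n.2 x).1 hx
    let φ : N →* MulAut (Subgroup.zpowers e) := Subgroup.normalizerMonoidHom _
    have hker : φ.ker = C.subgroupOf N := by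
      rw [Subgroup.normalizerMonoidHom_ker, hC, sevenC, ← he]
      congr 1
      rw [Subgroup.zpowers_eq_closure, Subgroup.centralizer_closure]
    -- the automiser has order six
    set n := mW a b c sevenAut with hn
    have hne3 : n⁻¹ * e * n = e ^ 3 := by
      rw [pow_succ, pow_two, hn, he, seven, ← mW_invW haW, ← mW_append, ← mW_append,
        ← mW_append, ← mW_append]
      exact mW_of_kW h (ok_append (ok_append (invW_lt haW) hwW) haW)
        (ok_append (ok_append hwW hwW) hwW) (by simpa [List.append_assoc] using hau)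
    have hgen3 : Subgroup.zpowers (e ^ 3) = Subgroup.zpowers e := by
      refine Subgroup.eq_of_le_of_card_ge (Subgroup.zpowers_le.2 (pow_mem (Subgroup.mem_zpowers e) 3)) ?_
      rw [Nat.card_zpowers, Nat.card_zpowers, Nat.Coprime.orderOf_pow (show (orderOf e).Coprime 3 by rw [hp7]; norm_num)]
    have hnN : n⁻¹ ∈ N := by
      exact mem_normalizer_zpowers (by rw [inv_inv, hne3, hgen3])
    have hcardA : Nat.card (MulAut (Subgroup.zpowers e)) = 6 := by
      rw [IsCyclic.card_mulAut, Nat.card_zpowers, hp7]; decide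
    have hordA : orderOf (φ ⟨n⁻¹, hnN⟩) = 6 := by
      have key : ∀ j : ℕ, ((φ ⟨n⁻¹, hnN⟩ ^ j) ⟨e, Subgroup.mem_zpowers e⟩ : Mg a b c) = e ^ (3 ^ j) := by
        intro j
        induction j with
        | zero => simp
        | succ j ih =>
          rw [pow_succ', MulAut.mul_apply]
          show n⁻¹ * ((φ ⟨n⁻¹, hnN⟩ ^ j) _ : Subgroup.zpowers e).1 * n⁻¹⁻¹ = _
          rw [ih, inv_inv]
          calc n⁻¹ * e ^ 3 ^ j * n = (n⁻¹ * e * n) ^ 3 ^ j := by
                rw [show n⁻¹ * e * n = MulAut.conj n⁻¹ e by simp, ← map_pow]; simp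
            _ = e ^ 3 ^ (j + 1) := by rw [hne3, ← pow_mul, pow_succ']
      have hd : orderOf (φ ⟨n⁻¹, hnN⟩) ∣ 6 := hcardA ▸ orderOf_dvd_natCard _
      by_contra h6
      have h123 : orderOf (φ ⟨n⁻¹, hnN⟩) ∈ ({1, 2, 3} : Finset ℕ) := by
        have := Nat.le_of_dvd (by norm_num) hd
        have hpos' := orderOf_pos (φ ⟨n⁻¹, hnN⟩)
        generalize orderOf (φ ⟨n⁻¹, hnN⟩) = o at *
        interval_cases o <;> simp_all
      have hkey := key (orderOf (φ ⟨n⁻¹, hnN⟩))
      rw [pow_orderOf_eq_one] at hkey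
      have hmod : (1 : ℕ) ≡ 3 ^ orderOf (φ ⟨n⁻¹, hnN⟩) [MOD 7] := by
        rw [← hp7]
        exact pow_eq_pow_iff_modEq.1 (by rw [pow_one]; exact hkey)
      simp only [Finset.mem_insert, Finset.mem_singleton] at h123
      rcases h123 with e' | e' | e' <;> rw [e'] at hmod <;> exact absurd hmod (by decide)
    have hsurj : φ.range = ⊤ := Subgroup.eq_top_of_card_eq _ (le_antisymm
      (Subgroup.card_le_card_group _) (by
        rw [hcardA, ← hordA, ← Nat.card_zpowers]
        exact Subgroup.card_le_of_le (Subgroup.zpowers_le.2 ⟨_, rfl⟩)))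
    have hCN : C ≤ N := by
      rw [hC, sevenC, ← he]
      intro x hx
      have hx' : x * e = e * x := Subgroup.mem_centralizer_singleton_iff.1 hx
      exact mem_normalizer_zpowers (by rw [hx', mul_inv_cancel_right])
    have hcardN : Nat.card N = 336 := by
      rw [Subgroup.card_eq_card_quotient_mul_card_subgroup φ.ker,
        Nat.card_congr (QuotientGroup.quotientKerEquivRange φ).toEquiv, hsurj, Subgroup.card_top,
        hcardA, hker, Nat.card_congr (Subgroup.subgroupOfEquivOfLe hCN).toEquiv, hk]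
    have hcount := card_sylow_modEq_one 7 (Mg a b c)
    rw [P.card_eq_index_normalizer] at hcount
    change (Subgroup.normalizer (Subgroup.zpowers e : Set (Mg a b c))).index ≡ 1 [MOD 7] at hcount
    rw [← hN] at hcount
    have hidx := N.card_mul_index
    rw [hcardN, m_card h] at hidx
    have : N.index = 528000 := by omega
    rw [this] at hcount
    exact absurd hcount (by decide)
  -- conjugate into the centraliser
  have hsC : ∃ g : Mg a b c, g * s * g⁻¹ ∈ C := by
    have hp : IsPGroup 7 (Subgroup.zpowers f) :=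
      IsPGroup.of_card (n := 1) (by rw [Nat.card_zpowers, hf, pow_one])
    obtain ⟨Q, hQ⟩ := hp.exists_le_sylow
    obtain ⟨g, hg⟩ := MulAction.exists_smul_eq (Mg a b c) Q P
    refine ⟨g, ?_⟩
    have hfe : g * f * g⁻¹ ∈ Subgroup.zpowers e := by
      have : MulAut.conj g • f ∈ MulAut.conj g • (Q : Subgroup (Mg a b c)) :=
        Subgroup.smul_mem_pointwise_smul _ _ _ (hQ (Subgroup.mem_zpowers f))
      rw [← Sylow.pointwise_smul_def, ← Sylow.smul_def, hg, hPe] at this
      exact this
    have hgen : Subgroup.zpowers (g * f * g⁻¹) = Subgroup.zpowers e := by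
      refine Subgroup.eq_of_le_of_card_ge (Subgroup.zpowers_le.2 hfe) ?_
      rw [Nat.card_zpowers, Nat.card_zpowers, hp7, show g * f * g⁻¹ = MulAut.conj g f from rfl,
        MulEquiv.orderOf_eq, hf]
    obtain ⟨j, hj⟩ := Subgroup.mem_zpowers_iff.1 (show e ∈ Subgroup.zpowers (g * f * g⁻¹) from
      hgen ▸ Subgroup.mem_zpowers e)
    rw [hC, sevenC, ← he, Subgroup.mem_centralizer_singleton_iff, ← hj]
    exact (((Commute.conj_iff g).2 hfs).zpow_right j).eq
  obtain ⟨g, hg⟩ := hsC
  set x := g * s * g⁻¹ with hx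
  have hx2 : x * x = 1 := by
    rw [hx, show g * s * g⁻¹ * (g * s * g⁻¹) = g * (s * s) * g⁻¹ by group, hs2]; group
  have hx1 : x ≠ 1 := fun e' => hs1 (conj_eq_one_iff.1 e')
  obtain ⟨g', -, hgV⟩ : ∃ g' ∈ C, g' * x * g'⁻¹ ∈ V := by
    have hVc : Nat.card (V.subgroupOf C) = 2 ^ (Nat.card C).factorization 2 := by
      rw [Nat.card_congr (Subgroup.subgroupOfEquivOfLe hVC).toEquiv, hVcard, hC28,
        show (28 : ℕ) = 2 ^ 2 * 7 from by norm_num, Nat.factorization_mul (by norm_num) (by norm_num),
        Finsupp.add_apply, Nat.Prime.factorization_pow Nat.prime_two,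
        Nat.factorization_eq_zero_of_not_dvd (show ¬ (2 : ℕ) ∣ 7 by norm_num)]
      simp
    have hxo : orderOf (⟨x, hg⟩ : C) = 2 := by
      rw [← Subgroup.orderOf_coe]; exact orderOf_eq_prime (by rw [pow_two, hx2]) hx1
    have hp : IsPGroup 2 (Subgroup.zpowers (⟨x, hg⟩ : C)) :=
      IsPGroup.of_card (n := 1) (by rw [Nat.card_zpowers, hxo, pow_one])
    obtain ⟨Q, hQ⟩ := hp.exists_le_sylow
    obtain ⟨y, hy⟩ := MulAction.exists_smul_eq C Q (Sylow.ofCard _ hVc)
    have : MulAut.conj y • (⟨x, hg⟩ : C) ∈ MulAut.conj y • (Q : Subgroup C) :=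
      Subgroup.smul_mem_pointwise_smul _ _ _ (hQ (Subgroup.mem_zpowers _))
    rw [← Sylow.pointwise_smul_def, ← Sylow.smul_def, hy] at this
    exact ⟨y.1, y.2, this⟩
  have hct' : mW a b c [0] * (z * T) * (mW a b c [0])⁻¹ = z := by
    have h01 : mW a b c [1] = (mW a b c [0])⁻¹ := by simp [mW, evalW, elt]
    rw [hz, hT, ← h01, ← mW_append, ← mW_append, ← mW_append]
    exact mW_of_kW h (by decide) h4 (by simpa [List.append_assoc] using hct)
  rcases hgV with e' | e' | e' | e'
  · exact absurd (conj_eq_one_iff.1 e') hx1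
  · left
    calc s = (g' * g)⁻¹ * (g' * x * g'⁻¹) * (g' * g) := by rw [hx]; group
      _ = (g' * g)⁻¹ * (T * (g' * g)) := by rw [e', mul_assoc]
      _ = T := by rw [(hTc _).eq]; group
  · exact Or.inr ⟨w⁻¹ * g' * g, by
      calc w⁻¹ * g' * g * s * (w⁻¹ * g' * g)⁻¹ = w⁻¹ * (g' * x * g'⁻¹) * w := by rw [hx]; group
        _ = z := by rw [e', hvz]; group⟩
  · exact Or.inr ⟨mW a b c [0] * w⁻¹ * g' * g, by
      calc mW a b c [0] * w⁻¹ * g' * g * s * (mW a b c [0] * w⁻¹ * g' * g)⁻¹
          = mW a b c [0] * (w⁻¹ * (g' * x * g'⁻¹) * w) * (mW a b c [0])⁻¹ := by rw [hx]; group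
        _ = mW a b c [0] * (z * T) * (mW a b c [0])⁻¹ := by
            rw [e', hvz]
            rw [show w⁻¹ * (w * z * w⁻¹ * T) * w = z * (w⁻¹ * (T * w)) by group, (hTc w).eq,
              show w⁻¹ * (w * T) = T by group]
        _ = z := hct'⟩

end CfsgLib.HNRec.Fusion
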