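import Cfsg.Agent.Lib.HNRec.Fusion.Classes
import Cfsg.Agent.Lib.HNRec.Fusion.Seven

/-!
# Reduction of the fusion problem

If `t` is fused to the class of `c`, some element exchanges `t` and `c`.  Otherwise both U1 and X0
are fused to `t`.
-/

set_option autoImplicit false
set_option maxRecDepth 100000
set_option linter.style.haveILetI false

namespace CfsgLib.HNRec.Fusion

open CfsgLib.HNxyz CfsgLib.HNIndex

variable {G : Type} [Group G] {t a b c : G}

theorem repW_ok {r : ℕ} (hr : r < 5) : ∀ g ∈ repW r, g < 6 := rep_ok hr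

/-- The value of the conjugate of a representative. -/
theorem eval_cjWord (a b c : G) {r : ℕ} {w : List ℕ} (hw : okW w = true) :
    evalW (elt a b c) (cjWord r w) =
      (evalW (elt a b c) w)⁻¹ * repG a b c r * evalW (elt a b c) w := by
  rw [cjWord, evalW_append, evalW_append, evalW_invW _ _ _ (invW_lt (okW_iff.1 hw)), repG]

theorem eq_of_kW (hK : Coord t a b c) {u v : List ℕ} (hu : ∀ g ∈ u, g < 6) (hv : ∀ g ∈ v, g < 6)
    (e : beqL (kW u) (kW v) = true) : evalW (elt a b c) u = evalW (elt a b c) v := by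
  rw [← pr_mW, ← pr_mW, mW_of_kW hK.rels hu hv (beqL_iff.1 e)]

theorem ne_of_kW (hK : Coord t a b c) {u v : List ℕ} (hu : ∀ g ∈ u, g < 6) (hv : ∀ g ∈ v, g < 6)
    (e : (!beqL (kW u) (kW v)) = true) : evalW (elt a b c) u ≠ evalW (elt a b c) v := by
  intro h
  rw [← pr_mW, ← pr_mW] at h
  rw [beqL_iff.2 (kW_of_mW hu hv (pr_inj hK h))] at e
  exact absurd e (by decide)

theorem comm_t (hK : Coord t a b c) (w : List ℕ) : evalW (elt a b c) w * t = t * evalW (elt a b c) w := by
  rw [← pr_mW]; exact pr_comm hK _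

theorem eval_t (hK : Coord t a b c) : evalW (elt a b c) [0, 0] = t := by
  rw [evalW_cons, evalW_cons, evalW_nil, mul_one]; exact hK.sq

theorem t_sq (hK : Coord t a b c) : t * t = 1 := by
  rw [← eval_t hK, ← evalW_append, ← evalW_nil (elt a b c)]
  exact eq_of_kW hK (by decide) (by simp) (by decide +kernel)

/-- A fused involution pair: the image of a commuting conjugate of a fused element. -/
theorem step [Finite G] (hK : Coord t a b c) {r : ℕ} (hr : r < 5) (hc : IsConj t (repG a b c r))
    {cw cw' : List ℕ} {r' : ℕ}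
    (h : (let w := cjWord r cw
     okW w && okW cw && okW cw' && beqL (kW (w ++ repW r)) (kW (repW r ++ w)) &&
      beqL (kW (w ++ repW r)) (kW (cjWord r' cw')) && !beqL (kW w) (kW (repW r))) = true)
    (hr' : r' < 5) :
    ∃ k ∈ ([1, 3, 4] : List ℕ), IsConj t (repG a b c k) ∧
      IsConj (repG a b c r') (repG a b c k * t) := by
  simp only [Bool.and_eq_true] at h
  obtain ⟨⟨⟨⟨⟨hw, hcw⟩, hcw'⟩, hcomm⟩, hprod⟩, hne⟩ := h
  have hwW := okW_iff.1 hw
  set u := repG a b c r with hu
  set w := evalW (elt a b c) (cjWord r cw) with hwdef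
  set g := evalW (elt a b c) cw with hgdef
  have hwu : w = g⁻¹ * u * g := eval_cjWord a b c hcw
  have e1 : w * u = u * w := by
    rw [hwdef, hu, repG, ← evalW_append, ← evalW_append]
    exact eq_of_kW hK (ok_append hwW (repW_ok hr)) (ok_append (repW_ok hr) hwW) hcomm
  have hwu2 : w * u = (evalW (elt a b c) cw')⁻¹ * repG a b c r' * evalW (elt a b c) cw' := by
    rw [hwdef, hu, repG, ← evalW_append, ← eval_cjWord a b c hcw']
    exact eq_of_kW hK (ok_append hwW (repW_ok hr))
      (ok_append (ok_append (invW_lt (okW_iff.1 hcw')) (repW_ok hr')) (okW_iff.1 hcw')) hprod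
  have hne' : w ≠ u := by
    rw [hwdef, hu, repG]; exact ne_of_kW hK hwW (repW_ok hr) hne
  obtain ⟨h, hh⟩ := isConj_iff.1 hc.symm
  set s := h * w * h⁻¹ with hs
  have hst : s * t = t * s := by
    rw [hs, ← hh]
    calc h * w * h⁻¹ * (h * u * h⁻¹) = h * (w * u) * h⁻¹ := by group
      _ = h * (u * w) * h⁻¹ := by rw [e1]
      _ = h * u * h⁻¹ * (h * w * h⁻¹) := by group
  have hws : IsConj t s :=
    (hc.trans (isConj_iff.2 ⟨g⁻¹, by rw [inv_inv]⟩ : IsConj u (g⁻¹ * u * g))).trans
      (hwu ▸ isConj_iff.2 ⟨h, rfl⟩)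
  have hs1 : s ≠ 1 := fun e => by
    obtain ⟨k, hk⟩ := isConj_iff.1 hws
    rw [e] at hk
    exact hK.ne (conj_eq_one_iff.1 hk)
  have hs2 : s * s = 1 := by
    obtain ⟨k, hk⟩ := isConj_iff.1 hws
    rw [← hk, show k * t * k⁻¹ * (k * t * k⁻¹) = k * (t * t) * k⁻¹ by group, t_sq hK]; group
  obtain ⟨k, hk, m, hm, hms⟩ := exists_class hK hs1 hs2 hst
  have hk' : IsConj t (repG a b c k) := hws.trans (isConj_iff.2 ⟨m, hms⟩)
  have hmem : k ∈ ([1, 3, 4] : List ℕ) := by
    interval_cases k
    · exfalso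
      refine hne' ?_
      rw [repG_zero hK] at hms
      have hst' : s = t := by
        calc s = m⁻¹ * (m * s * m⁻¹) * m := by group
          _ = m⁻¹ * (t * m) := by rw [hms, mul_assoc]
          _ = t := by rw [← hm]; group
      calc w = h⁻¹ * s * h := by rw [hs]; group
        _ = h⁻¹ * (h * u * h⁻¹) * h := by rw [hst', hh]
        _ = u := by group
    · simp
    · exact absurd hk' (not_fused_two hK)
    · simp
    · simp
  refine ⟨k, hmem, hk', ?_⟩
  have e2 : repG a b c k * t = (m * h) * (w * u) * (m * h)⁻¹ := by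
    calc repG a b c k * t = m * s * m⁻¹ * t := by rw [hms]
      _ = m * s * (m⁻¹ * (t * m)) * m⁻¹ := by group
      _ = m * s * (h * u * h⁻¹) * m⁻¹ := by rw [← hm, hh]; group
      _ = (m * h) * (w * u) * (m * h)⁻¹ := by rw [hs]; group
  rw [e2, hwu2]
  exact isConj_iff.2 ⟨m * h * (evalW (elt a b c) cw')⁻¹, by group⟩

/-- Given some fusion, either the class of `c` is fused to `t`, or U1 and X0 both are. -/
theorem fused_cases_of_fused [Finite G] (hK : Coord t a b c)
    (hf : ∃ r ∈ ([1, 3, 4] : List ℕ), IsConj t (repG a b c r)) :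
    IsConj t c ∨ (¬ IsConj t c ∧ IsConj t (repG a b c 1) ∧ IsConj t (repG a b c 4)) := by
  by_cases hc : IsConj t c
  · exact Or.inl hc
  refine Or.inr ⟨hc, ?_⟩
  have hc3 : ¬ IsConj t (repG a b c 3) := by rwa [repG_three hK]
  have hU0 : repG a b c 1 * t = repG a b c 2 := by
    rw [repG, repG, ← eval_t hK, ← evalW_append]
    exact eq_of_kW hK (ok_append (repW_ok (by decide)) (by decide)) (repW_ok (by decide)) wit_checks.2.2.1
  have hX : IsConj (repG a b c 4 * t) (repG a b c 4) := by
    refine isConj_iff.2 ⟨evalW (elt a b c) [3, 0, 2], ?_⟩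
    rw [repG, ← eval_t hK, ← evalW_append, ← evalW_invW _ _ _ (invW_lt (by decide : ∀ g ∈ ([3, 0, 2] : List ℕ), g < 6)),
      ← evalW_append, ← evalW_append]
    refine eq_of_kW hK ?_ (repW_ok (by decide)) ?_
    · exact ok_append (ok_append (by decide) (ok_append (repW_ok (by decide)) (by decide))) (invW_lt (by decide))
    · simpa [List.append_assoc] using wit_checks.2.2.2
  -- U1 fused forces X0, and X0 fused forces U1
  have h14 : IsConj t (repG a b c 1) → IsConj t (repG a b c 4) := by
    intro h1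
    obtain ⟨k, hk, hkc, hkp⟩ := step hK (by decide) h1 (r' := 1) wit_checks.1 (by decide)
    simp only [List.mem_cons, List.not_mem_nil, or_false] at hk
    rcases hk with rfl | rfl | rfl
    · exact absurd (h1.trans (hU0 ▸ hkp)) (not_fused_two hK)
    · exact absurd hkc hc3
    · exact hkc
  have h41 : IsConj t (repG a b c 4) → IsConj t (repG a b c 1) := by
    intro h4
    obtain ⟨k, hk, hkc, hkp⟩ := step hK (by decide) h4 (r' := 1) wit_checks.2.1 (by decide)
    simp only [List.mem_cons, List.not_mem_nil, or_false] at hk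
    rcases hk with rfl | rfl | rfl
    · exact hkc
    · exact absurd hkc hc3
    · exact h4.trans (hX.symm.trans hkp.symm)
  obtain ⟨r, hr, hrc⟩ := hf
  simp only [List.mem_cons, List.not_mem_nil, or_false] at hr
  rcases hr with rfl | rfl | rfl
  · exact ⟨hrc, h14 hrc⟩
  · exact absurd hrc hc3
  · exact ⟨h41 hrc, hrc⟩

/-- Either the class of `c` is fused to `t`, or U1 and X0 both are. -/
theorem fused_cases [Finite G] [IsSimpleGroup G] (hK : Coord t a b c) :
    IsConj t c ∨ (¬ IsConj t c ∧ IsConj t (repG a b c 1) ∧ IsConj t (repG a b c 4)) :=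
  fused_cases_of_fused hK (exists_fused hK)

/-- If `t` is conjugate to `c`, some element exchanges them. -/
theorem exchange_of_fused [Finite G] (hK : Coord t a b c) (hc : IsConj t c) : Exchange t c := by
  haveI := m_finite hK.rels
  obtain ⟨h, hh⟩ := isConj_iff.1 hc.symm
  set g := evalW (elt a b c) sevenCv with hg
  obtain ⟨hk1, hk2, hk3, hk4, he7, hne, hve, hau, hct, hz1, hzt, hzz, htt⟩ := seven_checks
  have hwW := okW_iff.1 hk1
  have hcW := okW_iff.1 hk3
  have h4 : ∀ x ∈ ([4] : List ℕ), x < 6 := by decide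
  have hc4 : evalW (elt a b c) [4] = c := by rw [evalW_cons, evalW_nil, mul_one]; rfl
  set e := evalW (elt a b c) sevenW with hedef
  have hve' : Commute (g * c * g⁻¹) e := by
    show _ * _ = _ * _
    rw [← hc4, hg, hedef, ← evalW_invW _ _ _ (invW_lt hcW), ← evalW_append, ← evalW_append,
      ← evalW_append, ← evalW_append]
    exact eq_of_kW hK (ok_append (okW_iff.1 hk2) hwW) (ok_append hwW (okW_iff.1 hk2)) hve
  set e' := g⁻¹ * e * g with he'
  have hce : Commute c e' := by
    have := (Commute.conj_iff g⁻¹).2 hve'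
    simpa [he', mul_assoc] using this
  have hte : Commute t e' := by
    rw [he', hg, hedef, ← evalW_invW _ _ _ (invW_lt hcW), ← evalW_append, ← evalW_append]
    exact (comm_t hK _).symm
  have heo : orderOf e' = 7 := by
    have h1 : orderOf e' = orderOf e := by
      rw [he', show g⁻¹ * e * g = MulAut.conj g⁻¹ e by simp, MulEquiv.orderOf_eq]
    haveI : Fact (Nat.Prime 7) := ⟨by norm_num⟩
    have hok7 : ∀ x ∈ (List.replicate 7 sevenW).flatten, x < 6 := fun x hx => by
      simp only [List.mem_flatten, List.mem_replicate] at hx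
      obtain ⟨_, ⟨-, rfl⟩, hx⟩ := hx
      exact hwW x hx
    have h7 : e ^ 7 = 1 := by
      have := eq_of_kW hK hok7 (v := []) (by simp) (by simpa [kW, img] using he7)
      rw [evalW_nil] at this
      rw [← this]
      simp only [List.replicate, List.flatten_cons, List.flatten_nil, evalW_append, evalW_nil, mul_one]
      simp only [pow_succ, pow_zero, one_mul, mul_assoc, hedef]
    rw [h1]
    refine orderOf_eq_prime h7 ?_
    have := ne_of_kW hK hwW (v := []) (by simp) (by simpa [kW, img] using hne)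
    rwa [evalW_nil] at this
  set s := h * t * h⁻¹ with hs
  have hcw : c * t = t * c := by rw [← hc4]; exact comm_t hK _
  have hst : s * t = t * s := by
    calc s * t = h * t * h⁻¹ * (h * c * h⁻¹) := by rw [hs, hh]
      _ = h * (t * c) * h⁻¹ := by group
      _ = h * (c * t) * h⁻¹ := by rw [hcw]
      _ = h * c * h⁻¹ * (h * t * h⁻¹) := by group
      _ = t * s := by rw [hs, hh]
  set f := h * e' * h⁻¹ with hf
  have hft : f * t = t * f := by
    rw [hf, ← hh]
    calc h * e' * h⁻¹ * (h * c * h⁻¹) = h * (e' * c) * h⁻¹ := by group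
      _ = h * (c * e') * h⁻¹ := by rw [hce.eq]
      _ = h * c * h⁻¹ * (h * e' * h⁻¹) := by group
  have hfs : Commute s f := (Commute.conj_iff h).2 hte
  obtain ⟨S, hS⟩ := exists_pr hK hst
  obtain ⟨F, hF⟩ := exists_pr hK hft
  have hinj := pr_inj hK
  have hs1 : s ≠ 1 := fun e => hK.ne (conj_eq_one_iff.1 e)
  have hFo : orderOf F = 7 := by
    rw [← orderOf_injective (pr a b c) hinj F, hF, hf,
      show h * e' * h⁻¹ = MulAut.conj h e' by simp, MulEquiv.orderOf_eq, heo]
  rcases seven_cases hK.rels (s := S) (f := F) (fun e => hs1 (by rw [← hS, e, map_one]))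
    (hinj (by
      rw [map_mul, map_one, hS, hs,
        show h * t * h⁻¹ * (h * t * h⁻¹) = h * (t * t) * h⁻¹ by group, t_sq hK]; group))
    hFo (hinj (by rw [map_mul, map_mul, hS, hF]; exact hfs.eq)) with hS' | ⟨m, hm⟩
  · exfalso
    have hst' : s = t := by rw [← hS, hS', pr_mW, eval_t hK]
    have hct' : c = t := by
      calc c = h⁻¹ * (h * c * h⁻¹) * h := by group
        _ = h⁻¹ * s * h := by rw [hh, hst']
        _ = t := by rw [hs]; group
    exact ne_of_kW hK h4 (by decide) hzt ((hc4.trans hct').trans (eval_t hK).symm)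
  · refine ⟨pr a b c m * h, ?_, ?_⟩
    · calc pr a b c m * h * t * (pr a b c m * h)⁻¹ = pr a b c m * s * (pr a b c m)⁻¹ := by rw [hs]; group
        _ = c := by rw [← hS, ← map_inv, ← map_mul, ← map_mul, hm, pr_mW, hc4]
    · calc pr a b c m * h * c * (pr a b c m * h)⁻¹
          = pr a b c m * (h * c * h⁻¹) * (pr a b c m)⁻¹ := by group
        _ = t := by rw [hh, pr_comm hK m]; group

end CfsgLib.HNRec.Fusion
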