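import Cfsg.Agent.Lib.HNRec.Fusion.SylowDefs

/-!
# The checks on the Sylow 2-subgroup of the model
-/

set_option autoImplicit false
set_option maxRecDepth 100000

namespace CfsgLib.HNRec.Fusion

open CfsgLib.HNxyz CfsgLib.HNIndex

theorem gen_checks : (List.range 4).all genOk = true := by decide +kernel

theorem elem_checks : (List.range 2048).all elemOk = true := by decide +kernel

theorem one_checks : Nat.blt onePos 2048 = true ∧ beqL (keyAt onePos) base = true := by decide +kernel

theorem sorted_checks :
    (List.range 2047).all (fun i => Nat.blt (pack (keyAt i)) (pack (keyAt (i + 1)))) = true := by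
  decide +kernel

theorem square_checks : (List.range 2048).all squareOk = true := by decide +kernel

theorem invol_checks : invols.all involOk = true := by decide +kernel

theorem rep_checks : ((List.range 5).all fun r => okW (repW r)) = true ∧
    ((List.range 3).all fun r => (List.range 4).all fun j =>
      beqL (kW (gWord j ++ repW r)) (kW (repW r ++ gWord j))) = true ∧
    beqL (kW (repW 0)) (kW [0, 0]) = true ∧ beqL (kW (repW 3)) (kW [4]) = true := by
  decide +kernel

theorem roots_checks : rootsOf 0 = 80 ∧ rootsOf 1 = 80 ∧ rootsOf 2 = 112 := by decide +kernel

end CfsgLib.HNRec.Fusion
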